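import Cfsg.Agent.Helper22.BG12b
import Cfsg.Agent.Helper1.Hall

/-!
# CALL S1427, piece P4 (helper20 for helper54)

A subgroup of `M` of order coprime to `|M_σ|` lies in a complement of `M_σ` in `M`.
-/

open Cfsg Subgroup Cfsg.Agent.Helper23 Cfsg.Agent.Helper35 Cfsg.Agent.Helper22
open scoped Pointwise

universe u

namespace Cfsg.Agent.Helper20

variable {G : Type u} [Group G] [Finite G]

theorem bg13_exists_compl_ge (hG : IsMinSimpleOddOrder G) (hU : BGUniq G) {M : Subgroup G}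
    (hM : IsCoatom M) {K : Subgroup G} (hKM : K ≤ M)
    (hK : (Nat.card K).Coprime (Nat.card (sigmaCore M))) :
    ∃ E : Subgroup G, IsComplIn E (sigmaCore M) M ∧ K ≤ E := by
  classical
  haveI : Group.IsSolvable ↥M := uq_isSolvable hG hM.1
  obtain ⟨⟨hSM, hS1, hS2⟩, -, -⟩ := bg10_sigma_hall hG hU hM
  have hnormS : M ≤ normalizer (sigmaCore M : Set G) := le_normalizer_piCoreOf (sigma M) M
  obtain ⟨S, hS⟩ : ∃ S : Subgroup G, S = sigmaCore M := ⟨_, rfl⟩
  rw [← hS] at hSM hS1 hS2 hK hnormS ⊢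
  have hcard : Nat.card ↥M = S.relIndex M * Nat.card S := by
    have h := Subgroup.relIndex_mul_relIndex ⊥ S M bot_le hSM
    rw [Subgroup.relIndex_bot_left, Subgroup.relIndex_bot_left] at h
    rw [← h, mul_comm]
  have hmn : (S.relIndex M).Coprime (Nat.card S) := by
    apply Nat.Coprime.symm
    apply Nat.coprime_of_dvd
    intro p hp hpS hpI
    exact hS2 p hp (hS1 p hp hpS) hpI
  have hK' : (Nat.card (K.subgroupOf M)).Coprime (Nat.card S) := by
    rw [Nat.card_congr (Subgroup.subgroupOfEquivOfLe hKM).toEquiv]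
    exact hK
  obtain ⟨H, hHcard, hKH⟩ := Cfsg.Agent.Helper1.hall_le_aux (Nat.card ↥M) ↥M (S.relIndex M)
    (Nat.card S) rfl hcard hmn (K.subgroupOf M) hK'
  obtain ⟨E, hE⟩ : ∃ E : Subgroup G, E = H.map M.subtype := ⟨_, rfl⟩
  have hEM : E ≤ M := by rw [hE]; exact Subgroup.map_subtype_le H
  have hEcard : Nat.card E = S.relIndex M := by
    rw [hE, Subgroup.card_map_of_injective M.subtype_injective, hHcard]
  have hKE : K ≤ E := by
    intro k hk
    rw [hE]
    exact ⟨⟨k, hKM hk⟩, hKH (Subgroup.mem_subgroupOf.2 hk), rfl⟩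
  have hinf : E ⊓ S = ⊥ := by
    apply Subgroup.eq_bot_of_card_eq
    have h1 : Nat.card ↥(E ⊓ S) ∣ S.relIndex M := by
      rw [← hEcard]; exact Subgroup.card_dvd_of_le inf_le_left
    have h2 : Nat.card ↥(E ⊓ S) ∣ Nat.card S := Subgroup.card_dvd_of_le inf_le_right
    have h3 := Nat.dvd_gcd h1 h2
    rw [hmn.gcd_eq_one] at h3
    exact Nat.dvd_one.1 h3
  have hnorm : E ≤ normalizer (S : Set G) := hEM.trans hnormS
  have hsup : S ⊔ E = M := by
    apply Subgroup.eq_of_le_of_card_ge (sup_le hSM hEM)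
    rw [Cfsg.Agent.Helper35.card_sup_of_le_normalizer hnorm (by rw [inf_comm]; exact hinf),
      hEcard, hcard, mul_comm]
  refine ⟨E, ⟨hEM, hSM, hinf, ?_⟩, hKE⟩
  intro x hx
  have hx' : x⁻¹ ∈ S ⊔ E := by rw [hsup]; exact M.inv_mem hx
  obtain ⟨s, hs, e, he, hxe⟩ :=
    Cfsg.Agent.Helper35.exists_mul_of_mem_sup_of_le_normalizer hnorm hx'
  refine ⟨e⁻¹, E.inv_mem he, s⁻¹, S.inv_mem hs, ?_⟩
  rw [← mul_inv_rev, ← hxe, inv_inv]

end Cfsg.Agent.Helper20
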