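import Cfsg.Agent.S1417
import Cfsg.Agent.S1428

set_option autoImplicit false

namespace Cfsg.Agent.Helper20

open Cfsg Subgroup

universe u

variable {G : Type u} [Group G] [Finite G]

/-- NA (Z2). `P` does not centralize `A`. -/
theorem bgz_not_cent (hG : IsMinSimpleOddOrder G) {M E P A : Subgroup G} {p s : ℕ}
    (hM : IsCoatom M) (hE : IsComplIn E (sigmaCore M) M) (hp : p ∈ tau1 M) (hPE : P ≤ E)
    (hP : Nat.card P = p) (hD : sigmaCore M ⊓ centralizer (P : Set G) ≠ ⊥) (hs : s ∈ tau2 M)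
    (hAE : A ≤ E) (hA : IsElementaryAbelian s A) (hAc : Nat.card A = s ^ 2) :
    ¬ A ≤ centralizer (P : Set G) := by
  intro hAP
  have hsp : s.Prime := hs.1
  haveI : Fact s.Prime := ⟨hsp⟩
  have h17 := Cfsg.Agent.S1417.result hG M hM s hs A ⟨hAE.trans hE.1, hA, hAc⟩
  have h4 : sigmaCore M ⊓ centralizer (A : Set G) = ⊥ := h17.2.2.2.1
  apply hD
  rw [eq_bot_iff, ← h4]
  intro d hd
  have hd' : d ∈ sigmaCore M ∧ d ∈ centralizer (P : Set G) := Subgroup.mem_inf.1 hd
  refine Subgroup.mem_inf.2 ⟨hd'.1, ?_⟩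
  rw [Subgroup.mem_centralizer_iff]
  intro a ha
  by_cases ha1 : a = 1
  · subst ha1; simp
  · have hord : orderOf a = s := orderOf_eq_prime (hA.2 a ha) ha1
    have hR : (Nat.card (Subgroup.zpowers a)).Prime := by
      rw [Nat.card_zpowers, hord]; exact hsp
    have hRE : Subgroup.zpowers a ≤ E ⊓ centralizer (P : Set G) := by
      rw [Subgroup.zpowers_le]; exact ⟨hAE ha, hAP ha⟩
    have h28 := Cfsg.Agent.S1428.result hG M hM E hE p hp P hPE hP (Subgroup.zpowers a) hRE hR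
    have hd2 : d ∈ centralizer ((Subgroup.zpowers a : Subgroup G) : Set G) :=
      (Subgroup.mem_inf.1 (h28 hd)).2
    rw [Subgroup.mem_centralizer_iff] at hd2
    exact hd2 a (Subgroup.mem_zpowers a)

end Cfsg.Agent.Helper20
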