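import Cfsg.Agent.Helper2.BG147Defs
import Cfsg.Agent.Helper68.BG14R30
import Cfsg.Agent.Helper24.BG13V
import Cfsg.Agent.S1378

/-!
# Piece PA of CALL S1366 (B&G Theorem 14.7): first consequences for a maximal subgroup over
`N_G(X)`, `X ≤ K` of prime order
-/

set_option autoImplicit false

namespace Cfsg.Agent.Helper20

open Cfsg Subgroup

universe u

variable {G : Type u} [Group G] [Finite G]

/-- (local copy of A1a) the `σ`-cores of two non-conjugate maximal subgroups meet trivially. -/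
theorem bg147pa_disj (hG : IsMinSimpleOddOrder G) {M L : Subgroup G} (hM : IsCoatom M)
    (hL : IsCoatom L) (hnc : ∀ g : G, L ≠ M.map (MulAut.conj g).toMonoidHom) :
    sigmaCore M ⊓ sigmaCore L = ⊥ := by
  rw [eq_bot_iff]
  rintro z ⟨hzM, hzL⟩
  rw [mem_bot]
  by_contra hz1
  have hn1 : orderOf z ≠ 1 := fun h => hz1 (orderOf_eq_one_iff.mp h)
  have hq := Nat.minFac_prime hn1
  have hqd := Nat.minFac_dvd (orderOf z)
  have hqM := Cfsg.Agent.Helper54.bg14t_mem_sigma_of_dvd hzM hq hqd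
  have hqL := Cfsg.Agent.Helper54.bg14t_mem_sigma_of_dvd hzL hq hqd
  obtain ⟨g, hg⟩ := (Cfsg.Agent.S1378.result hG).2 M L hM hL ⟨_, hqM, hqL⟩
  exact hnc g hg

/-- (local copy of A1b) `M_σ ∩ L` and `L_σ ∩ M` commute elementwise. -/
theorem bg147pa_comm (hG : IsMinSimpleOddOrder G) {M L : Subgroup G} (hM : IsCoatom M)
    (hL : IsCoatom L) (hnc : ∀ g : G, L ≠ M.map (MulAut.conj g).toMonoidHom) {a x : G}
    (ha : a ∈ sigmaCore M) (haL : a ∈ L) (hx : x ∈ sigmaCore L) (hxM : x ∈ M) :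
    a * x = x * a := by
  have h1 : x * a⁻¹ * x⁻¹ ∈ sigmaCore M :=
    (mem_normalizer_iff.mp (Cfsg.Agent.Helper23.le_normalizer_piCoreOf (sigma M) M hxM) a⁻¹).mp
      (inv_mem ha)
  have h2 : a * x * a⁻¹ ∈ sigmaCore L :=
    (mem_normalizer_iff.mp (Cfsg.Agent.Helper23.le_normalizer_piCoreOf (sigma L) L haL) x).mp hx
  have hc : a * x * a⁻¹ * x⁻¹ ∈ sigmaCore M ⊓ sigmaCore L := by
    refine Subgroup.mem_inf.mpr ⟨?_, mul_mem h2 (inv_mem hx)⟩
    have e : a * x * a⁻¹ * x⁻¹ = a * (x * a⁻¹ * x⁻¹) := by group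
    rw [e]
    exact mul_mem ha h1
  rw [bg147pa_disj hG hM hL hnc, mem_bot] at hc
  have e : a * x = (a * x * a⁻¹ * x⁻¹) * (x * a) := by group
  rw [e, hc, one_mul]

/-- A3. First consequences for a maximal subgroup `L` over `N_G(X)`, `X ≤ K` of prime order. -/
theorem bg147_pa (hG : IsMinSimpleOddOrder G) {M K X L : Subgroup G} (hM : IsCoatom M)
    (hK : IsPiHallOf (kappa M) K M) (hKc : IsCyclic K) (hK1 : K ≠ ⊥) (hXK : X ≤ K)
    (hXp : (Nat.card X).Prime) (hL : IsCoatom L) (hN : normalizer (X : Set G) ≤ L) :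
    X ≤ sigmaCore L ∧ (∀ g : G, L ≠ M.map (MulAut.conj g).toMonoidHom) ∧ K ≤ L ∧
      sigmaCore M ⊓ centralizer (K : Set G) ≤ L ∧
      sigmaCore M ⊓ L = sigmaCore M ⊓ centralizer (K : Set G) := by
  have use1 : Cfsg.Agent.Helper68.BGUse1 G := fun M P H p hM hpp hpσ hp1 hPM hP hD hH hNP =>
    Cfsg.Agent.Helper24.bg13u_over_sigma hG hM hpp hpσ hp1 hPM hP hD hH hNP
  obtain ⟨h1, -, h3⟩ := Cfsg.Agent.Helper68.bg14_1430_of_cyclic hG use1 M hM K hK hK1 hKc
  obtain ⟨-, -, h3c⟩ := h3 X hXK hXp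
  have hXσ : X ≤ sigmaCore L := h3c L hL hN
  have hKcomm := Cfsg.Agent.Helper68.bg14r_comm_of_cyclic hKc
  have hκ : Nat.card X ∈ kappa M := hK.2.1 _ hXp (Subgroup.card_dvd_of_le hXK)
  have hnc : ∀ g : G, L ≠ M.map (MulAut.conj g).toMonoidHom := by
    intro g hg
    have hσL : Nat.card X ∈ sigma L :=
      Cfsg.Agent.Helper23.mem_of_dvd_card_piCoreOf (sigma L) L hXp (Subgroup.card_dvd_of_le hXσ)
    rw [hg, Cfsg.Agent.Helper54.bg14t_sigma_conj] at hσL
    exact hκ.2.2.1 hσL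
  have hCX : centralizer (X : Set G) ≤ L := (centralizer_le_normalizer _).trans hN
  have hKL : K ≤ L := by
    intro k hk
    apply hCX
    rw [Subgroup.mem_centralizer_iff]
    intro x hx
    exact hKcomm x (hXK hx) k hk
  have hKsL : sigmaCore M ⊓ centralizer (K : Set G) ≤ L := by
    intro a ha
    apply hCX
    rw [Subgroup.mem_centralizer_iff]
    intro x hx
    exact (Subgroup.mem_centralizer_iff.mp (Subgroup.mem_inf.mp ha).2) x (hXK hx)
  refine ⟨hXσ, hnc, hKL, hKsL, le_antisymm ?_ (le_inf inf_le_left hKsL)⟩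
  intro a ha
  obtain ⟨x, hxX, hx1⟩ : ∃ x ∈ X, x ≠ 1 := by
    by_contra hcon
    push Not at hcon
    have : X = ⊥ := (Subgroup.eq_bot_iff_forall X).mpr hcon
    rw [this, Subgroup.card_bot] at hXp
    exact Nat.not_prime_one hXp
  rw [← h1 x (hXK hxX) hx1]
  have ha' := Subgroup.mem_inf.mp ha
  refine Subgroup.mem_inf.mpr ⟨ha'.1, ?_⟩
  rw [Subgroup.mem_centralizer_iff]
  intro y hy
  rw [Set.mem_singleton_iff] at hy
  subst hy
  exact (bg147pa_comm hG hM hL hnc ha'.1 ha'.2 (hXσ hxX) (hK.1 (hXK hxX))).symm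

end Cfsg.Agent.Helper20
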