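/-
helper20: CALL S1382 piece KAPN (double): a subgroup of type P has `κ(M) ≠ ∅`.
-/
import Cfsg.Agent.S1355
import Cfsg.Agent.S1403
import Cfsg.Agent.Helper22.BG10b
import Cfsg.Agent.Helper23.BG157KAP
import Cfsg.Agent.Helper54.BG14T2
import Cfsg.Agent.Helper62.BG72B

set_option autoImplicit false

namespace Cfsg.Agent.Helper20

open Cfsg Subgroup

universe u

variable {G : Type u} [Group G] [Finite G]

/-- KAPN. A subgroup of type P has `κ(M) ≠ ∅`. -/
theorem bg16c_kappa_nonempty (hG : IsMinSimpleOddOrder G) {M W₁ U' W₂ : Subgroup G}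
    (hM : IsCoatom M) (hP : IsTypePWith M W₁ U' W₂)
    (hrk : ∀ r : ℕ, r.Prime → r ∣ Nat.card W₁ → PRankLE r 1 ↥M) : (kappa M).Nonempty := by
  have hUq : Helper22.BGUniq G := fun K hK h1 h2 => Cfsg.Agent.S1403.result hG K hK h1 h2
  have hW1M : W₁ ≤ M := hP.W₁_compl.2.1
  have hcard1 : Nat.card W₁ ≠ 1 := fun h => hP.W₁_ne (Subgroup.card_eq_one.mp h)
  obtain ⟨r, hr, hrW⟩ := Nat.exists_prime_and_dvd hcard1
  haveI := Fact.mk hr
  obtain ⟨x0, hx0⟩ := exists_prime_orderOf_dvd_card' r hrW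
  have hxo : orderOf (x0 : G) = r := by rw [Subgroup.orderOf_coe]; exact hx0
  have hx1 : (x0 : G) ≠ 1 := by
    intro h
    rw [h, orderOf_one] at hxo
    exact hr.one_lt.ne hxo
  have hxM : (x0 : G) ∈ M := hW1M x0.2
  -- cardinalities
  have hc1 : Nat.card M = Nat.card ↥⁅M, M⁆ * Nat.card W₁ := Helper62.bg72_card_compl hP.W₁_compl
  have hc2 : Nat.card W₁ * W₁.relIndex M = Nat.card M := by
    have := Subgroup.relIndex_mul_relIndex (⊥ : Subgroup G) W₁ M bot_le hW1M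
    rwa [Subgroup.relIndex_bot_left, Subgroup.relIndex_bot_left] at this
  have hc3 : W₁.relIndex M = Nat.card ↥⁅M, M⁆ := by
    have hW : 0 < Nat.card W₁ := Nat.card_pos
    have : Nat.card W₁ * W₁.relIndex M = Nat.card W₁ * Nat.card ↥⁅M, M⁆ := by
      rw [hc2, hc1, mul_comm]
    exact Nat.eq_of_mul_eq_mul_left hW this
  have hrσ : r ∉ sigma M := by
    intro hrσ
    have hhall := (Helper22.bg10_sigma_hall hG hUq hM).1
    have h1 : ¬ r ∣ (sigmaCore M).relIndex M := hhall.2.2 r hr hrσ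
    have h2 : Nat.card (sigmaCore M) * (sigmaCore M).relIndex M = Nat.card M := by
      have := Subgroup.relIndex_mul_relIndex (⊥ : Subgroup G) (sigmaCore M) M bot_le hhall.1
      rwa [Subgroup.relIndex_bot_left, Subgroup.relIndex_bot_left] at this
    have h3 : r ∣ Nat.card M := hrW.trans (Subgroup.card_dvd_of_le hW1M)
    rw [← h2] at h3
    have h4 : r ∣ Nat.card (sigmaCore M) := (hr.dvd_mul.mp h3).resolve_right h1
    have h5 : r ∣ Nat.card ↥⁅M, M⁆ :=
      h4.trans (Subgroup.card_dvd_of_le (Cfsg.Agent.S1355.result hG M hM).2.2.1)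
    rw [← hc3] at h5
    have h6 := Nat.dvd_gcd hrW h5
    rw [Nat.Coprime.gcd_eq_one hP.W₁_hall] at h6
    exact hr.one_lt.ne' (Nat.dvd_one.mp h6)
  have hr2 : r ∉ tau2 M := fun h => h.2.2.2 (hrk r hr hrW)
  obtain ⟨w, hw, hw1⟩ : ∃ w ∈ W₂, w ≠ 1 := by
    by_contra hcon
    apply hP.selfNormalizing.2.1
    rw [Subgroup.eq_bot_iff_forall]
    intro w hw
    by_contra hw1
    exact hcon ⟨w, hw, hw1⟩
  have hwσ : w ∈ sigmaCore M :=
    Helper54.bg14t_fittingHall_le hG hM ((hP.W₂_le hw).1)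
  have hxw : (x0 : G) * w = w * x0 := by
    have h1 : w ∈ ⁅M, M⁆ ⊓ Subgroup.centralizer ({(x0 : G)} : Set G) := by
      rw [hP.W₂_centralizer x0 x0.2 hx1]
      exact hw
    exact Subgroup.mem_centralizer_iff.mp h1.2 x0 rfl
  exact ⟨r, Helper23.bg157_mem_kappa hG hM hr hrσ hr2 hxM hxo hwσ hw1 hxw⟩

end Cfsg.Agent.Helper20
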