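import Mathlib
import Cfsg.Agent.S1355

set_option autoImplicit false

namespace Cfsg.Agent.Helper20

open Cfsg Subgroup
open scoped commutatorElement

universe u

variable {G : Type u} [Group G] [Finite G]

theorem bg15b_der (hG : IsMinSimpleOddOrder G) {M K U : Subgroup G} (hM : IsCoatom M)
    (hKU : IsSigmaDecomposition M K U) (hU : U = ⊥) : sigmaCore M = ⁅M, M⁆ := by
  classical
  apply le_antisymm (Cfsg.Agent.S1355.result hG M hM).2.2.1
  have hKM : K ≤ M := hKU.hall.1
  obtain ⟨-, -, -, hprod⟩ := hKU.compl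
  have hmem : ∀ m : ↥M, m ∈ K.subgroupOf M ⊔ piCore (sigma M) ↥M := by
    intro m
    obtain ⟨a, ha, b, hb, hab⟩ := hprod m.1 m.2
    rw [hU, Subgroup.mem_bot] at ha
    rw [ha, one_mul] at hab
    have h1 : (m : G) ∈ (K.subgroupOf M ⊔ piCore (sigma M) ↥M).map M.subtype := by
      rw [Subgroup.map_sup, Subgroup.map_subgroupOf_eq_of_le hKM, hab]
      exact hb
    obtain ⟨m', hm', hmm'⟩ := h1
    have h2 : m' = m := Subtype.ext hmm'
    rw [← h2]
    exact hm'
  obtain ⟨g, hg⟩ := hKU.cyclic.exists_generator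
  have hcommK : ∀ a b : ↥M, a ∈ K.subgroupOf M → b ∈ K.subgroupOf M → a * b = b * a := by
    intro a b ha hb
    rw [Subgroup.mem_subgroupOf] at ha hb
    obtain ⟨i, hi⟩ := Subgroup.mem_zpowers_iff.mp (hg ⟨(a : G), ha⟩)
    obtain ⟨j, hj⟩ := Subgroup.mem_zpowers_iff.mp (hg ⟨(b : G), hb⟩)
    have ha' : (a : G) = (g : G) ^ i := by
      have h3 := congrArg Subtype.val hi
      rw [Subgroup.coe_zpow] at h3
      exact h3.symm
    have hb' : (b : G) = (g : G) ^ j := by
      have h3 := congrArg Subtype.val hj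
      rw [Subgroup.coe_zpow] at h3
      exact h3.symm
    apply Subtype.ext
    rw [Subgroup.coe_mul, Subgroup.coe_mul, ha', hb']
    exact zpow_mul_comm _ _ _
  have dec : ∀ m : ↥M, ∃ k ∈ K.subgroupOf M, ∃ n ∈ piCore (sigma M) ↥M, k * n = m := by
    intro m
    have h := hmem m
    rw [← SetLike.mem_coe, Subgroup.mul_normal] at h
    exact Set.mem_mul.mp h
  have hπn : ∀ n ∈ piCore (sigma M) ↥M, (QuotientGroup.mk' (piCore (sigma M) ↥M)) n = 1 :=
    fun n hn => (QuotientGroup.eq_one_iff n).mpr hn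
  have hcomm : commutator ↥M ≤ piCore (sigma M) ↥M := by
    rw [commutator_def, Subgroup.commutator_le]
    intro m₁ _ m₂ _
    obtain ⟨k₁, hk₁, n₁, hn₁, rfl⟩ := dec m₁
    obtain ⟨k₂, hk₂, n₂, hn₂, rfl⟩ := dec m₂
    have hgoal : (QuotientGroup.mk' (piCore (sigma M) ↥M)) ⁅k₁ * n₁, k₂ * n₂⁆ = 1 := by
      rw [map_commutatorElement, map_mul, map_mul, hπn n₁ hn₁, hπn n₂ hn₂, mul_one, mul_one,
        ← map_commutatorElement,
        commutatorElement_eq_one_iff_mul_comm.mpr (hcommK k₁ k₂ hk₁ hk₂), map_one]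
    exact (QuotientGroup.eq_one_iff _).mp hgoal
  rw [← Subgroup.map_subtype_commutator]
  exact Subgroup.map_mono hcomm

end Cfsg.Agent.Helper20
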