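import Mathlib
import Cfsg.Agent.S1430
import Cfsg.Agent.Helper25.BG15T1

set_option autoImplicit false

namespace Cfsg.Agent.Helper20

open Cfsg Subgroup

universe u

variable {G : Type u} [Group G] [Finite G]

theorem bg15b_D0_nilpotent (hG : IsMinSimpleOddOrder G) {M K U Q D₀ : Subgroup G}
    (hM : IsCoatom M) (hKU : IsSigmaDecomposition M K U) (hK1 : K ≠ ⊥)
    (hKsQ : sigmaCore M ⊓ centralizer (K : Set G) ≤ Q) (hD₀ : IsComplIn Q D₀ (sigmaCore M))
    (hKD : K ≤ normalizer (D₀ : Set G)) : Group.IsNilpotent ↥D₀ := by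
  classical
  have hKcard : Nat.card K ≠ 1 := fun h => hK1 (Subgroup.card_eq_one.mp h)
  obtain ⟨p, hp, hpd⟩ := Nat.exists_prime_and_dvd hKcard
  haveI := Fact.mk hp
  obtain ⟨k', hk'⟩ := exists_prime_orderOf_dvd_card' (G := ↥K) p hpd
  obtain ⟨k, hkdef⟩ : ∃ k : G, k = (k' : G) := ⟨_, rfl⟩
  have hkK : k ∈ K := by rw [hkdef]; exact k'.2
  have hkord : orderOf k = p := by rw [hkdef, Subgroup.orderOf_coe]; exact hk'
  have hk1 : k ≠ 1 := by
    intro h
    rw [h, orderOf_one] at hkord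
    exact hp.one_lt.ne hkord
  have hkp : k ^ p = 1 := by rw [← hkord]; exact pow_orderOf_eq_one k
  have h1430 := (Cfsg.Agent.S1430.result hG M hM K hKU.hall hK1).1 k hkK hk1
  obtain ⟨-, hD₀S, hQD, -⟩ := hD₀
  apply Cfsg.Agent.Helper25.bg15_fpf_nilpotent D₀ hp (hKD hkK) hkp
  intro a ha hka
  have h2 : a ∈ sigmaCore M ⊓ centralizer ({k} : Set G) := by
    refine Subgroup.mem_inf.mpr ⟨hD₀S ha, ?_⟩
    rw [Subgroup.mem_centralizer_iff]
    intro z hz
    rw [Set.mem_singleton_iff] at hz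
    rw [hz]
    exact hka
  rw [h1430] at h2
  have h3 : a ∈ Q ⊓ D₀ := Subgroup.mem_inf.mpr ⟨hKsQ h2, ha⟩
  rw [hQD, Subgroup.mem_bot] at h3
  exact h3

end Cfsg.Agent.Helper20
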