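/-
helper20: CALL S1435 piece SUBS (double): a subgroup of `H` all of whose prime divisors lie in
`σ(H)` lies in `H_σ`.
-/
import Cfsg.Agent.Helper54.BG14S

set_option autoImplicit false

namespace Cfsg.Agent.Helper20

open Cfsg Subgroup

universe u

variable {G : Type u} [Group G] [Finite G]

/-- SUBS. A subgroup of `H` all of whose prime divisors lie in `σ(H)` lies in `H_σ`. -/
theorem bg65_le_sigmaCore (hG : IsMinSimpleOddOrder G) {H U : Subgroup G} (hH : IsCoatom H)
    (hUH : U ≤ H) (h : ∀ s : ℕ, s.Prime → s ∣ Nat.card U → s ∈ sigma H) : U ≤ sigmaCore H := by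
  intro x hx
  refine Helper54.bg14s_mem_sigmaCore hG hH (hUH hx) ?_
  intro q hq hqx
  exact h q hq (hqx.trans (Subgroup.orderOf_dvd_natCard U hx))

end Cfsg.Agent.Helper20
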