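import Cfsg.Agent.Helper20.BG147PA
import Cfsg.Agent.Helper34.BG147COAT
import Cfsg.Agent.Helper35.HallCoprime
import Cfsg.Agent.Helper49.BG14U

/-!
# Piece PMEM of CALL S1366 (B&G Theorem 14.7)
-/

set_option autoImplicit false

namespace Cfsg.Agent.Helper20

open Cfsg Subgroup

universe u

variable {G : Type u} [Group G] [Finite G]

/-- C9. Every prime of `|Z|` is in `σ(M)` or in `σ(L)` for a maximal `L` over `N_G(Q)`,
`Q ≤ K` of prime order. -/
theorem bg147_prime_mem (hG : IsMinSimpleOddOrder G) {M K : Subgroup G} (hM : IsCoatom M)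
    (hK : IsPiHallOf (kappa M) K M) (hKc : IsCyclic K) (hK1 : K ≠ ⊥) :
    ∀ q : ℕ, q.Prime → q ∣ Nat.card ↥(K ⊔ (sigmaCore M ⊓ centralizer (K : Set G))) →
      q ∈ sigma M ∨ ∃ Q L : Subgroup G, Q ≤ K ∧ (Nat.card Q).Prime ∧ IsCoatom L ∧
        normalizer (Q : Set G) ≤ L ∧ q ∈ sigma L := by
  intro q hq hdvd
  have hKs_norm : sigmaCore M ⊓ centralizer (K : Set G) ≤ normalizer (K : Set G) :=
    inf_le_right.trans (centralizer_le_normalizer _)
  have hbot : K ⊓ (sigmaCore M ⊓ centralizer (K : Set G)) = ⊥ := by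
    rw [eq_bot_iff]
    have h := Cfsg.Agent.Helper49.bg14u_kappa_inf_sigma hK.2.1
    rw [← h]
    exact inf_le_inf_left K inf_le_left
  rw [Cfsg.Agent.Helper35.card_sup_of_le_normalizer hKs_norm hbot] at hdvd
  rcases (Nat.Prime.dvd_mul hq).mp hdvd with h | h
  · right
    have : Fact q.Prime := ⟨hq⟩
    obtain ⟨k, hk⟩ := exists_prime_orderOf_dvd_card' (G := ↥K) q h
    have hk' : orderOf (k : G) = q := by rw [Subgroup.orderOf_coe]; exact hk
    obtain ⟨Q, hQ⟩ : ∃ Q : Subgroup G, Q = zpowers (k : G) := ⟨_, rfl⟩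
    have hQK : Q ≤ K := by rw [hQ, zpowers_le]; exact k.2
    have hQc : Nat.card Q = q := by rw [hQ, Nat.card_zpowers, hk']
    have hQp : (Nat.card Q).Prime := by rw [hQc]; exact hq
    have hQ1 : Q ≠ ⊥ := by
      intro h0
      rw [h0, Subgroup.card_bot] at hQp
      exact Nat.not_prime_one hQp
    obtain ⟨L, hL, hN⟩ := Cfsg.Agent.Helper34.bg147_exists_coatom hG hQ1 hQp
    refine ⟨Q, L, hQK, hQp, hL, hN, ?_⟩
    have hQσ := (bg147_pa hG hM hK hKc hK1 hQK hQp hL hN).1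
    have := Cfsg.Agent.Helper23.mem_of_dvd_card_piCoreOf (sigma L) L hQp
      (Subgroup.card_dvd_of_le hQσ)
    rwa [hQc] at this
  · left
    exact Cfsg.Agent.Helper23.mem_of_dvd_card_piCoreOf (sigma M) M hq
      (h.trans (Subgroup.card_dvd_of_le inf_le_left))

end Cfsg.Agent.Helper20
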