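import Mathlib
import Cfsg.Agent.Helper70.FrobAct
import Cfsg.Agent.Helper24.BG1217

set_option autoImplicit false

namespace Cfsg.Agent.Helper20

open Cfsg Subgroup

universe u

theorem bg152frob_arith {n p c c₀ s t : ℕ} (hpn : p < n) (hc : 0 < c) (hs : 0 < s)
    (h1 : c₀ ^ n * t = c ^ n * s) (h2 : c₀ ^ p * t = c ^ p * s) : c₀ = c := by
  obtain ⟨k, rfl⟩ : ∃ k, n = p + (k + 1) := ⟨n - p - 1, by omega⟩
  have h3 : c₀ ^ (k + 1) * (c ^ p * s) = c ^ (k + 1) * (c ^ p * s) := by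
    calc c₀ ^ (k + 1) * (c ^ p * s) = c₀ ^ (k + 1) * (c₀ ^ p * t) := by rw [h2]
      _ = c₀ ^ (p + (k + 1)) * t := by ring
      _ = c ^ (p + (k + 1)) * s := h1
      _ = c ^ (k + 1) * (c ^ p * s) := by ring
  have h4 : c₀ ^ (k + 1) = c ^ (k + 1) := Nat.eq_of_mul_eq_mul_right (by positivity) h3
  exact Nat.pow_left_injective (by omega : k + 1 ≠ 0) h4

theorem bg152frob_cent_sup {Γ : Type u} [Group Γ] (A B : Subgroup Γ) :
    centralizer ((A ⊔ B : Subgroup Γ) : Set Γ) =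
      centralizer (A : Set Γ) ⊓ centralizer (B : Set Γ) := by
  apply le_antisymm
  · exact le_inf (Subgroup.centralizer_le (SetLike.coe_subset_coe.mpr le_sup_left))
      (Subgroup.centralizer_le (SetLike.coe_subset_coe.mpr le_sup_right))
  · intro x hx
    rw [Subgroup.mem_inf] at hx
    have hA : A ≤ centralizer ({x} : Set Γ) := by
      intro a ha
      rw [Subgroup.mem_centralizer_iff]
      intro z hz
      rw [Set.mem_singleton_iff] at hz
      rw [hz]
      exact (Subgroup.mem_centralizer_iff.mp hx.1 a ha).symm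
    have hB : B ≤ centralizer ({x} : Set Γ) := by
      intro a ha
      rw [Subgroup.mem_centralizer_iff]
      intro z hz
      rw [Set.mem_singleton_iff] at hz
      rw [hz]
      exact (Subgroup.mem_centralizer_iff.mp hx.2 a ha).symm
    have hAB := sup_le hA hB
    rw [Subgroup.mem_centralizer_iff]
    intro h hh
    exact (Subgroup.mem_centralizer_iff.mp (hAB hh) x (Set.mem_singleton x)).symm

theorem bg152frob_cent_zpowers {Γ : Type u} [Group Γ] (y : Γ) :
    centralizer ((zpowers y : Subgroup Γ) : Set Γ) = centralizer ({y} : Set Γ) := by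
  apply le_antisymm
  · apply Subgroup.centralizer_le
    intro z hz
    rw [Set.mem_singleton_iff] at hz
    rw [hz]
    exact mem_zpowers y
  · intro x hx
    rw [Subgroup.mem_centralizer_iff] at hx ⊢
    intro h hh
    obtain ⟨i, rfl⟩ := mem_zpowers_iff.mp hh
    have h1 : Commute y x := hx y (Set.mem_singleton y)
    exact h1.zpow_left i

theorem bg152frob_comm_norm {Γ : Type u} [Group Γ] (T : Subgroup Γ) (x : Γ)
    (hx : ∀ t ∈ T, x * t * x⁻¹ ∈ T) : ∀ h ∈ ⁅T, T⁆, x * h * x⁻¹ ∈ ⁅T, T⁆ := by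
  intro h hh
  have h1 : T.map (MulAut.conj x).toMonoidHom ≤ T := by
    rintro _ ⟨t, ht, rfl⟩
    exact hx t ht
  have h2 : (⁅T, T⁆).map (MulAut.conj x).toMonoidHom ≤ ⁅T, T⁆ := by
    rw [Subgroup.map_commutator]
    exact Subgroup.commutator_mono h1 h1
  exact h2 ⟨h, hh, rfl⟩

theorem bg152_frob {Γ : Type u} [Group Γ] [Finite Γ] (D K T : Subgroup Γ) (hK1 : K ≠ ⊥)
    (hKD : K ≤ normalizer (D : Set Γ))
    (hfpf : ∀ k ∈ K, k ≠ 1 → ∀ d ∈ D, k * d = d * k → d = 1)
    (hTn : ∀ x ∈ D ⊔ K, ∀ t ∈ T, x * t * x⁻¹ ∈ T) (hsolv : Group.IsSolvable ↥T)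
    (hcop : (Nat.card T).Coprime (Nat.card ↥(D ⊔ K))) (hT1 : T ≠ ⊥) (hTD : ⁅T, D⁆ = T)
    (hpr : ∀ k ∈ K, k ≠ 1 → T ⊓ centralizer ({k} : Set Γ) = T ⊓ centralizer (K : Set Γ)) :
    (Nat.card K).Prime ∧ T ⊓ centralizer (K : Set Γ) ≠ ⊥ := by
  classical
  have hUnK : ∀ e ∈ K, ∀ u ∈ D, e * u * e⁻¹ ∈ D := fun e he u hu =>
    (Subgroup.mem_normalizer_iff.mp (hKD he) u).mp hu
  have hF1 := (Cfsg.Agent.Helper70.frob_group_main D K T hK1 hUnK hfpf hTn hsolv hcop).1
  have hpos : ∀ S : Subgroup Γ, 0 < Nat.card S := fun S => Nat.card_pos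
  have hle1 : T ⊓ centralizer ((D ⊔ K : Subgroup Γ) : Set Γ) ≤ T ⊓ centralizer (K : Set Γ) := by
    rw [bg152frob_cent_sup]
    exact inf_le_inf_left _ inf_le_right
  have hle2 : T ⊓ centralizer ((D ⊔ K : Subgroup Γ) : Set Γ) ≤ T ⊓ centralizer (D : Set Γ) := by
    rw [bg152frob_cent_sup]
    exact inf_le_inf_left _ inf_le_left
  have hpart2 : T ⊓ centralizer (K : Set Γ) ≠ ⊥ := by
    intro hbot
    have hbot2 : T ⊓ centralizer ((D ⊔ K : Subgroup Γ) : Set Γ) = ⊥ :=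
      le_bot_iff.mp (hbot ▸ hle1)
    rw [hbot, hbot2, Subgroup.card_bot, one_pow, one_mul, one_mul] at hF1
    have h1 : T ⊓ centralizer (D : Set Γ) = T := Subgroup.eq_of_le_of_card_ge inf_le_left hF1.le
    have h2 : T ≤ centralizer (D : Set Γ) := by
      rw [← h1]
      exact inf_le_right
    have h3 : ⁅T, D⁆ = ⊥ := by
      rw [Subgroup.commutator_eq_bot_iff_le_centralizer]
      exact h2
    rw [h3] at hTD
    exact hT1 hTD.symm
  refine ⟨?_, hpart2⟩
  have hKcard : Nat.card K ≠ 1 := fun h => hK1 (Subgroup.card_eq_one.mp h)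
  obtain ⟨p, hp, hpd⟩ := Nat.exists_prime_and_dvd hKcard
  haveI := Fact.mk hp
  obtain ⟨y', hy'⟩ := exists_prime_orderOf_dvd_card' (G := ↥K) p hpd
  obtain ⟨y, hydef⟩ : ∃ y : Γ, y = (y' : Γ) := ⟨_, rfl⟩
  have hyK : y ∈ K := by rw [hydef]; exact y'.2
  have hyord : orderOf y = p := by rw [hydef, Subgroup.orderOf_coe]; exact hy'
  have hy1 : y ≠ 1 := by
    intro h
    rw [h, orderOf_one] at hyord
    exact hp.one_lt.ne hyord
  have hEK : zpowers y ≤ K := (Subgroup.zpowers_le).mpr hyK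
  have hE1 : zpowers y ≠ ⊥ := by
    rw [Ne, Subgroup.zpowers_eq_bot]
    exact hy1
  have hEcard : Nat.card (zpowers y) = p := by rw [Nat.card_zpowers, hyord]
  have hDE : D ⊔ zpowers y ≤ D ⊔ K := sup_le_sup_left hEK D
  have hF2 := (Cfsg.Agent.Helper70.frob_group_main D (zpowers y) T hE1
    (fun e he u hu => hUnK e (hEK he) u hu)
    (fun e he he1 d hd hed => hfpf e (hEK he) he1 d hd hed)
    (fun x hx t ht => hTn x (hDE hx) t ht) hsolv
    (Nat.Coprime.coprime_dvd_right (Subgroup.card_dvd_of_le hDE) hcop)).1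
  have hCE : T ⊓ centralizer ((zpowers y : Subgroup Γ) : Set Γ) =
      T ⊓ centralizer (K : Set Γ) := by
    rw [bg152frob_cent_zpowers]
    exact hpr y hyK hy1
  have hCDE : T ⊓ centralizer ((D ⊔ zpowers y : Subgroup Γ) : Set Γ) =
      T ⊓ centralizer ((D ⊔ K : Subgroup Γ) : Set Γ) := by
    rw [bg152frob_cent_sup, bg152frob_cent_sup, inf_left_comm, hCE, inf_left_comm]
  rw [hCE, hCDE, hEcard] at hF2
  have hpn : p ≤ Nat.card K := Nat.le_of_dvd Nat.card_pos hpd
  rcases Nat.lt_or_ge p (Nat.card K) with hlt | hge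
  · exfalso
    have hab := bg152frob_arith hlt (hpos _) (hpos _) hF1 hF2
    have heq : T ⊓ centralizer ((D ⊔ K : Subgroup Γ) : Set Γ) = T ⊓ centralizer (K : Set Γ) :=
      Subgroup.eq_of_le_of_card_ge hle1 hab.ge
    have hKD' : T ⊓ centralizer (K : Set Γ) ≤ T ⊓ centralizer (D : Set Γ) := heq ▸ hle2
    have hDnT : D ≤ normalizer (T : Set Γ) := by
      intro x hx
      rw [Subgroup.mem_normalizer_iff]
      intro t
      constructor
      · intro ht
        exact hTn x (Subgroup.mem_sup_left hx) t ht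
      · intro ht
        have h5 := hTn x⁻¹ (Subgroup.mem_sup_left (D.inv_mem hx)) _ ht
        have e : x⁻¹ * (x * t * x⁻¹) * x⁻¹⁻¹ = t := by group
        rwa [e] at h5
    have hcopD : (Nat.card D).Coprime (Nat.card T) :=
      (Nat.Coprime.coprime_dvd_right (Subgroup.card_dvd_of_le le_sup_left) hcop).symm
    have hCD : T ⊓ centralizer (D : Set Γ) ≤ ⁅T, T⁆ :=
      Cfsg.Agent.Helper24.bg1217_cent_le_comm hDnT hcopD hTD.ge
    have hT₁T : ⁅T, T⁆ ≤ T := Subgroup.commutator_le.mpr (fun g₁ h₁ g₂ h₂ => by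
      rw [commutatorElement_def]
      exact T.mul_mem (T.mul_mem (T.mul_mem h₁ h₂) (T.inv_mem h₁)) (T.inv_mem h₂))
    have hc1 : ⁅T, T⁆ ⊓ centralizer (D : Set Γ) = T ⊓ centralizer (D : Set Γ) :=
      le_antisymm (inf_le_inf_right _ hT₁T) (le_inf hCD inf_le_right)
    have hc2 : ⁅T, T⁆ ⊓ centralizer (K : Set Γ) = T ⊓ centralizer (K : Set Γ) :=
      le_antisymm (inf_le_inf_right _ hT₁T) (le_inf (hKD'.trans hCD) inf_le_right)
    have hc3 : ⁅T, T⁆ ⊓ centralizer ((D ⊔ K : Subgroup Γ) : Set Γ) =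
        T ⊓ centralizer ((D ⊔ K : Subgroup Γ) : Set Γ) :=
      le_antisymm (inf_le_inf_right _ hT₁T) (le_inf (hle2.trans hCD) inf_le_right)
    have hsolv₁ : Group.IsSolvable ↥⁅T, T⁆ :=
      Group.isSolvable_of_isSolvable_injective (Subgroup.inclusion_injective hT₁T)
    have hF3 := (Cfsg.Agent.Helper70.frob_group_main D K ⁅T, T⁆ hK1 hUnK hfpf
      (fun x hx h hh => bg152frob_comm_norm T x (hTn x hx) h hh) hsolv₁
      (Nat.Coprime.coprime_dvd_left (Subgroup.card_dvd_of_le hT₁T) hcop)).1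
    rw [hc1, hc2, hc3] at hF3
    have hcard : Nat.card ↥⁅T, T⁆ = Nat.card T := by
      have h5 : Nat.card ↥(T ⊓ centralizer ((D ⊔ K : Subgroup Γ) : Set Γ)) ^ Nat.card K *
          Nat.card ↥⁅T, T⁆ =
          Nat.card ↥(T ⊓ centralizer ((D ⊔ K : Subgroup Γ) : Set Γ)) ^ Nat.card K *
            Nat.card T := by rw [hF3, hF1]
      exact Nat.eq_of_mul_eq_mul_left (pow_pos (hpos _) _) h5
    have hTT : ⁅T, T⁆ = T := Subgroup.eq_of_le_of_card_ge hT₁T hcard.ge
    haveI : Nontrivial ↥T := (Subgroup.nontrivial_iff_ne_bot T).mpr hT1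
    have hlt' := Group.IsSolvable.commutator_lt_top_of_nontrivial ↥T
    apply hlt'.ne
    apply Subgroup.map_injective T.subtype_injective
    rw [Subgroup.map_subtype_commutator, hTT, ← MonoidHom.range_eq_map, Subgroup.range_subtype]
  · have h6 : Nat.card K = p := le_antisymm hge hpn
    rw [h6]
    exact hp

end Cfsg.Agent.Helper20
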