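import Cfsg.Agent.Helper31.BGCFHb
import Cfsg.Agent.Helper54.BG14T2
import Cfsg.Agent.Helper22.BG12a
import Cfsg.Agent.Helper24.BG11b
import Cfsg.Agent.Helper20.BG13P4
import Cfsg.Agent.S1403

set_option autoImplicit false

namespace Cfsg.Agent.Helper20

open Cfsg Subgroup

universe u

variable {G : Type u} [Group G] [Finite G]

theorem bg15_chain_nil (hG : IsMinSimpleOddOrder G) (M : Subgroup G) (hM : IsCoatom M)
    (hnil : Group.IsNilpotent ↥(sigmaCore M)) :
    fittingHallOf M ≠ ⊥ ∧
      Group.IsNilpotent ↥((commutator ↥M).map (QuotientGroup.mk' (fittingHall ↥M))) := by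
  classical
  have hU : Cfsg.Agent.Helper22.BGUniq G :=
    fun K hK h1 h2 => Cfsg.Agent.S1403.result hG K hK h1 h2
  have h1 : fittingHallOf M = sigmaCore M :=
    le_antisymm (Cfsg.Agent.Helper54.bg14t_fittingHall_le hG hM)
      (Cfsg.Agent.Helper31.bgc_sigmaCore_le_fittingHall hG hM hnil)
  have h2 : sigmaCore M ≠ ⊥ := Cfsg.Agent.Helper24.bg11b_sigmaCore_ne_bot hG hU hM
  refine ⟨by rw [h1]; exact h2, ?_⟩
  obtain ⟨E, hE, -⟩ := bg13_exists_compl_ge hG hU hM (K := ⊥) bot_le (by simp)
  obtain ⟨hEnil, -, -⟩ := Cfsg.Agent.Helper22.bg12_E_structure hG hU hM hE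
  obtain ⟨hEM, hSM, hES, hprod⟩ := hE
  let φ : ↥E →* ↥M ⧸ fittingHall ↥M :=
    (QuotientGroup.mk' (fittingHall ↥M)).comp (Subgroup.inclusion hEM)
  have hsurj : Function.Surjective φ := by
    intro y
    obtain ⟨m, rfl⟩ := QuotientGroup.mk'_surjective _ y
    obtain ⟨a, ha, b, hb, hab⟩ := hprod m.1 m.2
    refine ⟨⟨a, ha⟩, ?_⟩
    show QuotientGroup.mk' _ (Subgroup.inclusion hEM ⟨a, ha⟩) = QuotientGroup.mk' _ m
    rw [QuotientGroup.mk'_apply, QuotientGroup.mk'_apply, QuotientGroup.eq]
    have hbF : b ∈ fittingHallOf M := by rw [h1]; exact hb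
    obtain ⟨b', hb', hb'eq⟩ := hbF
    have hb'' : (Subgroup.inclusion hEM ⟨a, ha⟩)⁻¹ * m = b' := by
      apply Subtype.ext
      have hb3 : (b' : G) = b := hb'eq
      show (a : G)⁻¹ * (m : G) = (b' : G)
      rw [hab, hb3, inv_mul_cancel_left]
    rw [hb'']
    exact hb'
  have hcomm : (commutator ↥M).map (QuotientGroup.mk' (fittingHall ↥M)) =
      (commutator ↥E).map φ := by
    rw [commutator_def, commutator_def, Subgroup.map_commutator, Subgroup.map_commutator,
      Subgroup.map_top_of_surjective _ (QuotientGroup.mk'_surjective _),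
      Subgroup.map_top_of_surjective _ hsurj]
  rw [hcomm]
  have hEnil' : Group.IsNilpotent ↥(commutator ↥E) := by
    have h3 : Group.IsNilpotent ↥((commutator ↥E).map E.subtype) := by
      rw [Subgroup.map_subtype_commutator]
      exact hEnil
    exact Group.nilpotent_of_mulEquiv
      (Subgroup.equivMapOfInjective (commutator ↥E) E.subtype E.subtype_injective).symm
  exact Group.nilpotent_of_surjective (φ.subgroupMap (commutator ↥E))
    (φ.subgroupMap_surjective (commutator ↥E))

end Cfsg.Agent.Helper20
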