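import Mathlib
import Cfsg.Agent.S1355
import Cfsg.Agent.S1429
import Cfsg.Agent.Helper31.BGCFHb
import Cfsg.Agent.Helper68.BG14R30

set_option autoImplicit false

namespace Cfsg.Agent.Helper20

open Cfsg Subgroup

universe u

variable {G : Type u} [Group G] [Finite G]

theorem bg15b_KU (hG : IsMinSimpleOddOrder G) {M K U : Subgroup G} (hM : IsCoatom M)
    (hKU : IsSigmaDecomposition M K U) (hne : fittingHallOf M ≠ sigmaCore M) :
    U = ⊥ ∧ K ≠ ⊥ := by
  classical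
  obtain ⟨-, hFS, hSM', hM'lt, -⟩ := Cfsg.Agent.S1355.result hG M hM
  have hP : ∀ q : ℕ, q.Prime → q ∣ Nat.card M → q ∉ sigma M → q ∈ kappa M := by
    by_contra hP1
    have hP1' := hP1
    push Not at hP1'
    obtain ⟨q, hq, hqM, hqσ, hqκ⟩ := hP1'
    haveI := Fact.mk hq
    obtain ⟨S⟩ : Nonempty (Sylow q ↥M) := inferInstance
    have hnil := (Cfsg.Agent.S1429.result hG M hM hP1 q hqM
      (fun h => h.elim hqσ hqκ) S).2.2
    exact hne (le_antisymm hFS (Cfsg.Agent.Helper31.bgc_sigmaCore_le_fittingHall hG hM hnil))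
  obtain ⟨hUM, hUpi, -⟩ := Cfsg.Agent.Helper68.bg14r_U_hall hG hM hKU
  have hU : U = ⊥ := by
    by_contra hU1
    have hUcard : Nat.card U ≠ 1 := fun h => hU1 (Subgroup.card_eq_one.mp h)
    obtain ⟨p, hp, hpd⟩ := Nat.exists_prime_and_dvd hUcard
    obtain ⟨-, hpκ, hpσ⟩ := hUpi p hp hpd
    exact hpκ (hP p hp (hpd.trans (Subgroup.card_dvd_of_le hUM)) hpσ)
  refine ⟨hU, ?_⟩
  intro hK
  obtain ⟨-, -, -, hprod⟩ := hKU.compl
  have hMS : M ≤ sigmaCore M := by
    intro m hm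
    obtain ⟨a, ha, b, hb, hab⟩ := hprod m hm
    rw [hU, Subgroup.mem_bot] at ha
    rw [hK, bot_sup_eq] at hb
    rw [hab, ha, one_mul]
    exact hb
  exact absurd (hMS.trans hSM') (not_le_of_gt hM'lt)

end Cfsg.Agent.Helper20
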