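import Cfsg.Agent.Helper22.BG10b
import Cfsg.Agent.Helper54.BG14T2
import Cfsg.Agent.Helper1.BG15C1
import Cfsg.Agent.Helper64.PiTwo
import Cfsg.Agent.S1403

set_option autoImplicit false

namespace Cfsg.Agent.Helper20

open Cfsg Subgroup
open scoped Pointwise

universe u

variable {G : Type u} [Group G] [Finite G]

theorem bg16_mem_kappa (hG : IsMinSimpleOddOrder G) (M : Subgroup G) (hM : IsCoatom M)
    (W₁ U W₂ : Subgroup G) (h : IsTypePWith M W₁ U W₂) (hW₁ : (Nat.card W₁).Prime) :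
    Nat.card W₁ ∈ kappa M := by
  classical
  have hU : Cfsg.Agent.Helper22.BGUniq G :=
    fun K hK h1 h2 => Cfsg.Agent.S1403.result hG K hK h1 h2
  obtain ⟨p, hpdef⟩ : ∃ p : ℕ, p = Nat.card W₁ := ⟨_, rfl⟩
  rw [← hpdef] at hW₁ ⊢
  haveI : Fact p.Prime := ⟨hW₁⟩
  obtain ⟨hM'M, hW₁M, hM'W₁, -⟩ := h.W₁_compl
  -- the subgroup W of ↥M
  have hWcard : Nat.card ↥(W₁.subgroupOf M) = p := by
    rw [hpdef]
    exact Nat.card_congr (Subgroup.subgroupOfEquivOfLe hW₁M).toEquiv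
  have hWidx : ¬ p ∣ (W₁.subgroupOf M).index := by
    have h1 := h.W₁_hall
    rw [← hpdef] at h1
    exact (Nat.Prime.coprime_iff_not_dvd hW₁).mp h1
  -- a generator-like element of W₁
  obtain ⟨x₀, hx₀W, hx₀1⟩ : ∃ x₀ ∈ W₁, x₀ ≠ 1 := by
    by_contra hcon
    apply h.W₁_ne
    rw [Subgroup.eq_bot_iff_forall]
    intro a ha
    by_contra ha1
    exact hcon ⟨a, ha, ha1⟩
  have hx₀M : x₀ ∈ M := hW₁M hx₀W
  have hx₀ord : orderOf x₀ = p := by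
    have h1 : orderOf (⟨x₀, hx₀W⟩ : ↥W₁) ∣ Nat.card ↥W₁ := orderOf_dvd_natCard _
    rw [← hpdef, Subgroup.orderOf_mk] at h1
    rcases (Nat.dvd_prime hW₁).mp h1 with h2 | h2
    · exact absurd (orderOf_eq_one_iff.mp h2) hx₀1
    · exact h2
  -- W₂ element
  obtain ⟨hW₁ne, hW₂ne, -, hcomm, -, -⟩ := h.selfNormalizing
  obtain ⟨y₀, hy₀W, hy₀1⟩ : ∃ y₀ ∈ W₂, y₀ ≠ 1 := by
    by_contra hcon
    apply hW₂ne
    rw [Subgroup.eq_bot_iff_forall]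
    intro a ha
    by_contra ha1
    exact hcon ⟨a, ha, ha1⟩
  have hy₀σ : y₀ ∈ sigmaCore M :=
    Cfsg.Agent.Helper54.bg14t_fittingHall_le hG hM (h.W₂_le hy₀W).1
  have hxy₀ : x₀ * y₀ = y₀ * x₀ := hcomm x₀ hx₀W y₀ hy₀W
  refine ⟨hW₁, ?_, ?_, ?_⟩
  · rw [hpdef]
    exact Subgroup.card_dvd_of_le hW₁M
  · intro hpσ
    obtain ⟨⟨-, -, hidx⟩, -, -⟩ := Cfsg.Agent.Helper22.bg10_sigma_hall hG hU hM
    have hrel : (sigmaCore M).relIndex M = (piCore (sigma M) ↥M).index := by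
      rw [Subgroup.relIndex]
      congr 1
      exact Subgroup.comap_map_eq_self_of_injective M.subtype_injective (piCore (sigma M) ↥M)
    have h1 : ¬ p ∣ (piCore (sigma M) ↥M).index := by
      rw [← hrel]
      exact hidx p hW₁ hpσ
    have h2 : (⟨x₀, hx₀M⟩ : ↥M) ∈ piCore (sigma M) ↥M := by
      apply Cfsg.Agent.Helper64.mem_of_coprime_index
      rw [Subgroup.orderOf_mk, hx₀ord]
      exact (Nat.Prime.coprime_iff_not_dvd hW₁).mpr h1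
    have h3 : x₀ ∈ sigmaCore M := ⟨⟨x₀, hx₀M⟩, h2, rfl⟩
    have h4 : x₀ ∈ ⁅M, M⁆ := Cfsg.Agent.Helper1.bg15_sigma_le_comm hG M hM h3
    have h5 : x₀ ∈ ⁅M, M⁆ ⊓ W₁ := Subgroup.mem_inf.mpr ⟨h4, hx₀W⟩
    rw [hM'W₁, Subgroup.mem_bot] at h5
    exact hx₀1 h5
  · intro P
    have hWp : IsPGroup p ↥(W₁.subgroupOf M) := IsPGroup.of_card (n := 1) (by rw [hWcard, pow_one])
    obtain ⟨m, hm⟩ := MulAction.exists_smul_eq ↥M (hWp.toSylow hWidx) P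
    have hPW : (P : Subgroup ↥M) = MulAut.conj m • (W₁.subgroupOf M) := by
      rw [← hm, Sylow.coe_subgroup_smul]
      rfl
    constructor
    · have e := Subgroup.equivSMul (MulAut.conj m) (W₁.subgroupOf M)
      have hc : Nat.card ↥(P : Subgroup ↥M) = p := by
        rw [hPW, ← Nat.card_congr e.toEquiv, hWcard]
      exact isCyclic_of_prime_card hc
    · obtain ⟨y₁, hy₁N, hy₁eq⟩ := hy₀σ
      have hy₁eq' : (y₁ : G) = y₀ := hy₁eq
      refine ⟨m * ⟨x₀, hx₀M⟩ * m⁻¹, ?_, ?_, ((m * y₁ * m⁻¹ : ↥M) : G), ?_, ?_, ?_⟩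
      · rw [hPW]
        have h1 : (⟨x₀, hx₀M⟩ : ↥M) ∈ W₁.subgroupOf M := Subgroup.mem_subgroupOf.mpr hx₀W
        have h2 := Subgroup.smul_mem_pointwise_smul _ (MulAut.conj m) _ h1
        rwa [MulAut.smul_def, MulAut.conj_apply] at h2
      · intro h1
        have h2 : (⟨x₀, hx₀M⟩ : ↥M) = 1 := by
          have h3 : (⟨x₀, hx₀M⟩ : ↥M) = m⁻¹ * (m * ⟨x₀, hx₀M⟩ * m⁻¹) * m := by group
          rw [h3, h1]
          group
        exact hx₀1 (congrArg Subtype.val h2)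
      · exact ⟨m * y₁ * m⁻¹, (piCore_normal (sigma M) ↥M).conj_mem y₁ hy₁N m, rfl⟩
      · intro h1
        have h2 : m * y₁ * m⁻¹ = 1 := Subtype.ext h1
        have h3 : y₁ = 1 := by
          have h4 : y₁ = m⁻¹ * (m * y₁ * m⁻¹) * m := by group
          rw [h4, h2]
          group
        apply hy₀1
        rw [← hy₁eq', h3]
        rfl
      · have h1 : (⟨x₀, hx₀M⟩ : ↥M) * y₁ = y₁ * ⟨x₀, hx₀M⟩ := by
          apply Subtype.ext
          show x₀ * (y₁ : G) = (y₁ : G) * x₀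
          rw [hy₁eq']
          exact hxy₀
        have h2 : (m * ⟨x₀, hx₀M⟩ * m⁻¹) * (m * y₁ * m⁻¹) = (m * y₁ * m⁻¹) * (m * ⟨x₀, hx₀M⟩ * m⁻¹) := by
          calc (m * ⟨x₀, hx₀M⟩ * m⁻¹) * (m * y₁ * m⁻¹) = m * (⟨x₀, hx₀M⟩ * y₁) * m⁻¹ := by group
            _ = m * (y₁ * ⟨x₀, hx₀M⟩) * m⁻¹ := by rw [h1]
            _ = (m * y₁ * m⁻¹) * (m * ⟨x₀, hx₀M⟩ * m⁻¹) := by group
        exact congrArg Subtype.val h2

end Cfsg.Agent.Helper20
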