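/-
helper20: CALL BG36 (helper2, row S1436) piece P3 `bg36_p_kappa` (double): S1432 in `N` for
`(g z g⁻¹, g a₁ g⁻¹)`.
-/
import Mathlib
import Cfsg.Agent.S1432

set_option autoImplicit false

namespace Cfsg.Agent.Helper20

open Cfsg Subgroup

universe u

variable {G : Type u} [Group G] [Finite G]

omit [Finite G] in
theorem bg36p3_conj_ne_one {g z : G} (hz1 : z ≠ 1) : g * z * g⁻¹ ≠ 1 := by
  intro h
  apply hz1
  have e : z = g⁻¹ * (g * z * g⁻¹) * g := by group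
  rw [e, h]
  group

omit [Finite G] in
theorem bg36p3_conj_comm {g z a : G} (ha : z * a = a * z) :
    g * a * g⁻¹ ∈ centralizer ({g * z * g⁻¹} : Set G) := by
  rw [mem_centralizer_iff]
  intro y hy
  rw [Set.mem_singleton_iff] at hy
  subst hy
  have e1 : g * z * g⁻¹ * (g * a * g⁻¹) = g * (z * a) * g⁻¹ := by group
  have e2 : g * a * g⁻¹ * (g * z * g⁻¹) = g * (a * z) * g⁻¹ := by group
  rw [e1, e2, ha]

/-- PIECE P3 -/
theorem bg36_p_kappa (hG : IsMinSimpleOddOrder G) {N : Subgroup G} (hN : IsCoatom N) {p : ℕ}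
    (hp : p.Prime) (hpσN : p ∉ sigma N) {A : Subgroup G} (hAel : IsElementaryAbelian p A)
    {z g a₁ : G} (hz1 : z ≠ 1) (hgσ : g * z * g⁻¹ ∈ sigmaCore N)
    (hgC : centralizer ({g * z * g⁻¹} : Set G) ≤ N)
    (hnle : ¬ A.map (MulAut.conj g).toMonoidHom ≤ N)
    (ha₁ : a₁ ∈ A) (ha₁1 : a₁ ≠ 1) (hza₁ : z * a₁ = a₁ * z) :
    p ∈ kappa N ∧ ¬ ∀ a ∈ A, z * a = a * z := by
  have hx1 : g * z * g⁻¹ ≠ 1 := bg36p3_conj_ne_one hz1
  have hx'C : g * a₁ * g⁻¹ ∈ centralizer ({g * z * g⁻¹} : Set G) := bg36p3_conj_comm hza₁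
  have hx'N : g * a₁ * g⁻¹ ∈ N := hgC hx'C
  have hx'1 : g * a₁ * g⁻¹ ≠ 1 := bg36p3_conj_ne_one ha₁1
  have hord : orderOf (g * a₁ * g⁻¹) = p := by
    have h1 : (g * a₁ * g⁻¹) ^ p = 1 := by
      rw [conj_pow, hAel.2 a₁ ha₁]
      group
    have h2 := orderOf_dvd_of_pow_eq_one h1
    rcases (Nat.dvd_prime hp).mp h2 with h | h
    · exfalso
      exact hx'1 (orderOf_eq_one_iff.mp h)
    · exact h
  have hσ : ∀ p' : ℕ, p'.Prime → p' ∣ orderOf (g * a₁ * g⁻¹) → p' ∉ sigma N := by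
    intro p' hp' hdvd
    rw [hord] at hdvd
    have e : p' = p := (Nat.prime_dvd_prime_iff_eq hp' hp).mp hdvd
    rw [e]
    exact hpσN
  have hnot : ¬ ∀ a ∈ A, z * a = a * z := by
    intro hall
    apply hnle
    rintro _ ⟨a, ha, rfl⟩
    show g * a * g⁻¹ ∈ N
    exact hgC (bg36p3_conj_comm (hall a ha))
  refine ⟨?_, hnot⟩
  rcases Cfsg.Agent.S1432.result hG N hN (g * z * g⁻¹) hgσ hx1 (g * a₁ * g⁻¹)
    (Subgroup.mem_inf.mpr ⟨hx'N, hx'C⟩) hx'1 hσ with ⟨hκ, -⟩ | ⟨-, -, hC, -⟩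
  · exact hκ p hp (by rw [hord])
  · exfalso
    apply hnle
    rintro _ ⟨a, ha, rfl⟩
    show g * a * g⁻¹ ∈ N
    apply hC
    have hab : a₁ * a = a * a₁ := by
      have := hAel.1
      have h := mul_comm' (⟨a₁, ha₁⟩ : A) ⟨a, ha⟩
      exact congrArg Subtype.val h
    have h3 := bg36p3_conj_comm (g := g) hab
    exact h3

end Cfsg.Agent.Helper20
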