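/-
helper20: CALL S1435 piece PCENT (double): `K` centralizes a `p`-subgroup `P` of `H` that it
normalizes (`p = |K|`).
-/
import Cfsg.Agent.Helper23.BG65Defs
import Cfsg.Agent.Helper23.Trans
import Cfsg.Agent.Helper20.BG13P4
import Cfsg.Agent.S1403
import Cfsg.Agent.S1420

set_option autoImplicit false

namespace Cfsg.Agent.Helper20

open Cfsg Subgroup

universe u

variable {G : Type u} [Group G] [Finite G] {M K U Mstar H : Subgroup G}

/-- PCENT. `K` centralizes a `p`-subgroup `P` of `H` that it normalizes (`p = |K|`): `K P` is a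
`p`-group, hence a nilpotent `σ(H)'`-subgroup of `H`, hence abelian by S1420 (1). -/
theorem bg65_P_cent (h : Helper23.BG65H M K U Mstar H) {P : Subgroup G} (hPH : P ≤ H)
    (hP : IsPGroup (Nat.card K) P) (hKP : K ≤ normalizer (P : Set G)) :
    ∀ k ∈ K, ∀ a ∈ P, k * a = a * k := by
  have hG := h.hG
  have hH := h.hH
  haveI : Fact (Nat.card K).Prime := ⟨h.hKp⟩
  have hUq : Helper22.BGUniq G := fun K hK h1 h2 => Cfsg.Agent.S1403.result hG K hK h1 h2
  have hcopK : (Nat.card K).Coprime (Nat.card (sigmaCore H)) :=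
    (Nat.Prime.coprime_iff_not_dvd h.hKp).mpr
      (fun hd => h.hpσ (Helper23.mem_of_dvd_card_piCoreOf (sigma H) H h.hKp hd))
  obtain ⟨E, hE, -⟩ := Helper20.bg13_exists_compl_ge hG hUq hH h.hKH hcopK
  have hKpg : IsPGroup (Nat.card K) K := IsPGroup.of_card (n := 1) (by rw [pow_one])
  have hN : IsPGroup (Nat.card K) ↥(K ⊔ P) := IsPGroup.to_sup_of_normal_right' hKpg hP hKP
  have hNH : K ⊔ P ≤ H := sup_le h.hKH hPH
  have hNnil : Group.IsNilpotent ↥(K ⊔ P) := hN.isNilpotent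
  have hNσ : ∀ p : ℕ, p.Prime → p ∣ Nat.card ↥(K ⊔ P) → p ∉ sigma H := by
    intro p hp hpN
    obtain ⟨n, hn⟩ := IsPGroup.iff_card.mp hN
    rw [hn] at hpN
    have h1 : p = Nat.card K := (Nat.prime_dvd_prime_iff_eq hp h.hKp).mp (hp.dvd_of_dvd_pow hpN)
    rw [h1]
    exact h.hpσ
  have hcomm : IsMulCommutative ↥(K ⊔ P) :=
    (Cfsg.Agent.S1420.result hG H hH E hE).1 (K ⊔ P) hNH hNnil hNσ
  intro k hk a ha
  exact congrArg Subtype.val
    (hcomm.is_comm.comm (⟨k, (le_sup_left : K ≤ K ⊔ P) hk⟩ : ↥(K ⊔ P))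
      ⟨a, (le_sup_right : P ≤ K ⊔ P) ha⟩)

end Cfsg.Agent.Helper20
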