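/-
helper20: CALL BG83 (helper25, row S1383) piece BAS1 `bg83_basic` (double).
-/
import Mathlib
import Cfsg.Agent.S1364
import Cfsg.Agent.S1365
import Cfsg.Agent.Helper49.BG14U
import Cfsg.Agent.Helper10.C9FHN

set_option autoImplicit false

namespace Cfsg.Agent.Helper20

open Cfsg Subgroup

universe u

variable {G : Type u} [Group G] [Finite G]

/-- BAS1 -/
theorem bg83_basic (hG : IsMinSimpleOddOrder G) {M K U : Subgroup G} (hM : IsCoatom M)
    (hKU : IsSigmaDecomposition M K U) (hK1 : K ≠ ⊥) (hU : U = ⊥)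
    (hH : fittingHallOf M = sigmaCore M) :
    IsComplIn K (sigmaCore M) M ∧ ⁅M, M⁆ = sigmaCore M ∧ Group.IsNilpotent ↥(sigmaCore M) ∧
      sigmaCore M ⊓ centralizer (K : Set G) ≠ ⊥ ∧
      sigmaCore M ⊓ centralizer (K : Set G) ≤ ⁅sigmaCore M, sigmaCore M⁆ := by
  have h64 := Cfsg.Agent.S1364.result hG M hM K U hKU hK1
  have h65 := Cfsg.Agent.S1365.result hG M hM K U hKU hK1
  have hcomm : ⁅M, M⁆ = sigmaCore M := by rw [h65.1, hU, bot_sup_eq]
  obtain ⟨hE, -, -, -⟩ := Cfsg.Agent.Helper49.bg14u_setup hG hKU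
  rw [hU, bot_sup_eq] at hE
  have hnil : Group.IsNilpotent ↥(sigmaCore M) := by
    rw [← hH]
    exact Cfsg.Agent.Helper10.c9_fittingHall_nil M
  refine ⟨hE, hcomm, hnil, h64.2.1, ?_⟩
  have h2 := h65.2
  rw [hcomm] at h2
  exact h2

end Cfsg.Agent.Helper20
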