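/-
helper20: CALL BG83 (helper25, row S1383) pieces KNE `bg83_K_ne` and FWD `bg83_forward`
((⟹) of S1383).  The `K ≠ 1` step is the one of `Cfsg.Agent.Helper1.bg16c_forward`.
-/
import Mathlib
import Cfsg.Agent.S1365
import Cfsg.Agent.Helper20.BG16cKAPN
import Cfsg.Agent.Helper49.BG16cRK1
import Cfsg.Agent.Helper35.SZ
import Cfsg.Agent.Helper54.BG14T2

set_option autoImplicit false

namespace Cfsg.Agent.Helper20

open Cfsg Subgroup

universe u

variable {G : Type u} [Group G] [Finite G]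

/-- KNE -/
theorem bg83_K_ne (hG : IsMinSimpleOddOrder G) {M K U W₁ U' W₂ : Subgroup G} (hM : IsCoatom M)
    (hKU : IsSigmaDecomposition M K U) (hP : IsTypePWith M W₁ U' W₂) : K ≠ ⊥ := by
  classical
  have hW₁M : W₁ ≤ M := hP.W₁_compl.2.1
  have hκ : (kappa M).Nonempty := by
    refine Cfsg.Agent.Helper20.bg16c_kappa_nonempty hG hM hP (fun r hr hrW => ?_)
    refine Cfsg.Agent.Helper49.bg16c_prank_one (W := W₁.subgroupOf M) ?_ ?_ hr ?_
    · haveI := hP.W₁_cyclic
      exact isCyclic_of_surjective (Subgroup.subgroupOfEquivOfLe hW₁M).symm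
        (Subgroup.subgroupOfEquivOfLe hW₁M).symm.surjective
    · rw [Cfsg.Agent.Helper35.card_subgroupOf_of_le hW₁M]
      exact hP.W₁_hall
    · rw [Cfsg.Agent.Helper35.card_subgroupOf_of_le hW₁M]
      exact hrW
  obtain ⟨r, hr⟩ := hκ
  intro hK
  have h1 := hKU.hall.2.2 r hr.1 hr
  rw [hK, Subgroup.relIndex_bot_left] at h1
  exact h1 hr.2.1

/-- FWD -/
theorem bg83_forward (hG : IsMinSimpleOddOrder G) {M K U : Subgroup G} (hM : IsCoatom M)
    (hKU : IsSigmaDecomposition M K U) (hV : IsOfTypeV M) :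
    K ≠ ⊥ ∧ U = ⊥ ∧ fittingHallOf M = sigmaCore M := by
  obtain ⟨W₁, U', W₂, hP, hU', -⟩ := hV
  have hK1 : K ≠ ⊥ := bg83_K_ne hG hM hKU hP
  have h65 := Cfsg.Agent.S1365.result hG M hM K U hKU hK1
  have hFσ : fittingHallOf M ≤ sigmaCore M := Cfsg.Agent.Helper54.bg14t_fittingHall_le hG hM
  obtain ⟨hFle, -, -, hprod⟩ := hP.U_compl
  have hder : ⁅M, M⁆ = fittingHallOf M := by
    apply le_antisymm
    · intro c hc
      obtain ⟨a, ha, b, hb, rfl⟩ := hprod c hc
      rw [hU', Subgroup.mem_bot] at hb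
      rw [hb, mul_one]
      exact ha
    · exact hFle
  have hsup : U ⊔ sigmaCore M = fittingHallOf M := by rw [← h65.1, hder]
  have hσF : sigmaCore M ≤ fittingHallOf M := by
    rw [← hsup]
    exact le_sup_right
  have hFeq : fittingHallOf M = sigmaCore M := le_antisymm hFσ hσF
  have hUσ : U ≤ sigmaCore M := by
    have h1 : U ≤ U ⊔ sigmaCore M := le_sup_left
    rw [hsup, hFeq] at h1
    exact h1
  have hUbot : U = ⊥ := by
    rw [eq_bot_iff, ← hKU.compl.2.2.1]
    exact le_inf le_rfl (hUσ.trans le_sup_right)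
  exact ⟨hK1, hUbot, hFeq⟩

end Cfsg.Agent.Helper20
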