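import Mathlib
import Cfsg.Prelude.Def_GeometricClasses
import Cfsg.Prelude.Def_LieClassical
import Cfsg.Agent.Helper84.E4FIFTH

set_option autoImplicit false

namespace Cfsg.Agent.Helper20
open scoped Matrix
open Polynomial

theorem e5cf_orderOf (p : ℕ) (hp5 : p % 5 = 2 ∨ p % 5 = 3) : orderOf (p : ZMod 5) = 4 := by
  have h1 : ((p : ℕ) : ZMod 5) = ((p % 5 : ℕ) : ZMod 5) := (ZMod.natCast_mod p 5).symm
  rw [h1, orderOf_eq_iff (by norm_num)]
  rcases hp5 with h | h <;> rw [h]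
  · refine ⟨by decide, ?_⟩
    intro m hm hm0
    interval_cases m <;> decide
  · refine ⟨by decide, ?_⟩
    intro m hm hm0
    interval_cases m <;> decide

/-- a non-zero vector is cyclic for an element of order 5 when `p ≡ ±2 (mod 5)` -/
theorem e5_cyclic_five {F : Type*} [Field F] [Fintype F] {p : ℕ} [Fact p.Prime] [CharP F p]
    (hF : Fintype.card F = p) (hp5 : p % 5 = 2 ∨ p % 5 = 3)
    (x : Matrix (Fin 2 ⊕ Fin 2) (Fin 2 ⊕ Fin 2) F) (hx5 : x ^ 5 = 1) (hx1 : x ≠ 1) :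
    x ^ 4 + x ^ 3 + x ^ 2 + x + 1 = 0 ∧
    ∀ v : Fin 2 ⊕ Fin 2 → F, v ≠ 0 → ∀ c : Fin 4 → F,
      c 0 • v + c 1 • (x *ᵥ v) + c 2 • ((x ^ 2) *ᵥ v) + c 3 • ((x ^ 3) *ᵥ v) = 0 → c = 0 := by
  have hpp : p.Prime := Fact.out
  have : Fact (Nat.Prime 5) := ⟨by norm_num⟩
  have hord : orderOf (p : ZMod 5) = 4 := e5cf_orderOf p hp5
  have hp5' : p ≠ 5 := by
    intro h
    rw [h] at hp5
    omega
  have h5 : ((5 : ℕ) : F) ≠ 0 := by
    intro h
    rw [CharP.cast_eq_zero_iff F p] at h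
    exact hp5' ((Nat.prime_dvd_prime_iff_eq hpp (by norm_num)).1 h)
  have hirr : Irreducible (∑ j ∈ Finset.range 5, (X : F[X]) ^ j) := by
    apply Cfsg.Agent.Helper84.e4_cyclo_irreducible 5 h5
    rw [hF, hord]
  have hmonic : (∑ j ∈ Finset.range 5, (X : F[X]) ^ j).Monic := by
    simp only [Finset.sum_range_succ, Finset.sum_range_zero]
    monicity!
  have hdeg : (∑ j ∈ Finset.range 5, (X : F[X]) ^ j).natDegree = 4 := by
    simp only [Finset.sum_range_succ, Finset.sum_range_zero]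
    compute_degree!
  -- `Φ₅(x) = 0`
  obtain ⟨φ, hφ⟩ : ∃ φ : Matrix (Fin 2 ⊕ Fin 2) (Fin 2 ⊕ Fin 2) F ≃ₐ[F] Matrix (Fin 4) (Fin 4) F,
      φ = Matrix.reindexAlgEquiv F F finSumFinEquiv := ⟨_, rfl⟩
  have hA5 : (φ x) ^ 5 = 1 := by rw [← map_pow, hx5, map_one]
  have hA1 : φ x ≠ 1 := fun h => hx1 (φ.injective (by rw [h, map_one]))
  have hcp := Cfsg.Agent.Helper84.e4_charpoly_of_pow 5 hirr hmonic hdeg (φ x) hA5 hA1
  have h0 : aeval (φ x) (∑ j ∈ Finset.range 5, (X : F[X]) ^ j) = 0 := by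
    rw [← hcp]; exact Matrix.aeval_self_charpoly _
  have hΦ : aeval x (∑ j ∈ Finset.range 5, (X : F[X]) ^ j) = 0 := by
    apply φ.injective
    rw [map_zero]
    have h2 := Polynomial.aeval_algHom_apply (φ : Matrix (Fin 2 ⊕ Fin 2) (Fin 2 ⊕ Fin 2) F →ₐ[F]
      Matrix (Fin 4) (Fin 4) F) x (∑ j ∈ Finset.range 5, (X : F[X]) ^ j)
    exact h2.symm.trans h0
  refine ⟨?_, ?_⟩
  · have h1 := hΦ
    simp only [Finset.sum_range_succ, Finset.sum_range_zero, map_add, map_pow, aeval_X, pow_zero,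
      pow_one, zero_add, map_one] at h1
    rw [← h1]; abel
  · intro v hv c hc
    obtain ⟨q, hq⟩ : ∃ q : F[X], q = C (c 0) + C (c 1) * X + C (c 2) * X ^ 2 + C (c 3) * X ^ 3 :=
      ⟨_, rfl⟩
    have hqv : (aeval x q) *ᵥ v
        = c 0 • v + c 1 • (x *ᵥ v) + c 2 • ((x ^ 2) *ᵥ v) + c 3 • ((x ^ 3) *ᵥ v) := by
      simp only [hq, map_add, map_mul, aeval_C, map_pow, aeval_X, Algebra.algebraMap_eq_smul_one,
        smul_mul_assoc, one_mul, Matrix.add_mulVec, Matrix.smul_mulVec, Matrix.one_mulVec]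
    by_cases hq0 : q = 0
    · funext i
      fin_cases i
      · have h := congrArg (fun p : F[X] => p.coeff 0) hq0
        simpa [hq, coeff_C, coeff_X, coeff_X_pow] using h
      · have h := congrArg (fun p : F[X] => p.coeff 1) hq0
        simpa [hq, coeff_C, coeff_X, coeff_X_pow] using h
      · have h := congrArg (fun p : F[X] => p.coeff 2) hq0
        simpa [hq, coeff_C, coeff_X, coeff_X_pow] using h
      · have h := congrArg (fun p : F[X] => p.coeff 3) hq0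
        simpa [hq, coeff_C, coeff_X, coeff_X_pow] using h
    · exfalso
      have hqd : q.natDegree ≤ 3 := by
        rw [hq]; compute_degree
      have hndvd : ¬ (∑ j ∈ Finset.range 5, (X : F[X]) ^ j) ∣ q :=
        not_dvd_of_natDegree_lt hq0 (by rw [hdeg]; omega)
      obtain ⟨a, b, hab⟩ := hirr.coprime_iff_not_dvd.2 hndvd
      have h3 := congrArg (aeval x) hab
      rw [map_add, map_mul, map_mul, hΦ, mul_zero, zero_add, map_one] at h3
      apply hv
      have h4 : v = (aeval x b * aeval x q) *ᵥ v := by rw [h3, Matrix.one_mulVec]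
      rw [h4, ← Matrix.mulVec_mulVec, hqv, hc, Matrix.mulVec_zero]

end Cfsg.Agent.Helper20
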