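import Mathlib
import Cfsg.Prelude.Def_GeometricClasses
import Cfsg.Prelude.Def_LieTypeDatum

set_option autoImplicit false

namespace Cfsg.Agent.Helper20

open Matrix Module

/-- the diagonal similitude `diag(1, c)` of the standard symplectic form -/
def gspDiag {F : Type*} [Field F] (m : ℕ) (c : F) : Matrix (Fin m ⊕ Fin m) (Fin m ⊕ Fin m) F :=
  Matrix.fromBlocks (1 : Matrix (Fin m) (Fin m) F) (0 : Matrix (Fin m) (Fin m) F)
    (0 : Matrix (Fin m) (Fin m) F) (c • (1 : Matrix (Fin m) (Fin m) F))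

theorem gspDiag_mul {F : Type*} [Field F] (m : ℕ) (c : F) :
    (gspDiag m c)ᵀ * Matrix.J (Fin m) F * gspDiag m c = c • Matrix.J (Fin m) F := by
  unfold gspDiag
  rw [Matrix.fromBlocks_transpose, Matrix.J, Matrix.fromBlocks_multiply, Matrix.fromBlocks_multiply,
    Matrix.fromBlocks_smul]
  simp

theorem gspDiag_det {F : Type*} [Field F] (m : ℕ) (c : F) : (gspDiag m c).det = c ^ m := by
  unfold gspDiag
  rw [Matrix.det_fromBlocks_zero₁₂, Matrix.det_one, one_mul, Matrix.det_smul, Matrix.det_one,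
    mul_one, Fintype.card_fin]

/-- GSpDet (2/2) -/
theorem gsp_exists {F : Type*} [Field F] (m : ℕ) (c : F) (hc : c ≠ 0) :
    ∃ h : GL (Fin m ⊕ Fin m) F,
      (h : Matrix (Fin m ⊕ Fin m) (Fin m ⊕ Fin m) F)ᵀ * Matrix.J (Fin m) F *
        (h : Matrix (Fin m ⊕ Fin m) (Fin m ⊕ Fin m) F) = c • Matrix.J (Fin m) F ∧
      (h : Matrix (Fin m ⊕ Fin m) (Fin m ⊕ Fin m) F).det = c ^ m := by
  refine ⟨Matrix.GeneralLinearGroup.mkOfDetNeZero (gspDiag m c)
    (by rw [gspDiag_det]; exact pow_ne_zero m hc), ?_, ?_⟩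
  · exact gspDiag_mul m c
  · exact gspDiag_det m c

/-- GSpDet (1/2) -/
theorem gsp_det {F : Type*} [Field F] {m : ℕ} (h : GL (Fin m ⊕ Fin m) F) (c : F)
    (hc : (h : Matrix (Fin m ⊕ Fin m) (Fin m ⊕ Fin m) F)ᵀ * Matrix.J (Fin m) F *
      (h : Matrix (Fin m ⊕ Fin m) (Fin m ⊕ Fin m) F) = c • Matrix.J (Fin m) F) :
    (h : Matrix (Fin m ⊕ Fin m) (Fin m ⊕ Fin m) F).det = c ^ m := by
  rcases Nat.eq_zero_or_pos m with rfl | hm
  · rw [pow_zero]
    exact Matrix.det_isEmpty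
  haveI : Nonempty (Fin m ⊕ Fin m) := ⟨Sum.inl ⟨0, hm⟩⟩
  have hJ : (Matrix.J (Fin m) F).det ≠ 0 := by
    intro h0
    have h1 := Matrix.J_det_mul_J_det (Fin m) F
    rw [h0, mul_zero] at h1
    exact zero_ne_one h1
  have hdet : (h : Matrix (Fin m ⊕ Fin m) (Fin m ⊕ Fin m) F).det ≠ 0 :=
    (Matrix.GeneralLinearGroup.det h).ne_zero
  have hc0 : c ≠ 0 := by
    intro h0
    have h1 := congrArg Matrix.det hc
    rw [h0, zero_smul, Matrix.det_mul, Matrix.det_mul, Matrix.det_transpose, Matrix.det_zero] at h1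
    exact mul_ne_zero (mul_ne_zero hdet hJ) hdet h1
  obtain ⟨g, hg⟩ : ∃ g : Matrix (Fin m ⊕ Fin m) (Fin m ⊕ Fin m) F,
      g = (h : Matrix (Fin m ⊕ Fin m) (Fin m ⊕ Fin m) F) * gspDiag m c⁻¹ := ⟨_, rfl⟩
  have hgJ : gᵀ * Matrix.J (Fin m) F * g = Matrix.J (Fin m) F := by
    rw [hg, Matrix.transpose_mul]
    calc (gspDiag m c⁻¹)ᵀ * (h : Matrix (Fin m ⊕ Fin m) (Fin m ⊕ Fin m) F)ᵀ * Matrix.J (Fin m) F *
          ((h : Matrix (Fin m ⊕ Fin m) (Fin m ⊕ Fin m) F) * gspDiag m c⁻¹)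
        = (gspDiag m c⁻¹)ᵀ * ((h : Matrix (Fin m ⊕ Fin m) (Fin m ⊕ Fin m) F)ᵀ *
            Matrix.J (Fin m) F * (h : Matrix (Fin m ⊕ Fin m) (Fin m ⊕ Fin m) F)) *
            gspDiag m c⁻¹ := by
          simp only [Matrix.mul_assoc]
      _ = c • ((gspDiag m c⁻¹)ᵀ * Matrix.J (Fin m) F * gspDiag m c⁻¹) := by
          rw [hc, Matrix.mul_smul, Matrix.smul_mul]
      _ = Matrix.J (Fin m) F := by
          rw [gspDiag_mul, smul_smul, mul_inv_cancel₀ hc0, one_smul]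
  have hgmem : g ∈ Matrix.symplecticGroup (Fin m) F := SymplecticGroup.mem_iff'.mpr hgJ
  have hgdet : g.det = 1 := SymplecticGroup.det_eq_one hgmem
  rw [hg, Matrix.det_mul, gspDiag_det] at hgdet
  have hcm : c ^ m ≠ 0 := pow_ne_zero m hc0
  rw [inv_pow] at hgdet
  field_simp at hgdet
  exact hgdet

end Cfsg.Agent.Helper20
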