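import Mathlib
import Cfsg.Agent.Helper48.M11UGeo

/-!
# S0420, piece DCA (`m11u_dcard`): the stabiliser of an adjacent pair has order 8.
-/

set_option autoImplicit false
set_option linter.style.haveILetI false
open scoped Pointwise

namespace Cfsg.Agent.Helper20

open Cfsg.Agent.Helper48.M11U

universe u
variable {G : Type u} [Group G] [Finite G]

theorem m11u_dcard (h : M11L1 G)
    (hfree : ∀ R S : Sylow 3 G, Adj R S → ∀ g : G, g • R = R → g • S = S →
      ∀ r ∈ (R : Subgroup G), r ≠ 1 → g * r = r * g → g = 1)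
    (hcz : ∀ (z : G) (R : Sylow 3 G), orderOf z = 2 → Inv z R →
      Nat.card ↥(Subgroup.centralizer ({z} : Set G) ⊓ MulAction.stabilizer G R) = 16)
    (R S : Sylow 3 G) (hRS : Adj R S) :
    Nat.card ↥(MulAction.stabilizer G R ⊓ MulAction.stabilizer G S) = 8 := by
  have hRS' := hRS
  obtain ⟨hne, z, hz, hzR, hzS⟩ := hRS
  have hcardR := h.raw.card3 R
  -- upper bound
  have hle : Nat.card ↥(MulAction.stabilizer G R ⊓ MulAction.stabilizer G S) ≤ 8 := by
    obtain ⟨r₀, hr₀, hr₀1⟩ : ∃ r₀ ∈ (R : Subgroup G), r₀ ≠ 1 := by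
      by_contra hcon
      push Not at hcon
      have hbot : (R : Subgroup G) = ⊥ := (Subgroup.eq_bot_iff_forall _).2 hcon
      rw [hbot, Subgroup.card_bot] at hcardR
      omega
    have hmem : ∀ d : ↥(MulAction.stabilizer G R ⊓ MulAction.stabilizer G S),
        (d : G) * r₀ * (d : G)⁻¹ ∈ (R : Subgroup G) := by
      intro d
      have hd : (d : G) • R = R := MulAction.mem_stabilizer_iff.1 (Subgroup.mem_inf.1 d.2).1
      have h1 : (d : G) * r₀ * (d : G)⁻¹ ∈ (((d : G) • R : Sylow 3 G) : Subgroup G) := by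
        rw [mem_smul_iff]
        have e : (d : G)⁻¹ * ((d : G) * r₀ * (d : G)⁻¹) * (d : G) = r₀ := by group
        rw [e]; exact hr₀
      rw [hd] at h1
      exact h1
    have hinj : Function.Injective
        (fun o : Option ↥(MulAction.stabilizer G R ⊓ MulAction.stabilizer G S) =>
          o.elim (1 : ↥(R : Subgroup G)) (fun d => ⟨(d : G) * r₀ * (d : G)⁻¹, hmem d⟩)) := by
      intro a b hab
      rcases a with _ | d <;> rcases b with _ | d'
      · rfl
      · exfalso
        have e : (1 : G) = (d' : G) * r₀ * (d' : G)⁻¹ := congrArg Subtype.val hab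
        apply hr₀1
        have e2 : r₀ = (d' : G)⁻¹ * ((d' : G) * r₀ * (d' : G)⁻¹) * (d' : G) := by group
        rw [e2, ← e]; group
      · exfalso
        have e : (d : G) * r₀ * (d : G)⁻¹ = (1 : G) := congrArg Subtype.val hab
        apply hr₀1
        have e2 : r₀ = (d : G)⁻¹ * ((d : G) * r₀ * (d : G)⁻¹) * (d : G) := by group
        rw [e2, e]; group
      · have e : (d : G) * r₀ * (d : G)⁻¹ = (d' : G) * r₀ * (d' : G)⁻¹ := congrArg Subtype.val hab
        have hg : (d' : G)⁻¹ * (d : G) ∈ MulAction.stabilizer G R ⊓ MulAction.stabilizer G S :=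
          mul_mem (inv_mem d'.2) d.2
        have hgR : ((d' : G)⁻¹ * (d : G)) • R = R :=
          MulAction.mem_stabilizer_iff.1 (Subgroup.mem_inf.1 hg).1
        have hgS : ((d' : G)⁻¹ * (d : G)) • S = S :=
          MulAction.mem_stabilizer_iff.1 (Subgroup.mem_inf.1 hg).2
        have hc : ((d' : G)⁻¹ * (d : G)) * r₀ = r₀ * ((d' : G)⁻¹ * (d : G)) := by
          calc ((d' : G)⁻¹ * (d : G)) * r₀ = (d' : G)⁻¹ * ((d : G) * r₀ * (d : G)⁻¹) * (d : G) := by
                group
            _ = (d' : G)⁻¹ * ((d' : G) * r₀ * (d' : G)⁻¹) * (d : G) := by rw [e]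
            _ = r₀ * ((d' : G)⁻¹ * (d : G)) := by group
        have h1 := hfree R S hRS' _ hgR hgS r₀ hr₀ hr₀1 hc
        rw [inv_mul_eq_one] at h1
        exact congrArg some (Subtype.ext h1.symm)
    have hcard := Nat.card_le_card_of_injective _ hinj
    rw [Finite.card_option, hcardR] at hcard
    omega
  -- lower bound
  have hge : 8 ≤ Nat.card ↥(MulAction.stabilizer G R ⊓ MulAction.stabilizer G S) := by
    obtain ⟨E, hE⟩ : ∃ E : Subgroup G,
        E = Subgroup.centralizer ({z} : Set G) ⊓ MulAction.stabilizer G R := ⟨_, rfl⟩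
    have hE16 : Nat.card ↥E = 16 := by rw [hE]; exact hcz z R hz hzR
    have hEmem : ∀ e : ↥E, (e : G) * z * (e : G)⁻¹ = z ∧ (e : G) • R = R := by
      intro e
      have he : (e : G) ∈ Subgroup.centralizer ({z} : Set G) ⊓ MulAction.stabilizer G R := by
        rw [← hE]; exact e.2
      obtain ⟨hec, heR⟩ := Subgroup.mem_inf.1 he
      refine ⟨?_, MulAction.mem_stabilizer_iff.1 heR⟩
      have := Subgroup.mem_centralizer_iff.1 hec z (Set.mem_singleton z)
      rw [← this, mul_inv_cancel_right]
    have horb : (MulAction.orbit ↥E S).ncard ≤ 2 := by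
      have hsub : MulAction.orbit ↥E S ⊆ {P : Sylow 3 G | Inv z P} \ {R} := by
        rintro P ⟨e, rfl⟩
        obtain ⟨hez, heR⟩ := hEmem e
        refine ⟨?_, ?_⟩
        · show Inv z ((e : G) • S)
          have := inv_conj hzS (e : G)
          rwa [hez] at this
        · intro hP
          have hP' : (e : G) • S = R := hP
          apply hne
          apply smul_left_cancel (e : G)
          exact heR.trans hP'.symm
      have h3 : ({P : Sylow 3 G | Inv z P}).ncard = 3 := by
        rw [← _root_.Nat.card_coe_set_eq]; exact h.tri z hz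
      have h2 : ({P : Sylow 3 G | Inv z P} \ {R}).ncard = 2 := by
        rw [Set.ncard_sdiff_singleton_of_mem (show R ∈ {P : Sylow 3 G | Inv z P} from hzR), h3]
      calc (MulAction.orbit ↥E S).ncard ≤ ({P : Sylow 3 G | Inv z P} \ {R}).ncard :=
            Set.ncard_le_ncard hsub (Set.toFinite _)
        _ = 2 := h2
    have hidx := MulAction.index_stabilizer (G := ↥E) (x := S)
    have hmul := Subgroup.card_mul_index (MulAction.stabilizer ↥E S)
    rw [hidx, hE16] at hmul
    have h8 : 8 ≤ Nat.card ↥(MulAction.stabilizer ↥E S) := by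
      by_contra hlt
      push Not at hlt
      have : Nat.card ↥(MulAction.stabilizer ↥E S) * (MulAction.orbit ↥E S).ncard ≤ 7 * 2 :=
        Nat.mul_le_mul (by omega) horb
      omega
    have hmemD : ∀ e : ↥(MulAction.stabilizer ↥E S),
        ((e : ↥E) : G) ∈ MulAction.stabilizer G R ⊓ MulAction.stabilizer G S := by
      intro e
      refine Subgroup.mem_inf.2 ⟨MulAction.mem_stabilizer_iff.2 (hEmem (e : ↥E)).2, ?_⟩
      rw [MulAction.mem_stabilizer_iff]
      exact MulAction.mem_stabilizer_iff.1 e.2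
    have hinj : Function.Injective (fun e : ↥(MulAction.stabilizer ↥E S) =>
        (⟨((e : ↥E) : G), hmemD e⟩ : ↥(MulAction.stabilizer G R ⊓ MulAction.stabilizer G S))) := by
      intro a b hab
      have e : ((a : ↥E) : G) = ((b : ↥E) : G) := congrArg
        (fun x : ↥(MulAction.stabilizer G R ⊓ MulAction.stabilizer G S) => (x : G)) hab
      exact Subtype.ext (Subtype.ext e)
    exact h8.trans (Nat.card_le_card_of_injective _ hinj)
  omega

end Cfsg.Agent.Helper20
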