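import Mathlib
import Cfsg.Agent.Helper48.M11UGeo

/-!
# S0420, piece NAB2 (`m11u_nab_false`): the configuration "not A and B" is impossible
(19 distinct neighbours of `T`, but the valency is 18).
-/

set_option autoImplicit false
open scoped Pointwise

namespace Cfsg.Agent.Helper20

open Cfsg.Agent.Helper48.M11U

universe u
variable {G : Type u} [Group G] [Finite G]

theorem m11u_nab_false (h : M11Gr G) (R S T U : Sylow 3 G) (hRS : Adj R S) (hRT : Adj R T)
    (hTS : ∀ r ∈ (R : Subgroup G), Adj T (r • S)) (hU : U ≠ R) (hRU : ¬ Adj R U)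
    (hUT : ∀ r ∈ (R : Subgroup G), Adj U (r • T)) : False := by
  have hsemi := h.geo.l1.semireg
  have hcard3 := h.geo.l1.raw.card3 R
  have hval := h.valency T
  have hSR : S ≠ R := fun e => hRS.1 e.symm
  have hRfix : ∀ r ∈ (R : Subgroup G), r • R = R := by
    intro r hr
    rw [smul_eq_iff]
    exact Subgroup.le_normalizer hr
  have f1 : ∀ r : (R : Subgroup G), Adj T ((r : G) • U) := by
    intro r
    have h1 := hUT (r : G)⁻¹ (inv_mem r.2)
    have h2 := adj_smul h1 (r : G)
    rw [smul_inv_smul] at h2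
    exact adj_symm h2
  have f2 : Adj T R := adj_symm hRT
  have f3 : ∀ r : (R : Subgroup G), Adj T ((r : G) • S) := fun r => hTS r r.2
  have i1 : Function.Injective
      (fun r : ↥(R : Subgroup G) => (⟨(r : G) • U, f1 r⟩ : {P : Sylow 3 G // Adj T P})) := by
    intro r r' hrr'
    have e : (r : G) • U = (r' : G) • U := congrArg Subtype.val hrr'
    have e2 : ((r' : G)⁻¹ * (r : G)) • U = U := by rw [mul_smul, e, inv_smul_smul]
    have e3 := hsemi R U _ (mul_mem (inv_mem r'.2) r.2) e2 hU
    rw [inv_mul_eq_one] at e3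
    exact Subtype.ext e3.symm
  have i3 : Function.Injective
      (fun r : ↥(R : Subgroup G) => (⟨(r : G) • S, f3 r⟩ : {P : Sylow 3 G // Adj T P})) := by
    intro r r' hrr'
    have e : (r : G) • S = (r' : G) • S := congrArg Subtype.val hrr'
    have e2 : ((r' : G)⁻¹ * (r : G)) • S = S := by rw [mul_smul, e, inv_smul_smul]
    have e3 := hsemi R S _ (mul_mem (inv_mem r'.2) r.2) e2 hSR
    rw [inv_mul_eq_one] at e3
    exact Subtype.ext e3.symm
  have i2 : Function.Injective
      (fun _ : Unit => (⟨R, f2⟩ : {P : Sylow 3 G // Adj T P})) :=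
    fun a b _ => Subsingleton.elim a b
  have i23 : Function.Injective (Sum.elim
      (fun _ : Unit => (⟨R, f2⟩ : {P : Sylow 3 G // Adj T P}))
      (fun r : ↥(R : Subgroup G) => (⟨(r : G) • S, f3 r⟩ : {P : Sylow 3 G // Adj T P}))) := by
    apply Function.Injective.sumElim i2 i3
    intro a r e
    have e1 : R = (r : G) • S := congrArg Subtype.val e
    have e2 : S = (r : G)⁻¹ • R := eq_inv_smul_iff.2 e1.symm
    exact hRS.1 ((hRfix _ (inv_mem r.2)).symm.trans e2.symm)
  have hinj : Function.Injective (Sum.elim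
      (fun r : ↥(R : Subgroup G) => (⟨(r : G) • U, f1 r⟩ : {P : Sylow 3 G // Adj T P}))
      (Sum.elim
        (fun _ : Unit => (⟨R, f2⟩ : {P : Sylow 3 G // Adj T P}))
        (fun r : ↥(R : Subgroup G) => (⟨(r : G) • S, f3 r⟩ : {P : Sylow 3 G // Adj T P})))) := by
    apply Function.Injective.sumElim i1 i23
    intro r x e
    rcases x with a | r'
    · have e1 : (r : G) • U = R := congrArg Subtype.val e
      have e2 : U = (r : G)⁻¹ • R := eq_inv_smul_iff.2 e1
      exact hU (e2.trans (hRfix _ (inv_mem r.2)))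
    · have e1 : (r : G) • U = (r' : G) • S := congrArg Subtype.val e
      have e2 : U = ((r : G)⁻¹ * (r' : G)) • S := by
        rw [mul_smul, eq_inv_smul_iff]; exact e1
      have e3 := adj_smul hRS ((r : G)⁻¹ * (r' : G))
      rw [hRfix _ (mul_mem (inv_mem r.2) r'.2), ← e2] at e3
      exact hRU e3
  have hle := Nat.card_le_card_of_injective _ hinj
  have hunit : Nat.card Unit = 1 := Nat.card_unique
  rw [hval, Nat.card_sum, Nat.card_sum, hunit, hcard3] at hle
  omega

end Cfsg.Agent.Helper20
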