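import Mathlib
import Cfsg.Agent.Helper48.M11UGeo

/-!
# S0420, piece TAD (`m11u_transadj`): `G` is transitive on ordered adjacent pairs of Sylow
3-subgroups.
-/

set_option autoImplicit false
set_option linter.style.haveILetI false
open scoped Pointwise

namespace Cfsg.Agent.Helper20

open Cfsg.Agent.Helper48.M11U

universe u
variable {G : Type u} [Group G] [Finite G]

/-- in a type with three elements, any element is one of three given distinct ones -/
theorem m11u_card3_cases {α : Type*} (h : Nat.card α = 3) (a b c d : α) (hab : a ≠ b)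
    (hac : a ≠ c) (hbc : b ≠ c) : d = a ∨ d = b ∨ d = c := by
  classical
  by_contra hd
  push Not at hd
  haveI : Finite α := Nat.finite_of_card_ne_zero (by rw [h]; norm_num)
  haveI := Fintype.ofFinite α
  have h4 : ({a, b, c, d} : Finset α).card = 4 := by
    rw [Finset.card_insert_of_notMem, Finset.card_insert_of_notMem,
      Finset.card_insert_of_notMem, Finset.card_singleton]
    · simp [hd.2.2.symm]
    · simp [hbc, hd.2.1.symm]
    · simp [hab, hac, hd.1.symm]
  have := Finset.card_le_univ ({a, b, c, d} : Finset α)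
  rw [h4, ← Nat.card_eq_fintype_card, h] at this
  omega

theorem m11u_transadj (h : M11Geo G) (R S R' S' : Sylow 3 G) (h1 : Adj R S) (h2 : Adj R' S') :
    ∃ g : G, g • R = R' ∧ g • S = S' := by
  haveI : Fact (Nat.Prime 3) := ⟨by norm_num⟩
  obtain ⟨g₁, hg₁⟩ := MulAction.exists_smul_eq G R R'
  have hadj : Adj R' (g₁ • S) := by
    have := adj_smul h1 g₁
    rwa [hg₁] at this
  obtain ⟨hne1, z₁, hz₁, hz₁R, hz₁S⟩ := hadj
  obtain ⟨hne2, z₂, hz₂, hz₂R, hz₂S⟩ := h2
  obtain ⟨r, hr, hrz⟩ := h.l1.orbI R' z₁ z₂ hz₁ hz₂ hz₁R hz₂R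
  have hrR : r • R' = R' := by
    rw [smul_eq_iff]
    exact Subgroup.le_normalizer hr
  have hX : Inv z₂ (r • g₁ • S) := by
    rw [hrz]
    exact inv_conj hz₁S r
  have hneX : R' ≠ r • g₁ • S := by
    intro e
    apply hne1
    apply smul_left_cancel r
    exact hrR.trans e
  by_cases hXS : r • g₁ • S = S'
  · refine ⟨r * g₁, ?_, ?_⟩
    · rw [mul_smul, hg₁, hrR]
    · rw [mul_smul, hXS]
  · obtain ⟨g, hgz, hgR, hgX⟩ := h.swap z₂ R' (r • g₁ • S) hz₂ hz₂R hX hneX
    have hgz' : g * z₂ * g⁻¹ = z₂ := by rw [hgz, mul_inv_cancel_right]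
    have hgXinv : Inv z₂ (g • r • g₁ • S) := by
      have := inv_conj hX g
      rwa [hgz'] at this
    have hcases := m11u_card3_cases (h.l1.tri z₂ hz₂)
      (⟨R', hz₂R⟩ : {P : Sylow 3 G // Inv z₂ P}) ⟨r • g₁ • S, hX⟩ ⟨S', hz₂S⟩
      ⟨g • r • g₁ • S, hgXinv⟩
      (fun e => hneX (congrArg Subtype.val e)) (fun e => hne2 (congrArg Subtype.val e))
      (fun e => hXS (congrArg Subtype.val e))
    have hfin : g • r • g₁ • S = S' := by
      rcases hcases with e | e | e
      · exfalso
        have e1 : g • r • g₁ • S = R' := congrArg Subtype.val e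
        apply hneX
        apply smul_left_cancel g
        exact hgR.trans e1.symm
      · exfalso
        exact hgX (congrArg Subtype.val e)
      · exact congrArg Subtype.val e
    refine ⟨g * r * g₁, ?_, ?_⟩
    · rw [mul_smul, mul_smul, hg₁, hrR, hgR]
    · rw [mul_smul, mul_smul, hfin]

end Cfsg.Agent.Helper20
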