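import Mathlib

set_option autoImplicit false

/-!
# Minimal covers by nilpotent subgroups (helper20)

Elementary analysis of a finite group with trivial center that has a minimal cover all of
whose members are nilpotent, around an abelian Sylow subgroup containing a "special" element
(a generator, or an element whose `p`-th power is not trivial).
-/

namespace Cfsg.Agent.Helper20

section

variable {G : Type*} [Group G]

/-- The hypothesis: a minimal cover by proper subgroups, all members nilpotent. -/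
def NilCoverHyp (𝓐 : Finset (Subgroup G)) : Prop :=
  ((∀ A ∈ 𝓐, A ≠ ⊤) ∧ (∀ g : G, ∃ A ∈ 𝓐, g ∈ A)) ∧
    (∀ 𝓑 : Finset (Subgroup G), (∀ A ∈ 𝓑, A ≠ ⊤) ∧ (∀ g : G, ∃ A ∈ 𝓑, g ∈ A) →
      𝓐.card ≤ 𝓑.card) ∧ (∀ A ∈ 𝓐, Group.IsNilpotent ↥A)

/-- A special element of a subgroup. -/
def NilCoverSpecial (p : ℕ) (Q : Subgroup G) (w : G) : Prop :=
  w ∈ Q ∧ w ≠ 1 ∧ (Q ≤ Subgroup.zpowers w ∨ w ^ p ≠ 1)

theorem nilCover_isPGroup_zpowers {p : ℕ} {w : G} (h : ∃ k : ℕ, w ^ p ^ k = 1) :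
    IsPGroup p (Subgroup.zpowers w) := by
  obtain ⟨k, hk⟩ := h
  rintro ⟨g, hg⟩
  obtain ⟨n, rfl⟩ := Subgroup.mem_zpowers_iff.mp hg
  refine ⟨k, Subtype.ext ?_⟩
  show (w ^ n) ^ p ^ k = 1
  rw [← zpow_natCast, ← zpow_mul, mul_comm, zpow_mul, zpow_natCast, hk, one_zpow]

theorem nilCover_pElement_of_mem {p : ℕ} {Q : Subgroup G} (hQ : IsPGroup p Q) {y : G}
    (hy : y ∈ Q) : ∃ k : ℕ, y ^ p ^ k = 1 := by
  obtain ⟨k, hk⟩ := hQ ⟨y, hy⟩
  exact ⟨k, by simpa using congrArg Subtype.val hk⟩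

theorem nilCover_pow_ne_one {p : ℕ} [hp : Fact p.Prime] {x : G} (hx : ∃ k : ℕ, x ^ p ^ k = 1)
    (hx1 : x ≠ 1) {m : ℕ} (hm : ¬ p ∣ m) : x ^ m ≠ 1 := by
  obtain ⟨k, hk⟩ := hx
  intro h
  have h1 : orderOf x ∣ m := orderOf_dvd_of_pow_eq_one h
  have h2 : orderOf x ∣ p ^ k := orderOf_dvd_of_pow_eq_one hk
  have hcop : Nat.Coprime (p ^ k) m :=
    Nat.Coprime.pow_left k ((Nat.Prime.coprime_iff_not_dvd hp.out).mpr hm)
  have h3 : orderOf x ∣ 1 := by
    have := Nat.dvd_gcd h2 h1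
    rwa [hcop.gcd_eq_one] at this
  exact hx1 (orderOf_eq_one_iff.mp (Nat.dvd_one.mp h3))

theorem nilCover_le_sylow_of_le_normalizer {p : ℕ} [Fact p.Prime] (P : Sylow p G)
    {Q : Subgroup G} (hQ : IsPGroup p Q)
    (hQN : Q ≤ Subgroup.normalizer ((P : Subgroup G) : Set G)) : Q ≤ P := by
  have h1 : IsPGroup p (Q ⊔ (P : Subgroup G) : Subgroup G) :=
    hQ.to_sup_of_normal_right' P.isPGroup' hQN
  have h2 := P.is_maximal' h1 le_sup_right
  exact le_sup_left.trans h2.le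

theorem nilCover_mem_sylow_of_mem_normalizer {p : ℕ} [Fact p.Prime] (P : Sylow p G) {w : G}
    (hw : w ∈ Subgroup.normalizer ((P : Subgroup G) : Set G)) (hwp : ∃ k : ℕ, w ^ p ^ k = 1) :
    w ∈ (P : Subgroup G) :=
  nilCover_le_sylow_of_le_normalizer P (nilCover_isPGroup_zpowers hwp)
    (by rw [Subgroup.zpowers_le]; exact hw) (Subgroup.mem_zpowers w)

theorem nilCover_mem_smul_sylow {p : ℕ} (P : Sylow p G) (g y : G) :
    y ∈ ((g • P : Sylow p G) : Subgroup G) ↔ g⁻¹ * y * g ∈ (P : Subgroup G) := by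
  rw [Sylow.coe_subgroup_smul, Subgroup.mem_pointwise_smul_iff_inv_smul_mem]
  simp [MulAut.smul_def]

theorem nilCover_special_conj {p : ℕ} (P : Sylow p G) {x : G}
    (h : NilCoverSpecial p (P : Subgroup G) x) (g : G) :
    NilCoverSpecial p ((g • P : Sylow p G) : Subgroup G) (g * x * g⁻¹) := by
  obtain ⟨hx, hx1, hs⟩ := h
  refine ⟨?_, ?_, ?_⟩
  · rw [nilCover_mem_smul_sylow]
    have : g⁻¹ * (g * x * g⁻¹) * g = x := by group
    rw [this]; exact hx
  · rw [Ne, conj_eq_one_iff]; exact hx1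
  · rcases hs with hs | hs
    · left
      intro y hy
      rw [nilCover_mem_smul_sylow] at hy
      obtain ⟨n, hn⟩ := Subgroup.mem_zpowers_iff.mp (hs hy)
      rw [Subgroup.mem_zpowers_iff]
      refine ⟨n, ?_⟩
      rw [conj_zpow, hn]; group
    · right
      rw [conj_pow, Ne, conj_eq_one_iff]; exact hs

/-- All `p`-subgroups are abelian when one Sylow `p`-subgroup is. -/
theorem nilCover_pAb_of_sylow [Finite G] {p : ℕ} [Fact p.Prime] (P : Sylow p G)
    (hab : ∀ a ∈ (P : Subgroup G), ∀ b ∈ (P : Subgroup G), a * b = b * a) :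
    ∀ Q : Subgroup G, IsPGroup p Q → ∀ a ∈ Q, ∀ b ∈ Q, a * b = b * a := by
  intro Q hQ a ha b hb
  obtain ⟨P', hP'⟩ := hQ.exists_le_sylow
  obtain ⟨g, rfl⟩ := MulAction.exists_smul_eq G P P'
  have ha' := (nilCover_mem_smul_sylow P g a).mp (hP' ha)
  have hb' := (nilCover_mem_smul_sylow P g b).mp (hP' hb)
  have h := hab _ ha' _ hb'
  calc a * b = g * (g⁻¹ * a * g * (g⁻¹ * b * g)) * g⁻¹ := by group
    _ = g * (g⁻¹ * b * g * (g⁻¹ * a * g)) * g⁻¹ := by rw [h]
    _ = b * a := by group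

/-- Two members of a minimal cover inside a common proper subgroup coincide. -/
theorem nilCover_eq_of_le {𝓐 : Finset (Subgroup G)} (h𝓐 : NilCoverHyp 𝓐) {H : Subgroup G}
    (hH : H ≠ ⊤) {A B : Subgroup G} (hA : A ∈ 𝓐) (hB : B ∈ 𝓐) (hAH : A ≤ H) (hBH : B ≤ H) :
    A = B := by
  classical
  by_contra hne
  have hcov := h𝓐.2.1 (insert H ((𝓐.erase A).erase B)) ⟨?_, ?_⟩
  · have hB' : B ∈ 𝓐.erase A := Finset.mem_erase.mpr ⟨fun h => hne h.symm, hB⟩
    have h1 := Finset.card_insert_le H ((𝓐.erase A).erase B)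
    have h2 := Finset.card_erase_of_mem hB'
    have h3 := Finset.card_erase_of_mem hA
    have h4 : 0 < (𝓐.erase A).card := Finset.card_pos.mpr ⟨B, hB'⟩
    omega
  · intro C hC
    rcases Finset.mem_insert.mp hC with hCH | hC
    · rw [hCH]; exact hH
    · exact h𝓐.1.1 C (Finset.mem_of_mem_erase (Finset.mem_of_mem_erase hC))
  · intro g
    obtain ⟨C, hC, hgC⟩ := h𝓐.1.2 g
    by_cases hCA : C = A
    · exact ⟨H, Finset.mem_insert_self _ _, hAH (hCA ▸ hgC)⟩
    by_cases hCB : C = B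
    · exact ⟨H, Finset.mem_insert_self _ _, hBH (hCB ▸ hgC)⟩
    exact ⟨C, Finset.mem_insert_of_mem
      (Finset.mem_erase.mpr ⟨hCB, Finset.mem_erase.mpr ⟨hCA, hC⟩⟩), hgC⟩

/-- In a nilpotent subgroup, a `p`-element commutes with everything, when the `p`-subgroups of
the ambient group are abelian. -/
theorem nilCover_commute_of_pElement [Finite G] {A : Subgroup G} (hA : Group.IsNilpotent A)
    {p : ℕ} [hp : Fact p.Prime]
    (hpab : ∀ Q : Subgroup G, IsPGroup p Q → ∀ a ∈ Q, ∀ b ∈ Q, a * b = b * a)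
    {w : G} (hw : w ∈ A) (hwp : ∃ k : ℕ, w ^ p ^ k = 1) : ∀ a ∈ A, a * w = w * a := by
  classical
  have hnorm : ∀ (q : ℕ) (_ : Fact q.Prime) (Q : Sylow q A), (Q : Subgroup A).Normal :=
    ((Group.isNilpotent_of_finite_tfae (G := A)).out 0 3).mp hA
  obtain ⟨w', hw'⟩ : ∃ w' : A, w' = ⟨w, hw⟩ := ⟨_, rfl⟩
  have hw'p : ∃ k : ℕ, w' ^ p ^ k = 1 := by
    obtain ⟨k, hk⟩ := hwp
    exact ⟨k, Subtype.ext (by rw [hw']; simpa using hk)⟩
  obtain ⟨Qp⟩ : Nonempty (Sylow p A) := inferInstance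
  have hQpn : (Qp : Subgroup A).Normal := hnorm p hp Qp
  have hQpN : Subgroup.normalizer ((Qp : Subgroup A) : Set A) = ⊤ :=
    Subgroup.normalizer_eq_top_iff.mpr hQpn
  have hw'Q : w' ∈ (Qp : Subgroup A) :=
    nilCover_mem_sylow_of_mem_normalizer Qp (by rw [hQpN]; exact Subgroup.mem_top _) hw'p
  have key : ∀ (q : ℕ) (hq : Fact q.Prime) (Q : Sylow q A),
      (Q : Subgroup A) ≤ Subgroup.centralizer {w'} := by
    intro q hq Q y hy
    rw [Subgroup.mem_centralizer_iff]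
    intro z hz
    rw [Set.mem_singleton_iff] at hz
    rw [hz]
    by_cases hqp : q = p
    · subst hqp
      have hyQ : y ∈ (Qp : Subgroup A) :=
        nilCover_le_sylow_of_le_normalizer Qp Q.isPGroup' (by rw [hQpN]; exact le_top) hy
      have hmap : IsPGroup q ((Qp : Subgroup A).map A.subtype) := Qp.isPGroup'.map _
      have := hpab _ hmap w' ⟨w', hw'Q, rfl⟩ y ⟨y, hyQ, rfl⟩
      exact Subtype.ext this
    · have hd : Disjoint (Qp : Subgroup A) (Q : Subgroup A) :=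
        IsPGroup.disjoint_of_ne p q (Ne.symm hqp) _ _ Qp.isPGroup' Q.isPGroup'
      exact (Subgroup.commute_of_normal_of_disjoint _ _ hQpn (hnorm q hq Q) hd w' y hw'Q hy).eq
  have htop : Subgroup.centralizer ({w'} : Set A) = ⊤ := by
    rw [← Subgroup.index_eq_one, Nat.eq_one_iff_not_exists_prime_dvd]
    intro q hq hdvd
    have : Fact q.Prime := ⟨hq⟩
    obtain ⟨Q⟩ : Nonempty (Sylow q A) := inferInstance
    exact Q.not_dvd_index (dvd_trans hdvd (Subgroup.index_dvd_of_le (key q ⟨hq⟩ Q)))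
  intro a ha
  have hmem : (⟨a, ha⟩ : A) ∈ Subgroup.centralizer ({w'} : Set A) := htop ▸ Subgroup.mem_top _
  rw [Subgroup.mem_centralizer_iff] at hmem
  have h2 := hmem w' rfl
  rw [hw'] at h2
  exact (congrArg Subtype.val h2).symm

end

section

variable {G : Type*} [Group G] [Finite G] (hZ : Subgroup.center G = ⊥)
  {𝓐 : Finset (Subgroup G)} (h𝓐 : NilCoverHyp 𝓐) {p : ℕ} [hp : Fact p.Prime]
  (hpab : ∀ Q : Subgroup G, IsPGroup p Q → ∀ a ∈ Q, ∀ b ∈ Q, a * b = b * a)

include hZ h𝓐 hpab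

/-- A nontrivial `p`-element lies in exactly one member of the cover. -/
theorem nilCover_eq_of_mem_of_mem {w : G} (hw1 : w ≠ 1) (hwp : ∃ k : ℕ, w ^ p ^ k = 1)
    {A B : Subgroup G} (hA : A ∈ 𝓐) (hB : B ∈ 𝓐) (hwA : w ∈ A) (hwB : w ∈ B) : A = B := by
  have hH : Subgroup.centralizer ({w} : Set G) ≠ ⊤ := by
    intro h
    apply hw1
    have : w ∈ Subgroup.center G := by
      rw [Subgroup.mem_center_iff]
      intro g
      have hg : g ∈ Subgroup.centralizer ({w} : Set G) := h ▸ Subgroup.mem_top g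
      exact (Subgroup.mem_centralizer_iff.mp hg w rfl).symm
    rw [hZ] at this
    exact Subgroup.mem_bot.mp this
  have hle : ∀ C ∈ 𝓐, w ∈ C → C ≤ Subgroup.centralizer ({w} : Set G) := by
    intro C hC hwC c hc
    rw [Subgroup.mem_centralizer_iff]
    intro z hz
    rw [Set.mem_singleton_iff] at hz
    rw [hz]
    exact (nilCover_commute_of_pElement (h𝓐.2.2 C hC) hpab hwC hwp c hc).symm
  exact nilCover_eq_of_le h𝓐 hH hA hB (hle A hA hwA) (hle B hB hwB)

/-- A `p`-subgroup with a special element in a member of the cover lies in that member. -/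
theorem nilCover_le_of_special {Q : Subgroup G} (hQ : IsPGroup p Q) {w : G} (hwQ : w ∈ Q)
    (hspec : Q ≤ Subgroup.zpowers w ∨ w ^ p ≠ 1) {B : Subgroup G} (hB : B ∈ 𝓐)
    (hwB : w ∈ B) : Q ≤ B := by
  classical
  rcases hspec with h | h
  · exact h.trans (by rw [Subgroup.zpowers_le]; exact hwB)
  · have hwp : ∃ k : ℕ, (w ^ p) ^ p ^ k = 1 := nilCover_pElement_of_mem hQ (pow_mem hwQ p)
    have step1 : ∀ t ∈ Q, t ^ p = 1 → t ∈ B := by
      intro t ht htp
      obtain ⟨C, hC, hwtC⟩ := h𝓐.1.2 (w * t)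
      have hpow : (w * t) ^ p = w ^ p := by
        have hc : Commute w t := hpab Q hQ w hwQ t ht
        rw [hc.mul_pow, htp, mul_one]
      have hCB : C = B := nilCover_eq_of_mem_of_mem hZ h𝓐 hpab h hwp hC hB
        (hpow ▸ pow_mem hwtC p) (pow_mem hwB p)
      rw [hCB] at hwtC
      have := B.mul_mem (B.inv_mem hwB) hwtC
      simpa using this
    intro u hu
    by_cases hu1 : u = 1
    · rw [hu1]; exact B.one_mem
    · have hex : ∃ k : ℕ, u ^ p ^ k = 1 := nilCover_pElement_of_mem hQ hu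
      have hk0 : u ^ p ^ (Nat.find hex) = 1 := Nat.find_spec hex
      have hk0pos : Nat.find hex ≠ 0 := by
        intro h0
        rw [h0, pow_zero, pow_one] at hk0
        exact hu1 hk0
      obtain ⟨j, hj⟩ := Nat.exists_eq_succ_of_ne_zero hk0pos
      have htne : u ^ p ^ j ≠ 1 := Nat.find_min hex (by omega : j < Nat.find hex)
      have htp : (u ^ p ^ j) ^ p = 1 := by
        rw [← pow_mul, ← pow_succ, ← Nat.succ_eq_add_one, ← hj]; exact hk0
      have htB := step1 _ (pow_mem hu _) htp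
      obtain ⟨C, hC, huC⟩ := h𝓐.1.2 u
      have hCB : C = B := nilCover_eq_of_mem_of_mem hZ h𝓐 hpab htne
        (nilCover_pElement_of_mem hQ (pow_mem hu _)) hC hB (pow_mem huC _) htB
      exact hCB ▸ huC

/-- The centralizer of a nontrivial Sylow `p`-subgroup inside a member is that member. -/
theorem nilCover_centralizer_eq (Q : Sylow p G) (hQ : (Q : Subgroup G) ≠ ⊥) {B : Subgroup G}
    (hB : B ∈ 𝓐) (hQB : (Q : Subgroup G) ≤ B) :
    Subgroup.centralizer ((Q : Subgroup G) : Set G) = B := by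
  apply le_antisymm
  · intro g hg
    have hcomm : ∀ y ∈ (Q : Subgroup G), y * g = g * y :=
      fun y hy => Subgroup.mem_centralizer_iff.mp hg y hy
    obtain ⟨k, m, hm, hkm⟩ :=
      Nat.exists_eq_pow_mul_and_not_dvd (orderOf_pos g).ne' p hp.out.ne_one
    have hgm : (g ^ m) ^ p ^ k = 1 := by
      rw [← pow_mul, mul_comm, ← hkm, pow_orderOf_eq_one]
    have hgmQ : g ^ m ∈ (Q : Subgroup G) :=
      nilCover_mem_sylow_of_mem_normalizer Q
        (Subgroup.centralizer_le_normalizer _ (pow_mem hg m)) ⟨k, hgm⟩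
    by_cases h1 : g ^ m = 1
    · obtain ⟨x, hxQ, hx1⟩ : ∃ x ∈ (Q : Subgroup G), x ≠ 1 := by
        by_contra hcon
        push Not at hcon
        exact hQ ((Subgroup.eq_bot_iff_forall _).mpr hcon)
      obtain ⟨B', hB', hgB'⟩ := h𝓐.1.2 (g * x)
      have hxp : ∃ k : ℕ, x ^ p ^ k = 1 := nilCover_pElement_of_mem Q.isPGroup' hxQ
      have hpow : (g * x) ^ m = x ^ m := by
        have hc : Commute g x := (hcomm x hxQ).symm
        rw [hc.mul_pow, h1, one_mul]
      have hxm1 : x ^ m ≠ 1 := nilCover_pow_ne_one hxp hx1 hm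
      have hxmp : ∃ k : ℕ, (x ^ m) ^ p ^ k = 1 :=
        nilCover_pElement_of_mem Q.isPGroup' (pow_mem hxQ m)
      have hBB : B' = B := nilCover_eq_of_mem_of_mem hZ h𝓐 hpab hxm1 hxmp hB' hB
        (hpow ▸ pow_mem hgB' m) (hQB (pow_mem hxQ m))
      rw [hBB] at hgB'
      have := B.mul_mem hgB' (B.inv_mem (hQB hxQ))
      simpa using this
    · obtain ⟨B', hB', hgB'⟩ := h𝓐.1.2 g
      have hBB : B' = B := nilCover_eq_of_mem_of_mem hZ h𝓐 hpab h1 ⟨k, hgm⟩ hB' hB
        (pow_mem hgB' m) (hQB hgmQ)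
      exact hBB ▸ hgB'
  · intro b hb
    rw [Subgroup.mem_centralizer_iff]
    intro y hy
    exact (nilCover_commute_of_pElement (h𝓐.2.2 B hB) hpab (hQB hy)
      (nilCover_pElement_of_mem Q.isPGroup' hy) b hb).symm

theorem nilCover_sylow_le_and_centralizer (Q : Sylow p G) {w : G}
    (hw : NilCoverSpecial p (Q : Subgroup G) w) {B : Subgroup G} (hB : B ∈ 𝓐) (hwB : w ∈ B) :
    (Q : Subgroup G) ≤ B ∧ Subgroup.centralizer ((Q : Subgroup G) : Set G) = B := by
  have h1 := nilCover_le_of_special hZ h𝓐 hpab Q.isPGroup' hw.1 hw.2.2 hB hwB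
  have hne : (Q : Subgroup G) ≠ ⊥ := by
    intro h
    have h2 := hw.1
    rw [h] at h2
    exact hw.2.1 (Subgroup.mem_bot.mp h2)
  exact ⟨h1, nilCover_centralizer_eq hZ h𝓐 hpab Q hne hB h1⟩

theorem nilCover_mem_normalizer (P : Sylow p G) {x : G}
    (hx : NilCoverSpecial p (P : Subgroup G) x) {A : Subgroup G} (hA : A ∈ 𝓐) (hxA : x ∈ A)
    (g : G) (hgA : g * x * g⁻¹ ∈ A) :
    g ∈ Subgroup.normalizer ((P : Subgroup G) : Set G) := by
  obtain ⟨hPA, hCA⟩ := nilCover_sylow_le_and_centralizer hZ h𝓐 hpab P hx hA hxA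
  obtain ⟨hQA, -⟩ := nilCover_sylow_le_and_centralizer hZ h𝓐 hpab (g • P)
    (nilCover_special_conj P hx g) hA hgA
  have h1 : ((g • P : Sylow p G) : Subgroup G) ≤
      Subgroup.normalizer ((P : Subgroup G) : Set G) := by
    refine hQA.trans ?_
    rw [← hCA]
    exact Subgroup.centralizer_le_normalizer _
  have h2 : ((g • P : Sylow p G) : Subgroup G) ≤ P :=
    nilCover_le_sylow_of_le_normalizer P (g • P).isPGroup' h1
  have h3 : g • P = P := Sylow.ext ((g • P).is_maximal' P.isPGroup' h2).symm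
  exact Sylow.smul_eq_iff_mem_normalizer.mp h3

/-- The main structure theorem around a non-normal abelian Sylow subgroup with a special
element. -/
theorem nilCover_main (P : Sylow p G) (hnn : ¬ (P : Subgroup G).Normal) {x : G}
    (hxP : x ∈ (P : Subgroup G))
    (hspec : (P : Subgroup G) ≤ Subgroup.zpowers x ∨ x ^ p ≠ 1) :
    ∃ A ∈ 𝓐, (P : Subgroup G) ≤ A ∧ Subgroup.centralizer ((P : Subgroup G) : Set G) = A ∧
      IsCoatom (Subgroup.normalizer ((P : Subgroup G) : Set G)) ∧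
      (∀ M : Subgroup G, M ≠ ⊤ → Subgroup.centralizer ((P : Subgroup G) : Set G) ≤ M →
        M ≤ Subgroup.normalizer ((P : Subgroup G) : Set G)) ∧
      (∀ g : G, g ∉ Subgroup.normalizer ((P : Subgroup G) : Set G) →
        ¬ p ∣ Nat.card ↥(Subgroup.normalizer ((P : Subgroup G) : Set G) ⊓
          (Subgroup.normalizer ((P : Subgroup G) : Set G)).map (MulAut.conj g).toMonoidHom)) := by
  have hx1 : x ≠ 1 := by
    intro h
    rcases hspec with hs | hs
    · rw [h, Subgroup.zpowers_one_eq_bot, le_bot_iff] at hs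
      apply hnn
      rw [hs]
      infer_instance
    · rw [h, one_pow] at hs
      exact hs rfl
  have hx : NilCoverSpecial p (P : Subgroup G) x := ⟨hxP, hx1, hspec⟩
  obtain ⟨A, hA, hxA⟩ := h𝓐.1.2 x
  obtain ⟨hPA, hCA⟩ := nilCover_sylow_le_and_centralizer hZ h𝓐 hpab P hx hA hxA
  have hNtop : Subgroup.normalizer ((P : Subgroup G) : Set G) ≠ ⊤ := by
    intro h
    exact hnn (Subgroup.normalizer_eq_top_iff.mp h)
  have hM : ∀ M : Subgroup G, M ≠ ⊤ → Subgroup.centralizer ((P : Subgroup G) : Set G) ≤ M →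
      M ≤ Subgroup.normalizer ((P : Subgroup G) : Set G) := by
    intro M hMtop hCM m hm
    obtain ⟨B, hB, hmB⟩ := h𝓐.1.2 (m * x * m⁻¹)
    obtain ⟨hQB, hCB⟩ := nilCover_sylow_le_and_centralizer hZ h𝓐 hpab (m • P)
      (nilCover_special_conj P hx m) hB hmB
    have hBM : B ≤ M := by
      intro c hc
      rw [← hCB] at hc
      have hc' : m⁻¹ * c * m ∈ Subgroup.centralizer ((P : Subgroup G) : Set G) := by
        rw [Subgroup.mem_centralizer_iff]
        intro y hy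
        have hy' : m * y * m⁻¹ ∈ ((m • P : Sylow p G) : Subgroup G) := by
          rw [nilCover_mem_smul_sylow]
          have : m⁻¹ * (m * y * m⁻¹) * m = y := by group
          rw [this]; exact hy
        have e : m * y * m⁻¹ * c = c * (m * y * m⁻¹) :=
          Subgroup.mem_centralizer_iff.mp hc _ hy'
        calc y * (m⁻¹ * c * m) = m⁻¹ * (m * y * m⁻¹ * c) * m := by group
          _ = m⁻¹ * (c * (m * y * m⁻¹)) * m := by rw [e]
          _ = m⁻¹ * c * m * y := by group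
      have h2 := M.mul_mem (M.mul_mem hm (hCM hc')) (M.inv_mem hm)
      have e2 : m * (m⁻¹ * c * m) * m⁻¹ = c := by group
      rw [e2] at h2
      exact h2
    have hAM : A ≤ M := hCA ▸ hCM
    have hBA : B = A := nilCover_eq_of_le h𝓐 hMtop hB hA hBM hAM
    exact nilCover_mem_normalizer hZ h𝓐 hpab P hx hA hxA m (hBA ▸ hmB)
  refine ⟨A, hA, hPA, hCA, ⟨hNtop, ?_⟩, hM, ?_⟩
  · intro M hNM
    by_contra hMtop
    exact (not_le_of_gt hNM) (hM M hMtop ((Subgroup.centralizer_le_normalizer _).trans hNM.le))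
  · intro g hg hdvd
    obtain ⟨⟨w, hw⟩, hord⟩ := exists_prime_orderOf_dvd_card' p hdvd
    have hordw : orderOf w = p := by
      rw [← hord]; exact (Subgroup.orderOf_mk w hw).symm
    have hwp1 : w ^ p = 1 := by rw [← hordw]; exact pow_orderOf_eq_one w
    have hw1 : w ≠ 1 := by
      intro h
      rw [h, orderOf_one] at hordw
      exact hp.out.ne_one hordw.symm
    have hwp : ∃ k : ℕ, w ^ p ^ k = 1 := ⟨1, by rw [pow_one]; exact hwp1⟩
    have hwP : w ∈ (P : Subgroup G) :=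
      nilCover_mem_sylow_of_mem_normalizer P (Subgroup.mem_inf.mp hw).1 hwp
    obtain ⟨n, hn, hnw⟩ := Subgroup.mem_map.mp (Subgroup.mem_inf.mp hw).2
    have hnw' : g * n * g⁻¹ = w := hnw
    have hnp : ∃ k : ℕ, n ^ p ^ k = 1 := by
      refine ⟨1, ?_⟩
      rw [pow_one]
      rw [← hnw', conj_pow, conj_eq_one_iff] at hwp1
      exact hwp1
    have hnP : n ∈ (P : Subgroup G) := nilCover_mem_sylow_of_mem_normalizer P hn hnp
    have hwQ : w ∈ ((g • P : Sylow p G) : Subgroup G) := by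
      rw [nilCover_mem_smul_sylow, ← hnw']
      have : g⁻¹ * (g * n * g⁻¹) * g = n := by group
      rw [this]; exact hnP
    obtain ⟨B, hB, hgB⟩ := h𝓐.1.2 (g * x * g⁻¹)
    obtain ⟨hQB, -⟩ := nilCover_sylow_le_and_centralizer hZ h𝓐 hpab (g • P)
      (nilCover_special_conj P hx g) hB hgB
    have hBA : B = A := nilCover_eq_of_mem_of_mem hZ h𝓐 hpab hw1 hwp hB hA (hQB hwQ) (hPA hwP)
    exact hg (nilCover_mem_normalizer hZ h𝓐 hpab P hx hA hxA g (hBA ▸ hgB))

end

end Cfsg.Agent.Helper20
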