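import Mathlib
import Cfsg.Agent.Helper20.NilCover

set_option autoImplicit false

/-!
# Minimal nilpotent covers: abstract non-existence criteria (helper20)

* `nilCover2_le_of_unique_fixed`: a nilpotent subgroup containing an element `w` with a unique
  fixed point on the cosets of `P` lies in `P`.
* `nilCover2_false_of_two_stabilizers`, `nilCover2_counting`, `nilCover2_false_of_normal`:
  three configurations that exclude a minimal cover by nilpotent subgroups.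
-/

namespace Cfsg.Agent.Helper20

section

variable {Γ : Type*} [Group Γ]

theorem nilCover2_mem_map_conj (P : Subgroup Γ) (γ x : Γ) :
    x ∈ P.map (MulAut.conj γ).toMonoidHom ↔ γ⁻¹ * x * γ ∈ P := by
  constructor
  · rintro ⟨y, hy, rfl⟩
    have e : γ⁻¹ * ((MulAut.conj γ).toMonoidHom y) * γ = y := by
      show γ⁻¹ * (γ * y * γ⁻¹) * γ = y
      group
    rw [e]; exact hy
  · intro h
    refine ⟨γ⁻¹ * x * γ, h, ?_⟩
    show γ * (γ⁻¹ * x * γ) * γ⁻¹ = x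
    group

/-- A nilpotent subgroup containing an element with a unique fixed point on the cosets of `P`
is contained in `P`. -/
theorem nilCover2_le_of_unique_fixed {A P : Subgroup Γ} (hA : Group.IsNilpotent A) {w : Γ}
    (hwA : w ∈ A) (hwP : w ∈ P) (hP : ∀ g : Γ, g⁻¹ * w * g ∈ P → g ∈ P) : A ≤ P := by
  have hnc : NormalizerCondition A := Group.normalizerCondition_of_isNilpotent
  rw [normalizerCondition_iff_only_full_group_self_normalizing] at hnc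
  have h1 : Subgroup.normalizer ((P.subgroupOf A : Subgroup A) : Set A) = P.subgroupOf A := by
    apply le_antisymm
    · intro a ha
      have h2 : (⟨w, hwA⟩ : A) ∈ P.subgroupOf A := Subgroup.mem_subgroupOf.mpr hwP
      have h3 := (Subgroup.mem_normalizer_iff.mp ha ⟨w, hwA⟩).mp h2
      rw [Subgroup.mem_subgroupOf] at h3 ⊢
      have h4 : ((a : Γ)⁻¹)⁻¹ * w * (a : Γ)⁻¹ ∈ P := by simpa using h3
      have h5 := P.inv_mem (hP _ h4)
      simpa using h5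
    · exact Subgroup.le_normalizer
  exact Subgroup.subgroupOf_eq_top.mp (hnc _ h1)

/-- Conjugated form of `nilCover2_le_of_unique_fixed`. -/
theorem nilCover2_unique_fixed_conj {P : Subgroup Γ} {w : Γ} (hwP : w ∈ P)
    (hP : ∀ g : Γ, g⁻¹ * w * g ∈ P → g ∈ P) {A : Subgroup Γ} (hA : Group.IsNilpotent A) (γ : Γ)
    (hγ : γ * w * γ⁻¹ ∈ A) : ∀ a ∈ A, γ⁻¹ * a * γ ∈ P := by
  have hle : A ≤ P.map (MulAut.conj γ).toMonoidHom := by
    apply nilCover2_le_of_unique_fixed hA hγ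
    · rw [nilCover2_mem_map_conj]
      have e : γ⁻¹ * (γ * w * γ⁻¹) * γ = w := by group
      rw [e]; exact hwP
    · intro g hg
      rw [nilCover2_mem_map_conj] at hg ⊢
      have e : γ⁻¹ * (g⁻¹ * (γ * w * γ⁻¹) * g) * γ = (γ⁻¹ * g * γ)⁻¹ * w * (γ⁻¹ * g * γ) := by
        group
      rw [e] at hg
      exact hP _ hg
  intro a ha
  exact (nilCover2_mem_map_conj P γ a).mp (hle ha)

/-- In a nilpotent subgroup, a nonempty set closed under commutation with a fixed element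
contains the identity. -/
theorem nilCover2_one_mem_of_commutator_closed {A : Subgroup Γ} (hA : Group.IsNilpotent A)
    {a : Γ} (ha : a ∈ A) {S : Set Γ} (hne : S.Nonempty) (hSA : ∀ s ∈ S, s ∈ A)
    (hS : ∀ s ∈ S, s * a * s⁻¹ * a⁻¹ ∈ S) : (1 : Γ) ∈ S := by
  obtain ⟨n, hn⟩ := (Subgroup.isNilpotent_iff_lowerCentralSeries A).mp hA
  have key : ∀ k : ℕ, ∃ s ∈ S, s ∈ A.lowerCentralSeries k := by
    intro k
    induction k with
    | zero =>
      obtain ⟨s, hs⟩ := hne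
      exact ⟨s, hs, hSA s hs⟩
    | succ k ih =>
      obtain ⟨s, hs, hsk⟩ := ih
      exact ⟨s * a * s⁻¹ * a⁻¹, hS s hs, Subgroup.commutator_mem_commutator hsk ha⟩
  obtain ⟨s, hs, hsn⟩ := key n
  rw [hn, Subgroup.mem_bot] at hsn
  rwa [hsn] at hs

/-- No minimal nilpotent cover: an element with unique fixed points on the cosets of two
subgroups `P₁ ≠ ⊤` and `P₂` with `P₁ ≰ P₂`. -/
theorem nilCover2_false_of_two_stabilizers {𝓐 : Finset (Subgroup Γ)} (h𝓐 : NilCoverHyp 𝓐)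
    {P₁ P₂ : Subgroup Γ} {w t s : Γ} (hs : s ∉ P₁) (hw1 : w ∈ P₁)
    (h1 : ∀ g : Γ, g⁻¹ * w * g ∈ P₁ → g ∈ P₁) (hw2 : w ∈ P₂)
    (h2 : ∀ g : Γ, g⁻¹ * w * g ∈ P₂ → g ∈ P₂) (ht1 : t ∈ P₁) (ht2 : t ∉ P₂) : False := by
  obtain ⟨A, hA, hwA⟩ := h𝓐.1.2 w
  obtain ⟨B, hB, hwB⟩ := h𝓐.1.2 (t * w * t⁻¹)
  have hAP : A ≤ P₁ := nilCover2_le_of_unique_fixed (h𝓐.2.2 A hA) hwA hw1 h1
  have hBP : B ≤ P₁ := by
    intro b hb
    have h3 := nilCover2_unique_fixed_conj hw1 h1 (h𝓐.2.2 B hB) t hwB b hb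
    have h4 := P₁.mul_mem (P₁.mul_mem ht1 h3) (P₁.inv_mem ht1)
    have e : t * (t⁻¹ * b * t) * t⁻¹ = b := by group
    rwa [e] at h4
  have htop : P₁ ≠ ⊤ := fun h => hs (h ▸ Subgroup.mem_top s)
  have hAB : A = B := nilCover_eq_of_le h𝓐 htop hA hB hAP hBP
  have hAP2 : A ≤ P₂ := nilCover2_le_of_unique_fixed (h𝓐.2.2 A hA) hwA hw2 h2
  have h4 : t * w * t⁻¹ ∈ P₂ := hAP2 (hAB ▸ hwB)
  have h5 : (t⁻¹)⁻¹ * w * t⁻¹ ∈ P₂ := by simpa using h4
  exact ht2 (by simpa using P₂.inv_mem (h2 _ h5))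

/-- No minimal nilpotent cover: a proper subgroup `K` containing every nilpotent subgroup that
contains a conjugate of `u`, where `u` has a unique fixed point on the cosets of `P ≠ ⊤`. -/
theorem nilCover2_false_of_normal {𝓐 : Finset (Subgroup Γ)} (h𝓐 : NilCoverHyp 𝓐)
    {K P : Subgroup Γ} (hK : K ≠ ⊤) {u γ : Γ} (huP : u ∈ P)
    (hP : ∀ g : Γ, g⁻¹ * u * g ∈ P → g ∈ P) (hγ : γ ∉ P)
    (hBK : ∀ B : Subgroup Γ, Group.IsNilpotent B → ∀ g : Γ, g * u * g⁻¹ ∈ B → B ≤ K) :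
    False := by
  obtain ⟨A₁, hA₁, h1⟩ := h𝓐.1.2 (1 * u * 1⁻¹)
  obtain ⟨A₂, hA₂, h2⟩ := h𝓐.1.2 (γ * u * γ⁻¹)
  have e := nilCover_eq_of_le h𝓐 hK hA₁ hA₂ (hBK A₁ (h𝓐.2.2 A₁ hA₁) 1 h1)
    (hBK A₂ (h𝓐.2.2 A₂ hA₂) γ h2)
  have h3 : A₁ ≤ P :=
    nilCover2_le_of_unique_fixed (h𝓐.2.2 A₁ hA₁) (by simpa using h1) huP hP
  have h4 : γ * u * γ⁻¹ ∈ P := h3 (e ▸ h2)
  have h5 : (γ⁻¹)⁻¹ * u * γ⁻¹ ∈ P := by simpa using h4
  exact hγ (by simpa using P.inv_mem (hP _ h5))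

/-- No minimal nilpotent cover: a member all of whose elements lie in conjugates of `P`,
containing no conjugate of `u`, where `u` has a unique fixed point on the cosets of `P ≠ ⊤`. -/
theorem nilCover2_counting [Finite Γ] {𝓐 : Finset (Subgroup Γ)} (h𝓐 : NilCoverHyp 𝓐)
    {P : Subgroup Γ} (hPtop : P ≠ ⊤) {u : Γ} (huP : u ∈ P)
    (hP : ∀ g : Γ, g⁻¹ * u * g ∈ P → g ∈ P) {A : Subgroup Γ} (hA : A ∈ 𝓐)
    (h3 : ∀ a ∈ A, ∃ g : Γ, g⁻¹ * a * g ∈ P) (h4 : ∀ g : Γ, g * u * g⁻¹ ∉ A) : False := by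
  classical
  have := Fintype.ofFinite Γ
  obtain ⟨cj, hcjdef⟩ : ∃ cj : Γ → Subgroup Γ, cj = fun g => P.map (MulAut.conj g).toMonoidHom :=
    ⟨_, rfl⟩
  have hcj : ∀ g x, x ∈ cj g ↔ g⁻¹ * x * g ∈ P := by
    intro g x
    rw [hcjdef]
    exact nilCover2_mem_map_conj P g x
  have hle : ∀ B ∈ 𝓐, ∀ g : Γ, g * u * g⁻¹ ∈ B → B ≤ cj g := by
    intro B hB g hg b hb
    rw [hcj]
    exact nilCover2_unique_fixed_conj huP hP (h𝓐.2.2 B hB) g hg b hb
  have hcjeq : ∀ g g' : Γ, g⁻¹ * g' ∈ P → cj g' = cj g := by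
    intro g g' h
    ext x
    rw [hcj, hcj]
    have e : g'⁻¹ * x * g' = (g⁻¹ * g')⁻¹ * (g⁻¹ * x * g) * (g⁻¹ * g') := by group
    rw [e]
    constructor
    · intro hx
      have h5 := P.mul_mem (P.mul_mem h hx) (P.inv_mem h)
      have e2 : g⁻¹ * g' * ((g⁻¹ * g')⁻¹ * (g⁻¹ * x * g) * (g⁻¹ * g')) * (g⁻¹ * g')⁻¹ =
          g⁻¹ * x * g := by group
      rwa [e2] at h5
    · intro hx
      exact P.mul_mem (P.mul_mem (P.inv_mem h) hx) h
  choose m hm𝓐 hmu using fun g : Γ => h𝓐.1.2 (g * u * g⁻¹)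
  have hminj : ∀ g g' : Γ, m g = m g' → cj g = cj g' := by
    intro g g' h
    have h1 : g' * u * g'⁻¹ ∈ cj g := hle (m g) (hm𝓐 g) g (hmu g) (h ▸ hmu g')
    rw [hcj] at h1
    have e : g⁻¹ * (g' * u * g'⁻¹) * g = (g'⁻¹ * g)⁻¹ * u * (g'⁻¹ * g) := by group
    rw [e] at h1
    exact hcjeq g' g (hP _ h1)
  obtain ⟨PP, hPP⟩ : ∃ PP : Finset (Subgroup Γ), PP = Finset.univ.image cj := ⟨_, rfl⟩
  obtain ⟨𝓐U, h𝓐U⟩ : ∃ 𝓐U : Finset (Subgroup Γ),
      𝓐U = 𝓐.filter (fun B => ∃ g : Γ, g * u * g⁻¹ ∈ B) := ⟨_, rfl⟩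
  obtain ⟨𝓐N, h𝓐N⟩ : ∃ 𝓐N : Finset (Subgroup Γ),
      𝓐N = 𝓐.filter (fun B => ∃ b ∈ B, ∀ g : Γ, g⁻¹ * b * g ∉ P) := ⟨_, rfl⟩
  have hcard1 : PP.card ≤ 𝓐U.card := by
    obtain ⟨Fn, hFn⟩ : ∃ Fn : Subgroup Γ → Subgroup Γ,
        Fn = fun B => if h : ∃ g, m g = B then cj (Classical.choose h) else ⊥ := ⟨_, rfl⟩
    have hF : ∀ g, Fn (m g) = cj g := by
      intro g
      have h : ∃ g', m g' = m g := ⟨g, rfl⟩
      rw [hFn]
      simp only [dif_pos h]
      exact hminj _ _ (Classical.choose_spec h)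
    have h1 : PP = (Finset.univ.image m).image Fn := by
      rw [hPP, Finset.image_image]
      apply Finset.image_congr
      intro g _
      exact (hF g).symm
    have h2 : Finset.univ.image m ⊆ 𝓐U := by
      intro B hB
      obtain ⟨g, -, rfl⟩ := Finset.mem_image.mp hB
      rw [h𝓐U]
      exact Finset.mem_filter.mpr ⟨hm𝓐 g, g, hmu g⟩
    calc PP.card = ((Finset.univ.image m).image Fn).card := by rw [h1]
      _ ≤ (Finset.univ.image m).card := Finset.card_image_le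
      _ ≤ 𝓐U.card := Finset.card_le_card h2
  have hcov := h𝓐.2.1 (PP ∪ 𝓐N) ⟨?_, ?_⟩
  · have hdisj : Disjoint 𝓐U 𝓐N := by
      rw [Finset.disjoint_left]
      intro B hBU hBN
      rw [h𝓐U] at hBU
      rw [h𝓐N] at hBN
      obtain ⟨hB, g, hg⟩ := Finset.mem_filter.mp hBU
      obtain ⟨-, b, hb, hbn⟩ := Finset.mem_filter.mp hBN
      have h5 := hle B hB g hg hb
      rw [hcj] at h5
      exact hbn g h5
    have hAU : A ∉ 𝓐U := by
      intro h
      rw [h𝓐U] at h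
      obtain ⟨-, g, hg⟩ := Finset.mem_filter.mp h
      exact h4 g hg
    have hAN : A ∉ 𝓐N := by
      intro h
      rw [h𝓐N] at h
      obtain ⟨-, b, hb, hbn⟩ := Finset.mem_filter.mp h
      obtain ⟨g, hg⟩ := h3 b hb
      exact hbn g hg
    have hsub : insert A (𝓐U ∪ 𝓐N) ⊆ 𝓐 := by
      intro B hB
      rcases Finset.mem_insert.mp hB with hBA | hB
      · rw [hBA]; exact hA
      · rcases Finset.mem_union.mp hB with hB | hB
        · rw [h𝓐U] at hB; exact (Finset.mem_filter.mp hB).1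
        · rw [h𝓐N] at hB; exact (Finset.mem_filter.mp hB).1
    have hc1 := Finset.card_le_card hsub
    have hAnot : A ∉ 𝓐U ∪ 𝓐N := by
      intro h
      rcases Finset.mem_union.mp h with h | h
      · exact hAU h
      · exact hAN h
    rw [Finset.card_insert_of_notMem hAnot, Finset.card_union_of_disjoint hdisj] at hc1
    have hc2 := Finset.card_union_le PP 𝓐N
    omega
  · intro B hB
    rcases Finset.mem_union.mp hB with hB | hB
    · rw [hPP] at hB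
      obtain ⟨g, -, rfl⟩ := Finset.mem_image.mp hB
      intro htop
      apply hPtop
      rw [eq_top_iff]
      intro x _
      have h5 : g * x * g⁻¹ ∈ cj g := htop ▸ Subgroup.mem_top _
      rw [hcj] at h5
      have e : g⁻¹ * (g * x * g⁻¹) * g = x := by group
      rwa [e] at h5
    · rw [h𝓐N] at hB
      exact h𝓐.1.1 B (Finset.mem_filter.mp hB).1
  · intro x
    by_cases hx : ∃ g : Γ, g⁻¹ * x * g ∈ P
    · obtain ⟨g, hg⟩ := hx
      refine ⟨cj g, Finset.mem_union_left _ ?_, (hcj g x).mpr hg⟩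
      rw [hPP]
      exact Finset.mem_image_of_mem _ (Finset.mem_univ g)
    · push Not at hx
      obtain ⟨B, hB, hxB⟩ := h𝓐.1.2 x
      refine ⟨B, Finset.mem_union_right _ ?_, hxB⟩
      rw [h𝓐N]
      exact Finset.mem_filter.mpr ⟨hB, x, hxB, hx⟩

end

end Cfsg.Agent.Helper20
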