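import Mathlib
import Cfsg.Agent.Helper20.NilCover2

set_option autoImplicit false

/-!
# Subgroups of `PGL_n(F)` containing `PSL_n(F)`: set-up (helper20)

Column and row stabilizers in `GL_n(F)`, their images in a subgroup `G` of
`GL_n(F) / center`, and the regular unipotent element.
-/

namespace Cfsg.Agent.Helper20

open Matrix

section

variable {F : Type*} [Field F] {n : ℕ}

/-- Invertible matrices whose column `a` vanishes outside the diagonal entry. -/
def nilPGLColStab (F : Type*) [Field F] {n : ℕ} (a : Fin n) : Subgroup (GL (Fin n) F) where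
  carrier := {g | ∀ i, i ≠ a → (g : Matrix (Fin n) (Fin n) F) i a = 0}
  one_mem' := by
    intro i hi
    rw [Units.val_one, Matrix.one_apply_ne hi]
  mul_mem' := by
    intro g h hg hh i hi
    rw [Units.val_mul, Matrix.mul_apply]
    apply Finset.sum_eq_zero
    intro k _
    by_cases hk : k = a
    · rw [hk, hg i hi, zero_mul]
    · rw [hh k hk, mul_zero]
  inv_mem' := by
    intro g hg i hi
    have h1 : ((g⁻¹ : GL (Fin n) F) : Matrix (Fin n) (Fin n) F) *
        (g : Matrix (Fin n) (Fin n) F) = 1 := Units.inv_mul g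
    have h2 := congrFun (congrFun h1 i) a
    rw [Matrix.mul_apply, Finset.sum_eq_single a, Matrix.one_apply_ne hi] at h2
    · have h3 := congrFun (congrFun h1 a) a
      rw [Matrix.mul_apply, Finset.sum_eq_single a, Matrix.one_apply_eq] at h3
      · have hga : (g : Matrix (Fin n) (Fin n) F) a a ≠ 0 := right_ne_zero_of_mul_eq_one h3
        exact (mul_eq_zero.mp h2).resolve_right hga
      · intro k _ hk; rw [hg k hk, mul_zero]
      · intro h; exact absurd (Finset.mem_univ a) h
    · intro k _ hk; rw [hg k hk, mul_zero]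
    · intro h; exact absurd (Finset.mem_univ a) h

theorem nilPGL_mem_colStab {a : Fin n} {g : GL (Fin n) F} :
    g ∈ nilPGLColStab F a ↔ ∀ i, i ≠ a → (g : Matrix (Fin n) (Fin n) F) i a = 0 := Iff.rfl

/-- Invertible matrices whose row `a` vanishes outside the diagonal entry. -/
def nilPGLRowStab (F : Type*) [Field F] {n : ℕ} (a : Fin n) : Subgroup (GL (Fin n) F) where
  carrier := {g | ∀ j, j ≠ a → (g : Matrix (Fin n) (Fin n) F) a j = 0}
  one_mem' := by
    intro j hj
    rw [Units.val_one, Matrix.one_apply_ne hj.symm]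
  mul_mem' := by
    intro g h hg hh j hj
    rw [Units.val_mul, Matrix.mul_apply]
    apply Finset.sum_eq_zero
    intro k _
    by_cases hk : k = a
    · rw [hk, hh j hj, mul_zero]
    · rw [hg k hk, zero_mul]
  inv_mem' := by
    intro g hg j hj
    have h1 : (g : Matrix (Fin n) (Fin n) F) *
        ((g⁻¹ : GL (Fin n) F) : Matrix (Fin n) (Fin n) F) = 1 := Units.mul_inv g
    have h2 := congrFun (congrFun h1 a) j
    rw [Matrix.mul_apply, Finset.sum_eq_single a, Matrix.one_apply_ne hj.symm] at h2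
    · have h3 := congrFun (congrFun h1 a) a
      rw [Matrix.mul_apply, Finset.sum_eq_single a, Matrix.one_apply_eq] at h3
      · have hga : (g : Matrix (Fin n) (Fin n) F) a a ≠ 0 := left_ne_zero_of_mul_eq_one h3
        exact (mul_eq_zero.mp h2).resolve_left hga
      · intro k _ hk; rw [hg k hk, zero_mul]
      · intro h; exact absurd (Finset.mem_univ a) h
    · intro k _ hk; rw [hg k hk, zero_mul]
    · intro h; exact absurd (Finset.mem_univ a) h

theorem nilPGL_mem_rowStab {a : Fin n} {g : GL (Fin n) F} :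
    g ∈ nilPGLRowStab F a ↔ ∀ j, j ≠ a → (g : Matrix (Fin n) (Fin n) F) a j = 0 := Iff.rfl

theorem nilPGL_center_le_colStab (a : Fin n) :
    Subgroup.center (GL (Fin n) F) ≤ nilPGLColStab F a := by
  intro g hg i hi
  obtain ⟨r, hr⟩ := Matrix.GeneralLinearGroup.mem_center_iff_val_mem_range_scalar.mp hg
  rw [← hr, Matrix.scalar_apply, Matrix.diagonal_apply_ne _ hi]

theorem nilPGL_center_le_rowStab (a : Fin n) :
    Subgroup.center (GL (Fin n) F) ≤ nilPGLRowStab F a := by
  intro g hg j hj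
  obtain ⟨r, hr⟩ := Matrix.GeneralLinearGroup.mem_center_iff_val_mem_range_scalar.mp hg
  rw [← hr, Matrix.scalar_apply, Matrix.diagonal_apply_ne _ hj.symm]

/-- The image in `G` of a subgroup of `GL_n(F)`. -/
def nilPGLPre (G : Subgroup (GL (Fin n) F ⧸ Subgroup.center (GL (Fin n) F)))
    (H : Subgroup (GL (Fin n) F)) : Subgroup ↥G :=
  (H.map (QuotientGroup.mk' (Subgroup.center (GL (Fin n) F)))).subgroupOf G

theorem nilPGL_mem_pre {G : Subgroup (GL (Fin n) F ⧸ Subgroup.center (GL (Fin n) F))}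
    {H : Subgroup (GL (Fin n) F)} (hH : Subgroup.center (GL (Fin n) F) ≤ H) (x : ↥G)
    (g : GL (Fin n) F)
    (hx : (x : GL (Fin n) F ⧸ Subgroup.center (GL (Fin n) F)) = QuotientGroup.mk g) :
    x ∈ nilPGLPre G H ↔ g ∈ H := by
  rw [nilPGLPre, Subgroup.mem_subgroupOf, hx, Subgroup.mem_map]
  constructor
  · rintro ⟨h, hh, he⟩
    have h1 : h⁻¹ * g ∈ Subgroup.center (GL (Fin n) F) := QuotientGroup.eq.mp he
    have h2 := H.mul_mem hh (hH h1)
    simpa using h2
  · intro hg
    exact ⟨g, hg, rfl⟩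

theorem nilPGL_exists_lift {G : Subgroup (GL (Fin n) F ⧸ Subgroup.center (GL (Fin n) F))}
    (x : ↥G) : ∃ g : GL (Fin n) F,
      (x : GL (Fin n) F ⧸ Subgroup.center (GL (Fin n) F)) = QuotientGroup.mk g := by
  obtain ⟨g, hg⟩ := QuotientGroup.mk_surjective
    (x : GL (Fin n) F ⧸ Subgroup.center (GL (Fin n) F))
  exact ⟨g, hg.symm⟩

/-- Transfer of the unique-fixed-point property from `GL_n(F)` to `G`. -/
theorem nilPGL_fixed_transfer {G : Subgroup (GL (Fin n) F ⧸ Subgroup.center (GL (Fin n) F))}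
    {H : Subgroup (GL (Fin n) F)} (hH : Subgroup.center (GL (Fin n) F) ≤ H)
    (W : GL (Fin n) F) (w : ↥G)
    (hw : (w : GL (Fin n) F ⧸ Subgroup.center (GL (Fin n) F)) = QuotientGroup.mk W)
    (hWH : ∀ g : GL (Fin n) F, g⁻¹ * W * g ∈ H → g ∈ H) :
    ∀ γ : ↥G, γ⁻¹ * w * γ ∈ nilPGLPre G H → γ ∈ nilPGLPre G H := by
  intro γ hγ
  obtain ⟨g, hg⟩ := nilPGL_exists_lift γ
  have h1 : ((γ⁻¹ * w * γ : ↥G) : GL (Fin n) F ⧸ Subgroup.center (GL (Fin n) F)) =
      QuotientGroup.mk (g⁻¹ * W * g) := by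
    rw [Subgroup.coe_mul, Subgroup.coe_mul, Subgroup.coe_inv, hw, hg]
    rfl
  rw [nilPGL_mem_pre hH _ _ h1] at hγ
  exact (nilPGL_mem_pre hH γ g hg).mpr (hWH g hγ)

/-- The image in `G` of an element of `SL_n(F)`. -/
def nilPGLElt {G : Subgroup (GL (Fin n) F ⧸ Subgroup.center (GL (Fin n) F))}
    (hG : ((Matrix.SpecialLinearGroup.toGL :
      Matrix.SpecialLinearGroup (Fin n) F →* GL (Fin n) F).range).map
      (QuotientGroup.mk' (Subgroup.center (GL (Fin n) F))) ≤ G)
    (M : Matrix.SpecialLinearGroup (Fin n) F) : ↥G :=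
  ⟨QuotientGroup.mk (Matrix.SpecialLinearGroup.toGL M),
    hG (Subgroup.mem_map_of_mem _ ⟨M, rfl⟩)⟩

theorem nilPGL_coe_elt {G : Subgroup (GL (Fin n) F ⧸ Subgroup.center (GL (Fin n) F))}
    (hG : ((Matrix.SpecialLinearGroup.toGL :
      Matrix.SpecialLinearGroup (Fin n) F →* GL (Fin n) F).range).map
      (QuotientGroup.mk' (Subgroup.center (GL (Fin n) F))) ≤ G)
    (M : Matrix.SpecialLinearGroup (Fin n) F) :
    ((nilPGLElt hG M : ↥G) : GL (Fin n) F ⧸ Subgroup.center (GL (Fin n) F)) =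
      QuotientGroup.mk (Matrix.SpecialLinearGroup.toGL M) := rfl

end

end Cfsg.Agent.Helper20
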