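import Mathlib
import Cfsg.Agent.Helper20.NilCoverPGL

set_option autoImplicit false

/-!
# The regular unipotent element of `SL_n(F)` and the case `n ≥ 3` (helper20)
-/

namespace Cfsg.Agent.Helper20

open Matrix

section

variable {F : Type*} [Field F] {n : ℕ}

/-- The shift matrix with ones just above the diagonal. -/
def nilPGLShift (F : Type*) [Field F] (n : ℕ) : Matrix (Fin n) (Fin n) F :=
  Matrix.of fun i j => if (i : ℕ) + 1 = (j : ℕ) then 1 else 0

theorem nilPGLShift_apply (i j : Fin n) :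
    nilPGLShift F n i j = if (i : ℕ) + 1 = (j : ℕ) then 1 else 0 := rfl

theorem nilPGLShift_mulVec (v : Fin n → F) (i : Fin n) :
    ∑ k, nilPGLShift F n i k * v k =
      if h : (i : ℕ) + 1 < n then v ⟨(i : ℕ) + 1, h⟩ else 0 := by
  by_cases h : (i : ℕ) + 1 < n
  · rw [dif_pos h, Finset.sum_eq_single ⟨(i : ℕ) + 1, h⟩]
    · simp [nilPGLShift_apply]
    · intro k _ hk
      have h1 : ¬ ((i : ℕ) + 1 = (k : ℕ)) := fun e => hk (Fin.ext e.symm)
      simp [nilPGLShift_apply, h1]
    · intro h'; exact absurd (Finset.mem_univ _) h'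
  · rw [dif_neg h]
    apply Finset.sum_eq_zero
    intro k _
    have h1 : ¬ ((i : ℕ) + 1 = (k : ℕ)) := fun e => h (e ▸ k.isLt)
    simp [nilPGLShift_apply, h1]

theorem nilPGLShift_vecMul (φ : Fin n → F) (j : Fin n) :
    ∑ k, φ k * nilPGLShift F n k j =
      if 0 < (j : ℕ) then φ ⟨(j : ℕ) - 1, lt_of_le_of_lt (Nat.sub_le _ _) j.isLt⟩ else 0 := by
  by_cases h : 0 < (j : ℕ)
  · rw [if_pos h, Finset.sum_eq_single ⟨(j : ℕ) - 1, lt_of_le_of_lt (Nat.sub_le _ _) j.isLt⟩]
    · have h1 : ((j : ℕ) - 1) + 1 = (j : ℕ) := by omega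
      simp [nilPGLShift_apply, h1]
    · intro k _ hk
      have h1 : ¬ ((k : ℕ) + 1 = (j : ℕ)) := by
        intro e
        apply hk
        apply Fin.ext
        simp only
        omega
      simp [nilPGLShift_apply, h1]
    · intro h'; exact absurd (Finset.mem_univ _) h'
  · rw [if_neg h]
    apply Finset.sum_eq_zero
    intro k _
    have h1 : ¬ ((k : ℕ) + 1 = (j : ℕ)) := by omega
    simp [nilPGLShift_apply, h1]

theorem nilPGLShift_right_eigen (v : Fin n → F) (μ : F)
    (h : ∀ i, ∑ k, nilPGLShift F n i k * v k = μ * v i) :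
    ∀ j : Fin n, (j : ℕ) ≠ 0 → v j = 0 := by
  by_cases hμ : μ = 0
  · intro j hj
    have hlt : ((j : ℕ) - 1) < n := lt_of_le_of_lt (Nat.sub_le _ _) j.isLt
    have h1 := h ⟨(j : ℕ) - 1, hlt⟩
    rw [nilPGLShift_mulVec, hμ, zero_mul] at h1
    have h2 : ((j : ℕ) - 1) + 1 < n := by have := j.isLt; omega
    rw [dif_pos h2] at h1
    have e : (⟨((j : ℕ) - 1) + 1, h2⟩ : Fin n) = j := by
      apply Fin.ext
      simp only
      omega
    rwa [e] at h1
  · have hall : ∀ d : ℕ, ∀ i : Fin n, n ≤ (i : ℕ) + d + 1 → v i = 0 := by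
      intro d
      induction d with
      | zero =>
        intro i hi
        have h1 := h i
        rw [nilPGLShift_mulVec, dif_neg (by omega)] at h1
        exact (mul_eq_zero.mp h1.symm).resolve_left hμ
      | succ d ih =>
        intro i hi
        have h1 := h i
        rw [nilPGLShift_mulVec] at h1
        by_cases h2 : (i : ℕ) + 1 < n
        · rw [dif_pos h2, ih ⟨(i : ℕ) + 1, h2⟩ (by simp only; omega)] at h1
          exact (mul_eq_zero.mp h1.symm).resolve_left hμ
        · rw [dif_neg h2] at h1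
          exact (mul_eq_zero.mp h1.symm).resolve_left hμ
    intro j _
    exact hall n j (by omega)

theorem nilPGLShift_left_eigen (φ : Fin n → F) (μ : F)
    (h : ∀ j, ∑ k, φ k * nilPGLShift F n k j = μ * φ j) :
    ∀ j : Fin n, (j : ℕ) + 1 ≠ n → φ j = 0 := by
  by_cases hμ : μ = 0
  · intro j hj
    have h2 : (j : ℕ) + 1 < n := by have := j.isLt; omega
    have h1 := h ⟨(j : ℕ) + 1, h2⟩
    rw [nilPGLShift_vecMul, hμ, zero_mul, if_pos (by simp)] at h1
    have e : (⟨(j : ℕ) + 1 - 1, lt_of_le_of_lt (Nat.sub_le _ _)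
        (⟨(j : ℕ) + 1, h2⟩ : Fin n).isLt⟩ : Fin n) = j := by
      apply Fin.ext
      simp
    rw [← e]
    exact h1
  · have hall : ∀ d : ℕ, ∀ j : Fin n, (j : ℕ) ≤ d → φ j = 0 := by
      intro d
      induction d with
      | zero =>
        intro j hj
        have h1 := h j
        rw [nilPGLShift_vecMul, if_neg (by omega)] at h1
        exact (mul_eq_zero.mp h1.symm).resolve_left hμ
      | succ d ih =>
        intro j hj
        have h1 := h j
        rw [nilPGLShift_vecMul] at h1
        by_cases h2 : 0 < (j : ℕ)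
        · rw [if_pos h2, ih ⟨(j : ℕ) - 1, lt_of_le_of_lt (Nat.sub_le _ _) j.isLt⟩
            (by simp only; omega)] at h1
          exact (mul_eq_zero.mp h1.symm).resolve_left hμ
        · rw [if_neg h2] at h1
          exact (mul_eq_zero.mp h1.symm).resolve_left hμ
    intro j _
    exact hall n j (by have := j.isLt; omega)

theorem nilPGLW_det : (1 + nilPGLShift F n).det = 1 := by
  rw [Matrix.det_of_isUpperTriangular]
  · apply Finset.prod_eq_one
    intro i _
    simp [nilPGLShift_apply]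
  · intro i j hij
    have hlt : (j : ℕ) < (i : ℕ) := hij
    have h1 : i ≠ j := by
      rintro rfl
      exact lt_irrefl _ hlt
    have h2 : ¬ ((i : ℕ) + 1 = (j : ℕ)) := by omega
    simp [Matrix.add_apply, Matrix.one_apply_ne h1, nilPGLShift_apply, h2]

/-- The regular unipotent element. -/
def nilPGLW (F : Type*) [Field F] (n : ℕ) : Matrix.SpecialLinearGroup (Fin n) F :=
  ⟨1 + nilPGLShift F n, nilPGLW_det⟩

theorem nilPGLW_coe : ((Matrix.SpecialLinearGroup.toGL (nilPGLW F n) : GL (Fin n) F) :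
    Matrix (Fin n) (Fin n) F) = 1 + nilPGLShift F n := rfl

theorem nilPGLW_col (a : Fin n) (ha : (a : ℕ) = 0) (g : GL (Fin n) F)
    (hg : g⁻¹ * Matrix.SpecialLinearGroup.toGL (nilPGLW F n) * g ∈ nilPGLColStab F a) :
    g ∈ nilPGLColStab F a := by
  obtain ⟨X, hX⟩ : ∃ X, X = g⁻¹ * Matrix.SpecialLinearGroup.toGL (nilPGLW F n) * g := ⟨_, rfl⟩
  rw [← hX] at hg
  have e : g * X = Matrix.SpecialLinearGroup.toGL (nilPGLW F n) * g := by rw [hX]; group
  have e' : (g : Matrix (Fin n) (Fin n) F) * (X : Matrix (Fin n) (Fin n) F) =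
      (1 + nilPGLShift F n) * (g : Matrix (Fin n) (Fin n) F) := by
    have h1 := congrArg (fun x : GL (Fin n) F => (x : Matrix (Fin n) (Fin n) F)) e
    simpa only [Units.val_mul, nilPGLW_coe] using h1
  intro j hj
  apply nilPGLShift_right_eigen (fun i => (g : Matrix (Fin n) (Fin n) F) i a)
    ((X : Matrix (Fin n) (Fin n) F) a a - 1)
  · intro i
    have h1 := congrFun (congrFun e' i) a
    rw [Matrix.mul_apply, Finset.sum_eq_single a, Matrix.add_mul, Matrix.one_mul,
      Matrix.add_apply, Matrix.mul_apply] at h1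
    · show ∑ k, nilPGLShift F n i k * (g : Matrix (Fin n) (Fin n) F) k a =
        ((X : Matrix (Fin n) (Fin n) F) a a - 1) * (g : Matrix (Fin n) (Fin n) F) i a
      linear_combination -h1
    · intro k _ hk; rw [hg k hk, mul_zero]
    · intro h; exact absurd (Finset.mem_univ a) h
  · intro h0
    exact hj (Fin.ext (by rw [h0, ha]))

theorem nilPGLW_row (a : Fin n) (ha : (a : ℕ) + 1 = n) (g : GL (Fin n) F)
    (hg : g⁻¹ * Matrix.SpecialLinearGroup.toGL (nilPGLW F n) * g ∈ nilPGLRowStab F a) :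
    g ∈ nilPGLRowStab F a := by
  obtain ⟨X, hX⟩ : ∃ X, X = g⁻¹ * Matrix.SpecialLinearGroup.toGL (nilPGLW F n) * g := ⟨_, rfl⟩
  rw [← hX] at hg
  have e : X * g⁻¹ = g⁻¹ * Matrix.SpecialLinearGroup.toGL (nilPGLW F n) := by rw [hX]; group
  have e' : (X : Matrix (Fin n) (Fin n) F) * ((g⁻¹ : GL (Fin n) F) : Matrix (Fin n) (Fin n) F) =
      ((g⁻¹ : GL (Fin n) F) : Matrix (Fin n) (Fin n) F) * (1 + nilPGLShift F n) := by
    have h1 := congrArg (fun x : GL (Fin n) F => (x : Matrix (Fin n) (Fin n) F)) e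
    simpa only [Units.val_mul, nilPGLW_coe] using h1
  have hinv : g⁻¹ ∈ nilPGLRowStab F a := by
    intro j hj
    apply nilPGLShift_left_eigen
      (fun j => ((g⁻¹ : GL (Fin n) F) : Matrix (Fin n) (Fin n) F) a j)
      ((X : Matrix (Fin n) (Fin n) F) a a - 1)
    · intro j
      have h1 := congrFun (congrFun e' a) j
      rw [Matrix.mul_apply, Finset.sum_eq_single a, Matrix.mul_add, Matrix.mul_one,
        Matrix.add_apply, Matrix.mul_apply] at h1
      · show ∑ k, ((g⁻¹ : GL (Fin n) F) : Matrix (Fin n) (Fin n) F) a k * nilPGLShift F n k j =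
          ((X : Matrix (Fin n) (Fin n) F) a a - 1) *
            ((g⁻¹ : GL (Fin n) F) : Matrix (Fin n) (Fin n) F) a j
        linear_combination -h1
      · intro k _ hk; rw [hg k hk, zero_mul]
      · intro h; exact absurd (Finset.mem_univ a) h
    · intro h0
      apply hj
      apply Fin.ext
      omega
  have h3 := (nilPGLRowStab F a).inv_mem hinv
  simpa using h3

/-- Transvections as elements of `SL_n(F)`. -/
def nilPGLTransv (F : Type*) [Field F] {n : ℕ} (i j : Fin n) (hij : i ≠ j) (c : F) :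
    Matrix.SpecialLinearGroup (Fin n) F :=
  ⟨Matrix.transvection i j c, Matrix.det_transvection_of_ne i j hij c⟩

theorem nilPGLTransv_apply (i j : Fin n) (hij : i ≠ j) (c : F) (a b : Fin n) :
    ((Matrix.SpecialLinearGroup.toGL (nilPGLTransv F i j hij c) : GL (Fin n) F) :
      Matrix (Fin n) (Fin n) F) a b =
      (if a = b then 1 else 0) + (if i = a ∧ j = b then c else 0) := by
  show (Matrix.transvection i j c) a b = _
  rw [Matrix.transvection, Matrix.add_apply, Matrix.one_apply, Matrix.single_apply]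

end

section

variable {F : Type*} [Field F]

/-- No nilpotent minimal cover for subgroups of `PGL_n(F)` containing `PSL_n(F)`, `n ≥ 3`. -/
theorem nilPGL_no_cover_ge_three (m : ℕ)
    (G : Subgroup (GL (Fin (m + 3)) F ⧸ Subgroup.center (GL (Fin (m + 3)) F)))
    (hG : ((Matrix.SpecialLinearGroup.toGL :
      Matrix.SpecialLinearGroup (Fin (m + 3)) F →* GL (Fin (m + 3)) F).range).map
      (QuotientGroup.mk' (Subgroup.center (GL (Fin (m + 3)) F))) ≤ G)
    {𝓐 : Finset (Subgroup ↥G)} (h𝓐 : NilCoverHyp 𝓐) : False := by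
  have h10 : (1 : Fin (m + 3)) ≠ 0 := by
    intro h
    have := congrArg Fin.val h
    simp at this
  have hl1 : Fin.last (m + 2) ≠ (1 : Fin (m + 3)) := by
    intro h
    have := congrArg Fin.val h
    simp at this
  have hl0 : Fin.last (m + 2) ≠ (0 : Fin (m + 3)) := by
    intro h
    have := congrArg Fin.val h
    simp at this
  apply nilCover2_false_of_two_stabilizers h𝓐
    (P₁ := nilPGLPre G (nilPGLColStab F 0))
    (P₂ := nilPGLPre G (nilPGLRowStab F (Fin.last (m + 2))))
    (w := nilPGLElt hG (nilPGLW F (m + 3)))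
    (t := nilPGLElt hG (nilPGLTransv F (Fin.last (m + 2)) 1 hl1 1))
    (s := nilPGLElt hG (nilPGLTransv F 1 0 h10 1))
  · rw [nilPGL_mem_pre (nilPGL_center_le_colStab 0) _ _ (nilPGL_coe_elt hG _),
      nilPGL_mem_colStab]
    intro h
    have h1 := h 1 h10
    rw [nilPGLTransv_apply] at h1
    simp [h10] at h1
  · rw [nilPGL_mem_pre (nilPGL_center_le_colStab 0) _ _ (nilPGL_coe_elt hG _),
      nilPGL_mem_colStab]
    intro i hi
    rw [nilPGLW_coe, Matrix.add_apply, Matrix.one_apply_ne hi, nilPGLShift_apply]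
    simp
  · exact nilPGL_fixed_transfer (nilPGL_center_le_colStab 0) _ _ (nilPGL_coe_elt hG _)
      (nilPGLW_col 0 rfl)
  · rw [nilPGL_mem_pre (nilPGL_center_le_rowStab _) _ _ (nilPGL_coe_elt hG _),
      nilPGL_mem_rowStab]
    intro j hj
    rw [nilPGLW_coe, Matrix.add_apply, Matrix.one_apply_ne hj.symm, nilPGLShift_apply]
    have hj' : ¬ ((Fin.last (m + 2) : Fin (m + 3)) : ℕ) + 1 = (j : ℕ) := by
      have := j.isLt
      rw [Fin.val_last]
      omega
    rw [if_neg hj', add_zero]
  · exact nilPGL_fixed_transfer (nilPGL_center_le_rowStab _) _ _ (nilPGL_coe_elt hG _)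
      (nilPGLW_row _ (by simp))
  · rw [nilPGL_mem_pre (nilPGL_center_le_colStab 0) _ _ (nilPGL_coe_elt hG _),
      nilPGL_mem_colStab]
    intro i hi
    rw [nilPGLTransv_apply]
    simp [hi, h10]
  · rw [nilPGL_mem_pre (nilPGL_center_le_rowStab _) _ _ (nilPGL_coe_elt hG _),
      nilPGL_mem_rowStab]
    intro h
    have h1 := h 1 hl1.symm
    rw [nilPGLTransv_apply] at h1
    simp [hl1] at h1

end

end Cfsg.Agent.Helper20
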