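import Mathlib
import Cfsg.Agent.Helper20.NilCoverUnip

set_option autoImplicit false

/-!
# Subgroups of `PGL_2(F)` containing `PSL_2(F)`: matrix lemmas (helper20)
-/

namespace Cfsg.Agent.Helper20

open Matrix

section

variable {Γ : Type*} [Group Γ]

/-- A nontrivial nilpotent subgroup has a nontrivial central element. -/
theorem nilCover2_exists_central {A : Subgroup Γ} (hA : Group.IsNilpotent A) {x : Γ}
    (hx : x ∈ A) (hx1 : x ≠ 1) : ∃ c ∈ A, c ≠ 1 ∧ ∀ a ∈ A, a * c = c * a := by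
  have : Nontrivial A := ⟨⟨⟨x, hx⟩, 1, fun h => hx1 (congrArg Subtype.val h)⟩⟩
  have hne : Subgroup.center A ≠ ⊥ := Group.IsNilpotent.center_ne_bot A
  obtain ⟨c, hc, hc1⟩ : ∃ c ∈ Subgroup.center A, c ≠ 1 := by
    by_contra hcon
    push Not at hcon
    exact hne ((Subgroup.eq_bot_iff_forall _).mpr hcon)
  refine ⟨c, c.2, fun h => hc1 (Subtype.ext h), ?_⟩
  intro a ha
  have h1 := Subgroup.mem_center_iff.mp hc ⟨a, ha⟩
  exact congrArg Subtype.val h1

end

section

variable {F : Type*} [Field F] {n : ℕ}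

theorem nilPGL_mk_eq_imp {g h : GL (Fin n) F}
    (e : (QuotientGroup.mk g : GL (Fin n) F ⧸ Subgroup.center (GL (Fin n) F)) =
      QuotientGroup.mk h) :
    ∃ c : F, (h : Matrix (Fin n) (Fin n) F) = c • (g : Matrix (Fin n) (Fin n) F) := by
  have h1 : g⁻¹ * h ∈ Subgroup.center (GL (Fin n) F) := QuotientGroup.eq.mp e
  obtain ⟨r, hr⟩ := Matrix.GeneralLinearGroup.mem_center_iff_val_mem_range_scalar.mp h1
  refine ⟨r, ?_⟩
  have h2 : (h : Matrix (Fin n) (Fin n) F) =
      (g : Matrix (Fin n) (Fin n) F) * ((g⁻¹ * h : GL (Fin n) F) : Matrix (Fin n) (Fin n) F) := by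
    rw [← Units.val_mul]
    congr 1
    group
  rw [h2, ← hr, Matrix.scalar_apply, ← Matrix.smul_eq_mul_diagonal]

theorem nilPGL_mk_eq_of_smul {g h : GL (Fin n) F} {c : F}
    (e : (h : Matrix (Fin n) (Fin n) F) = c • (g : Matrix (Fin n) (Fin n) F)) :
    (QuotientGroup.mk g : GL (Fin n) F ⧸ Subgroup.center (GL (Fin n) F)) =
      QuotientGroup.mk h := by
  apply QuotientGroup.eq.mpr
  rw [Matrix.GeneralLinearGroup.mem_center_iff_val_mem_range_scalar]
  refine ⟨c, ?_⟩
  rw [Units.val_mul, e, Matrix.mul_smul, Units.inv_mul, Matrix.scalar_apply,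
    Matrix.smul_one_eq_diagonal]

theorem nilPGL_commute_lift {G : Subgroup (GL (Fin n) F ⧸ Subgroup.center (GL (Fin n) F))}
    {x y : ↥G} (hxy : x * y = y * x) {X Y : GL (Fin n) F}
    (hx : (x : GL (Fin n) F ⧸ Subgroup.center (GL (Fin n) F)) = QuotientGroup.mk X)
    (hy : (y : GL (Fin n) F ⧸ Subgroup.center (GL (Fin n) F)) = QuotientGroup.mk Y) :
    ∃ c : F, (Y : Matrix (Fin n) (Fin n) F) * (X : Matrix (Fin n) (Fin n) F) =
      c • ((X : Matrix (Fin n) (Fin n) F) * (Y : Matrix (Fin n) (Fin n) F)) := by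
  have h1 : (QuotientGroup.mk (X * Y) : GL (Fin n) F ⧸ Subgroup.center (GL (Fin n) F)) =
      QuotientGroup.mk (Y * X) := by
    have h2 := congrArg Subtype.val hxy
    rw [Subgroup.coe_mul, Subgroup.coe_mul, hx, hy] at h2
    exact h2
  obtain ⟨c, hc⟩ := nilPGL_mk_eq_imp h1
  exact ⟨c, by simpa only [Units.val_mul] using hc⟩

theorem nilPGL_mk_eq_one_imp {g : GL (Fin n) F}
    (e : (QuotientGroup.mk g : GL (Fin n) F ⧸ Subgroup.center (GL (Fin n) F)) = 1) :
    ∀ i j : Fin n, i ≠ j → (g : Matrix (Fin n) (Fin n) F) i j = 0 := by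
  have h1 : g ∈ Subgroup.center (GL (Fin n) F) := (QuotientGroup.eq_one_iff g).mp e
  obtain ⟨r, hr⟩ := Matrix.GeneralLinearGroup.mem_center_iff_val_mem_range_scalar.mp h1
  intro i j hij
  rw [← hr, Matrix.scalar_apply, Matrix.diagonal_apply_ne _ hij]

theorem nilPGL_mk_eq_one_diag {g : GL (Fin n) F}
    (e : (QuotientGroup.mk g : GL (Fin n) F ⧸ Subgroup.center (GL (Fin n) F)) = 1) :
    ∀ i j : Fin n, (g : Matrix (Fin n) (Fin n) F) i i = (g : Matrix (Fin n) (Fin n) F) j j := by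
  have h1 : g ∈ Subgroup.center (GL (Fin n) F) := (QuotientGroup.eq_one_iff g).mp e
  obtain ⟨r, hr⟩ := Matrix.GeneralLinearGroup.mem_center_iff_val_mem_range_scalar.mp h1
  intro i j
  rw [← hr, Matrix.scalar_apply, Matrix.diagonal_apply_eq, Matrix.diagonal_apply_eq]

end

section

variable {F : Type*} [Field F]

theorem nilPGL2_mul_apply (A B : Matrix (Fin 2) (Fin 2) F) (i j : Fin 2) :
    (A * B) i j = A i 0 * B 0 j + A i 1 * B 1 j := by
  rw [Matrix.mul_apply, Fin.sum_univ_two]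

omit [Field F] in
theorem nilPGL2_ext {A B : Matrix (Fin 2) (Fin 2) F} (h00 : A 0 0 = B 0 0)
    (h01 : A 0 1 = B 0 1) (h10 : A 1 0 = B 1 0) (h11 : A 1 1 = B 1 1) : A = B := by
  ext i j
  fin_cases i <;> fin_cases j <;> assumption

theorem nilPGL2_det_ne_zero (g : GL (Fin 2) F) :
    (g : Matrix (Fin 2) (Fin 2) F) 0 0 * (g : Matrix (Fin 2) (Fin 2) F) 1 1 -
      (g : Matrix (Fin 2) (Fin 2) F) 0 1 * (g : Matrix (Fin 2) (Fin 2) F) 1 0 ≠ 0 := by
  have h := (Matrix.isUnit_iff_isUnit_det _).mp g.isUnit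
  rw [Matrix.det_fin_two] at h
  exact h.ne_zero

/-- An element of `SL_2(F)` given by its entries. -/
def nilPGL2SL (a b c d : F) (h : a * d - b * c = 1) : Matrix.SpecialLinearGroup (Fin 2) F :=
  ⟨!![a, b; c, d], by rw [Matrix.det_fin_two_of]; exact h⟩

theorem nilPGL2SL_00 (a b c d : F) (h : a * d - b * c = 1) :
    ((Matrix.SpecialLinearGroup.toGL (nilPGL2SL a b c d h) : GL (Fin 2) F) :
      Matrix (Fin 2) (Fin 2) F) 0 0 = a := rfl

theorem nilPGL2SL_01 (a b c d : F) (h : a * d - b * c = 1) :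
    ((Matrix.SpecialLinearGroup.toGL (nilPGL2SL a b c d h) : GL (Fin 2) F) :
      Matrix (Fin 2) (Fin 2) F) 0 1 = b := rfl

theorem nilPGL2SL_10 (a b c d : F) (h : a * d - b * c = 1) :
    ((Matrix.SpecialLinearGroup.toGL (nilPGL2SL a b c d h) : GL (Fin 2) F) :
      Matrix (Fin 2) (Fin 2) F) 1 0 = c := rfl

theorem nilPGL2SL_11 (a b c d : F) (h : a * d - b * c = 1) :
    ((Matrix.SpecialLinearGroup.toGL (nilPGL2SL a b c d h) : GL (Fin 2) F) :
      Matrix (Fin 2) (Fin 2) F) 1 1 = d := rfl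

theorem nilPGL2_W_eq : nilPGLW F 2 = nilPGL2SL 1 1 0 1 (by ring) := by
  apply Subtype.ext
  apply nilPGL2_ext <;> simp [nilPGLW, nilPGL2SL, nilPGLShift_apply]

theorem nilPGL2_SL_det (M : Matrix.SpecialLinearGroup (Fin 2) F) :
    ((Matrix.SpecialLinearGroup.toGL M : GL (Fin 2) F) : Matrix (Fin 2) (Fin 2) F) 0 0 *
      ((Matrix.SpecialLinearGroup.toGL M : GL (Fin 2) F) : Matrix (Fin 2) (Fin 2) F) 1 1 -
      ((Matrix.SpecialLinearGroup.toGL M : GL (Fin 2) F) : Matrix (Fin 2) (Fin 2) F) 0 1 *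
      ((Matrix.SpecialLinearGroup.toGL M : GL (Fin 2) F) : Matrix (Fin 2) (Fin 2) F) 1 0 = 1 := by
  have h := M.2
  rw [Matrix.det_fin_two] at h
  exact h

/-- Commuting up to a scalar with a non-scalar diagonal matrix forces a monomial shape. -/
theorem nilPGL2_diag_commute {M D : Matrix (Fin 2) (Fin 2) F} {c : F}
    (hD01 : D 0 1 = 0) (hD10 : D 1 0 = 0) (hD0 : D 0 0 ≠ 0) (hD1 : D 1 1 ≠ 0)
    (hne : D 0 0 ≠ D 1 1) (hdet : M 0 0 * M 1 1 - M 0 1 * M 1 0 ≠ 0)
    (h : D * M = c • (M * D)) :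
    (M 0 1 = 0 ∧ M 1 0 = 0) ∨ (M 0 0 = 0 ∧ M 1 1 = 0) := by
  have e00 := congrFun (congrFun h 0) 0
  have e01 := congrFun (congrFun h 0) 1
  have e10 := congrFun (congrFun h 1) 0
  have e11 := congrFun (congrFun h 1) 1
  simp only [nilPGL2_mul_apply, Matrix.smul_apply, smul_eq_mul, hD01, hD10, zero_mul, mul_zero,
    add_zero, zero_add] at e00 e01 e10 e11
  by_cases h00 : M 0 0 = 0
  · right
    refine ⟨h00, ?_⟩
    by_contra h11
    have hc : c = 1 := by
      have h3 : D 1 1 * M 1 1 * (1 - c) = 0 := by linear_combination e11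
      rcases mul_eq_zero.mp h3 with h' | h'
      · exact absurd h' (mul_ne_zero hD1 h11)
      · linear_combination -h'
    have h01 : M 0 1 ≠ 0 := by
      intro h01
      apply hdet
      rw [h00, h01]
      ring
    have h3 : M 0 1 * (D 0 0 - D 1 1) = 0 := by
      rw [hc] at e01
      linear_combination e01
    rcases mul_eq_zero.mp h3 with h' | h'
    · exact h01 h'
    · exact hne (sub_eq_zero.mp h')
  · left
    have hc : c = 1 := by
      have h3 : D 0 0 * M 0 0 * (1 - c) = 0 := by linear_combination e00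
      rcases mul_eq_zero.mp h3 with h' | h'
      · exact absurd h' (mul_ne_zero hD0 h00)
      · linear_combination -h'
    rw [hc] at e01 e10
    constructor
    · have h3 : M 0 1 * (D 0 0 - D 1 1) = 0 := by linear_combination e01
      rcases mul_eq_zero.mp h3 with h' | h'
      · exact h'
      · exact absurd (sub_eq_zero.mp h') hne
    · have h3 : M 1 0 * (D 1 1 - D 0 0) = 0 := by linear_combination e10
      rcases mul_eq_zero.mp h3 with h' | h'
      · exact h'
      · exact absurd (sub_eq_zero.mp h').symm hne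

/-- No conjugate of the unipotent element is diagonal. -/
theorem nilPGL2_no_diag (g : GL (Fin 2) F) (X : Matrix (Fin 2) (Fin 2) F) (hX01 : X 0 1 = 0)
    (hX10 : X 1 0 = 0)
    (h : (g : Matrix (Fin 2) (Fin 2) F) * (1 + nilPGLShift F 2) =
      X * (g : Matrix (Fin 2) (Fin 2) F)) : False := by
  have e00 := congrFun (congrFun h 0) 0
  have e01 := congrFun (congrFun h 0) 1
  have e10 := congrFun (congrFun h 1) 0
  have e11 := congrFun (congrFun h 1) 1
  simp [nilPGL2_mul_apply, Matrix.add_apply, nilPGLShift_apply, hX01, hX10] at e00 e01 e10 e11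
  have hdet := nilPGL2_det_ne_zero g
  have ha : (g : Matrix (Fin 2) (Fin 2) F) 0 0 = 0 := by
    by_contra ha
    have hX : X 0 0 = 1 := by
      have h3 : (g : Matrix (Fin 2) (Fin 2) F) 0 0 * (X 0 0 - 1) = 0 := by linear_combination -e00
      rcases mul_eq_zero.mp h3 with h' | h'
      · exact absurd h' ha
      · linear_combination h'
    rw [hX] at e01
    apply ha
    linear_combination e01
  have hc : (g : Matrix (Fin 2) (Fin 2) F) 1 0 = 0 := by
    by_contra hc
    have hX : X 1 1 = 1 := by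
      have h3 : (g : Matrix (Fin 2) (Fin 2) F) 1 0 * (X 1 1 - 1) = 0 := by linear_combination -e10
      rcases mul_eq_zero.mp h3 with h' | h'
      · exact absurd h' hc
      · linear_combination h'
    rw [hX] at e11
    apply hc
    linear_combination e11
  apply hdet
  rw [ha, hc]
  ring

/-- No conjugate of the unipotent element is antidiagonal, in characteristic not two. -/
theorem nilPGL2_no_anti (h2 : (2 : F) ≠ 0) (g : GL (Fin 2) F) (X : Matrix (Fin 2) (Fin 2) F)
    (hX00 : X 0 0 = 0) (hX11 : X 1 1 = 0)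
    (h : (g : Matrix (Fin 2) (Fin 2) F) * (1 + nilPGLShift F 2) =
      X * (g : Matrix (Fin 2) (Fin 2) F)) : False := by
  have e00 := congrFun (congrFun h 0) 0
  have e01 := congrFun (congrFun h 0) 1
  have e10 := congrFun (congrFun h 1) 0
  have e11 := congrFun (congrFun h 1) 1
  simp [nilPGL2_mul_apply, Matrix.add_apply, nilPGLShift_apply, hX00, hX11] at e00 e01 e10 e11
  have hdet := nilPGL2_det_ne_zero g
  -- e00 : a = m₁ c, e01 : a + b = m₁ d, e10 : c = m₂ a, e11 : c + d = m₂ b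
  have ha : (g : Matrix (Fin 2) (Fin 2) F) 0 0 ≠ 0 := by
    intro ha
    apply hdet
    rw [ha] at e10
    rw [ha, e10]
    ring
  have hm : X 0 1 * X 1 0 = 1 := by
    have h3 : (g : Matrix (Fin 2) (Fin 2) F) 0 0 * (X 0 1 * X 1 0 - 1) = 0 := by
      linear_combination -e00 - X 0 1 * e10
    rcases mul_eq_zero.mp h3 with h' | h'
    · exact absurd h' ha
    · linear_combination h'
  have hc : (2 : F) * (g : Matrix (Fin 2) (Fin 2) F) 1 0 = 0 := by
    linear_combination e10 + e11 + X 1 0 * e01 + (g : Matrix (Fin 2) (Fin 2) F) 1 1 * hm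
  have hc0 : (g : Matrix (Fin 2) (Fin 2) F) 1 0 = 0 := (mul_eq_zero.mp hc).resolve_left h2
  apply ha
  rw [e00, hc0, mul_zero]

end

section

variable {F : Type*} [Field F] [Fintype F]

/-- Either some square has order not a power of two, or `-1` is a square and `2 ≠ 0`. -/
theorem nilPGL2_field_cases (hF : 4 ≤ Fintype.card F) :
    (∃ β : F, β ≠ 0 ∧ ∀ k : ℕ, (β ^ 2) ^ 2 ^ k ≠ 1) ∨
      ((2 : F) ≠ 0 ∧ ∃ i : F, i * i = -1) := by
  classical
  by_cases h : ∃ β : F, β ≠ 0 ∧ ∀ k : ℕ, (β ^ 2) ^ 2 ^ k ≠ 1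
  · exact Or.inl h
  right
  push Not at h
  obtain ⟨β, hβ0, hβ2⟩ : ∃ β : F, β ≠ 0 ∧ β ^ 2 ≠ 1 := by
    by_contra hcon
    push Not at hcon
    have hsub : (Finset.univ : Finset F) ⊆ {0, 1, -1} := by
      intro x _
      by_cases hx : x = 0
      · simp [hx]
      · have h1 := hcon x hx
        have h2 : (x - 1) * (x + 1) = 0 := by linear_combination h1
        rcases mul_eq_zero.mp h2 with h' | h'
        · have : x = 1 := by linear_combination h'
          simp [this]
        · have : x = -1 := by linear_combination h'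
          simp [this]
    have hc := Finset.card_le_card hsub
    have hc3 : ({0, 1, -1} : Finset F).card ≤ 3 := Finset.card_le_three
    rw [Finset.card_univ] at hc
    omega
  obtain ⟨k, hk⟩ := h β hβ0
  have hex : ∃ k : ℕ, β ^ 2 ^ k = 1 := ⟨k + 1, by rw [pow_succ', pow_mul]; exact hk⟩
  have hk0 : β ^ 2 ^ (Nat.find hex) = 1 := Nat.find_spec hex
  have hne0 : Nat.find hex ≠ 0 := by
    intro h0
    rw [h0, pow_zero, pow_one] at hk0
    apply hβ2
    rw [hk0, one_pow]
  have hne1 : Nat.find hex ≠ 1 := by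
    intro h1
    rw [h1, pow_one] at hk0
    exact hβ2 hk0
  obtain ⟨j, hj⟩ : ∃ j, Nat.find hex = j + 2 := ⟨Nat.find hex - 2, by omega⟩
  have hmin : β ^ 2 ^ (j + 1) ≠ 1 := Nat.find_min hex (by omega)
  have hi4 : (β ^ 2 ^ j) ^ 4 = 1 := by
    rw [← pow_mul]
    have : 2 ^ j * 4 = 2 ^ (j + 2) := by ring
    rw [this, ← hj]
    exact hk0
  have hi2 : (β ^ 2 ^ j) ^ 2 ≠ 1 := by
    rw [← pow_mul, ← pow_succ]
    exact hmin
  have hi : (β ^ 2 ^ j) * (β ^ 2 ^ j) = -1 := by
    have h3 : ((β ^ 2 ^ j) ^ 2 - 1) * ((β ^ 2 ^ j) ^ 2 + 1) = 0 := by linear_combination hi4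
    rcases mul_eq_zero.mp h3 with h' | h'
    · exact absurd (by linear_combination h') hi2
    · linear_combination h'
  refine ⟨?_, β ^ 2 ^ j, hi⟩
  intro h20
  apply hi2
  have : (-1 : F) = 1 := by linear_combination -h20
  rw [pow_two, hi, this]

end

end Cfsg.Agent.Helper20
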