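import Mathlib
import Cfsg.Agent.Helper20.NilCoverTwo

set_option autoImplicit false

/-!
# Subgroups of `PGL_2(F)` containing `PSL_2(F)` have no nilpotent minimal cover (helper20)
-/

namespace Cfsg.Agent.Helper20

open Matrix

section

variable {F : Type*} [Field F] {n : ℕ}

theorem nilPGL_coe_conj {G : Subgroup (GL (Fin n) F ⧸ Subgroup.center (GL (Fin n) F))}
    (γ x : ↥G) (g X : GL (Fin n) F) (hγ : γ.1 = QuotientGroup.mk g)
    (hx : x.1 = QuotientGroup.mk X) :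
    (γ⁻¹ * x * γ : ↥G).1 = QuotientGroup.mk (g⁻¹ * X * g) := by
  rw [Subgroup.coe_mul, Subgroup.coe_mul, Subgroup.coe_inv, hγ, hx]
  rfl

theorem nilPGL_coe_conj' {G : Subgroup (GL (Fin n) F ⧸ Subgroup.center (GL (Fin n) F))}
    (γ x : ↥G) (g X : GL (Fin n) F) (hγ : γ.1 = QuotientGroup.mk g)
    (hx : x.1 = QuotientGroup.mk X) :
    (γ * x * γ⁻¹ : ↥G).1 = QuotientGroup.mk (g * X * g⁻¹) := by
  rw [Subgroup.coe_mul, Subgroup.coe_mul, Subgroup.coe_inv, hγ, hx]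
  rfl

theorem nilPGL_coe_comm {G : Subgroup (GL (Fin n) F ⧸ Subgroup.center (GL (Fin n) F))}
    (x y : ↥G) (X Y : GL (Fin n) F) (hx : x.1 = QuotientGroup.mk X)
    (hy : y.1 = QuotientGroup.mk Y) :
    (x * y * x⁻¹ * y⁻¹ : ↥G).1 = QuotientGroup.mk (X * Y * X⁻¹ * Y⁻¹) := by
  rw [Subgroup.coe_mul, Subgroup.coe_mul, Subgroup.coe_mul, Subgroup.coe_inv, Subgroup.coe_inv,
    hx, hy]
  rfl

theorem nilPGL_range_toGL_normal :
    ((Matrix.SpecialLinearGroup.toGL :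
      Matrix.SpecialLinearGroup (Fin n) F →* GL (Fin n) F).range).Normal := by
  constructor
  rintro _ ⟨M, rfl⟩ g
  have hdet : ((g * Matrix.SpecialLinearGroup.toGL M * g⁻¹ : GL (Fin n) F) :
      Matrix (Fin n) (Fin n) F).det = 1 := by
    rw [Units.val_mul, Units.val_mul, Matrix.det_mul, Matrix.det_mul]
    have h1 : (g : Matrix (Fin n) (Fin n) F).det *
        ((g⁻¹ : GL (Fin n) F) : Matrix (Fin n) (Fin n) F).det = 1 := by
      rw [← Matrix.det_mul, Units.mul_inv, Matrix.det_one]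
    have hM : ((Matrix.SpecialLinearGroup.toGL M : GL (Fin n) F) :
        Matrix (Fin n) (Fin n) F).det = 1 := M.2
    rw [hM, mul_one, h1]
  exact ⟨⟨_, hdet⟩, Units.ext rfl⟩

end

section

variable {F : Type*} [Field F]
  (G : Subgroup (GL (Fin 2) F ⧸ Subgroup.center (GL (Fin 2) F)))
  (hG : ((Matrix.SpecialLinearGroup.toGL :
    Matrix.SpecialLinearGroup (Fin 2) F →* GL (Fin 2) F).range).map
    (QuotientGroup.mk' (Subgroup.center (GL (Fin 2) F))) ≤ G)

theorem nilPGL2_mem_P_iff (x : ↥G) (g : GL (Fin 2) F) (hx : x.1 = QuotientGroup.mk g) :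
    x ∈ nilPGLPre G (nilPGLColStab F (0 : Fin 2)) ↔
      (g : Matrix (Fin 2) (Fin 2) F) 1 0 = 0 := by
  rw [nilPGL_mem_pre (nilPGL_center_le_colStab 0) x g hx, nilPGL_mem_colStab]
  constructor
  · intro h
    exact h 1 (by decide)
  · intro h i hi
    fin_cases i
    · exact absurd rfl hi
    · exact h

include hG

theorem nilPGL2_u_mem :
    nilPGLElt hG (nilPGLW F 2) ∈ nilPGLPre G (nilPGLColStab F (0 : Fin 2)) := by
  rw [nilPGL2_mem_P_iff G _ _ (nilPGL_coe_elt hG _), nilPGL2_W_eq, nilPGL2SL_10]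

theorem nilPGL2_u_fixed : ∀ γ : ↥G,
    γ⁻¹ * nilPGLElt hG (nilPGLW F 2) * γ ∈ nilPGLPre G (nilPGLColStab F (0 : Fin 2)) →
      γ ∈ nilPGLPre G (nilPGLColStab F (0 : Fin 2)) :=
  nilPGL_fixed_transfer (nilPGL_center_le_colStab 0) _ _ (nilPGL_coe_elt hG _)
    (nilPGLW_col 0 rfl)

theorem nilPGL2_lower_not_mem :
    nilPGLElt hG (nilPGL2SL 1 0 1 1 (by ring)) ∉ nilPGLPre G (nilPGLColStab F (0 : Fin 2)) := by
  rw [nilPGL2_mem_P_iff G _ _ (nilPGL_coe_elt hG _), nilPGL2SL_10]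
  exact one_ne_zero

theorem nilPGL2_P_ne_top : nilPGLPre G (nilPGLColStab F (0 : Fin 2)) ≠ ⊤ := by
  intro h
  exact nilPGL2_lower_not_mem G hG (h ▸ Subgroup.mem_top _)

/-- A nilpotent subgroup containing the unipotent element consists of images of `SL_2`. -/
theorem nilPGL2_nilpotent_le_K {B : Subgroup ↥G} (hB : Group.IsNilpotent B)
    (hu : nilPGLElt hG (nilPGLW F 2) ∈ B) : ∀ b ∈ B,
    b.1 ∈ ((Matrix.SpecialLinearGroup.toGL :
      Matrix.SpecialLinearGroup (Fin 2) F →* GL (Fin 2) F).range).map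
      (QuotientGroup.mk' (Subgroup.center (GL (Fin 2) F))) := by
  have hBP : B ≤ nilPGLPre G (nilPGLColStab F (0 : Fin 2)) :=
    nilCover2_le_of_unique_fixed hB hu (nilPGL2_u_mem G hG) (nilPGL2_u_fixed G hG)
  intro b hb
  obtain ⟨bt, hbt⟩ := nilPGL_exists_lift b
  have hb10 : (bt : Matrix (Fin 2) (Fin 2) F) 1 0 = 0 :=
    (nilPGL2_mem_P_iff G b bt hbt).mp (hBP hb)
  have hdet := nilPGL2_det_ne_zero bt
  rw [hb10, mul_zero, sub_zero] at hdet
  have hx : (bt : Matrix (Fin 2) (Fin 2) F) 0 0 ≠ 0 := left_ne_zero_of_mul hdet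
  have hz : (bt : Matrix (Fin 2) (Fin 2) F) 1 1 ≠ 0 := right_ne_zero_of_mul hdet
  have hxz : (bt : Matrix (Fin 2) (Fin 2) F) 0 0 = (bt : Matrix (Fin 2) (Fin 2) F) 1 1 := by
    by_contra hne
    have h1 := nilCover2_one_mem_of_commutator_closed hB hb
      (S := {v : ↥G | v ∈ B ∧ ∃ c : F, c ≠ 0 ∧
        v.1 = QuotientGroup.mk (Matrix.SpecialLinearGroup.toGL (nilPGL2SL 1 c 0 1 (by ring)))})
      ?_ ?_ ?_
    · obtain ⟨-, c, hc, h1c⟩ := h1
      rw [Subgroup.coe_one] at h1c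
      have h2 := nilPGL_mk_eq_one_imp h1c.symm 0 1 (by decide)
      rw [nilPGL2SL_01] at h2
      exact hc h2
    · refine ⟨_, hu, 1, one_ne_zero, ?_⟩
      rw [nilPGL_coe_elt, nilPGL2_W_eq]
    · intro s hs
      exact hs.1
    · rintro s ⟨hsB, c, hc, hsc⟩
      have hc' : c * (1 - (bt : Matrix (Fin 2) (Fin 2) F) 0 0 /
          (bt : Matrix (Fin 2) (Fin 2) F) 1 1) ≠ 0 := by
        apply mul_ne_zero hc
        intro h0
        apply hne
        have h3 : (bt : Matrix (Fin 2) (Fin 2) F) 0 0 / (bt : Matrix (Fin 2) (Fin 2) F) 1 1 = 1 := by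
          linear_combination -h0
        rw [div_eq_one_iff_eq hz] at h3
        exact h3
      refine ⟨B.mul_mem (B.mul_mem (B.mul_mem hsB hb) (B.inv_mem hsB)) (B.inv_mem hb),
        c * (1 - (bt : Matrix (Fin 2) (Fin 2) F) 0 0 / (bt : Matrix (Fin 2) (Fin 2) F) 1 1),
        hc', ?_⟩
      rw [nilPGL_coe_comm s b _ bt hsc hbt]
      congr 1
      have key : Matrix.SpecialLinearGroup.toGL (nilPGL2SL 1 c 0 1 (by ring)) * bt =
          Matrix.SpecialLinearGroup.toGL (nilPGL2SL 1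
            (c * (1 - (bt : Matrix (Fin 2) (Fin 2) F) 0 0 /
              (bt : Matrix (Fin 2) (Fin 2) F) 1 1)) 0 1 (by ring)) * bt *
            Matrix.SpecialLinearGroup.toGL (nilPGL2SL 1 c 0 1 (by ring)) := by
        apply Units.ext
        apply nilPGL2_ext <;>
          simp only [Units.val_mul, nilPGL2_mul_apply, nilPGL2SL_00, nilPGL2SL_01, nilPGL2SL_10,
            nilPGL2SL_11, hb10] <;> field_simp <;> ring
      rw [key]
      group
  have e : (QuotientGroup.mk (Matrix.SpecialLinearGroup.toGL (nilPGL2SL 1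
      ((bt : Matrix (Fin 2) (Fin 2) F) 0 1 / (bt : Matrix (Fin 2) (Fin 2) F) 0 0) 0 1 (by ring))) :
      GL (Fin 2) F ⧸ Subgroup.center (GL (Fin 2) F)) = QuotientGroup.mk bt := by
    apply nilPGL_mk_eq_of_smul (c := (bt : Matrix (Fin 2) (Fin 2) F) 0 0)
    apply nilPGL2_ext <;>
      simp only [Matrix.smul_apply, smul_eq_mul, nilPGL2SL_00, nilPGL2SL_01, nilPGL2SL_10,
        nilPGL2SL_11]
    · ring
    · field_simp
    · rw [hb10]; ring
    · rw [← hxz]; ring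
  rw [hbt, ← e]
  exact Subgroup.mem_map_of_mem _ ⟨_, rfl⟩

theorem nilPGL2_nilpotent_conj_le_K {B : Subgroup ↥G} (hB : Group.IsNilpotent B) (γ : ↥G)
    (hγ : γ * nilPGLElt hG (nilPGLW F 2) * γ⁻¹ ∈ B) :
    B ≤ (((Matrix.SpecialLinearGroup.toGL :
      Matrix.SpecialLinearGroup (Fin 2) F →* GL (Fin 2) F).range).map
      (QuotientGroup.mk' (Subgroup.center (GL (Fin 2) F)))).subgroupOf G := by
  have hB' : Group.IsNilpotent (B.map (MulAut.conj γ⁻¹).toMonoidHom) :=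
    (Group.isNilpotent_congr (B.equivMapOfInjective _ (MulAut.conj γ⁻¹).injective)).mp hB
  have hu : nilPGLElt hG (nilPGLW F 2) ∈ B.map (MulAut.conj γ⁻¹).toMonoidHom := by
    refine ⟨_, hγ, ?_⟩
    show γ⁻¹ * (γ * nilPGLElt hG (nilPGLW F 2) * γ⁻¹) * γ⁻¹⁻¹ = nilPGLElt hG (nilPGLW F 2)
    group
  intro b hb
  rw [Subgroup.mem_subgroupOf]
  have h1 := nilPGL2_nilpotent_le_K G hG hB' hu (γ⁻¹ * b * γ⁻¹⁻¹) ⟨b, hb, rfl⟩
  have hKn : (((Matrix.SpecialLinearGroup.toGL :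
      Matrix.SpecialLinearGroup (Fin 2) F →* GL (Fin 2) F).range).map
      (QuotientGroup.mk' (Subgroup.center (GL (Fin 2) F)))).Normal :=
    Subgroup.Normal.map nilPGL_range_toGL_normal _ (QuotientGroup.mk'_surjective _)
  have h2 := hKn.conj_mem _ h1 γ.1
  have e : γ.1 * (γ⁻¹ * b * γ⁻¹⁻¹ : ↥G).1 * γ.1⁻¹ = b.1 := by
    simp only [inv_inv, Subgroup.coe_mul, Subgroup.coe_inv]
    group
  rw [e] at h2
  exact h2

/-- The case where `G` is strictly larger than the image of `SL_2`. -/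
theorem nilPGL2_case_not_le
    (hGK : ¬ G ≤ ((Matrix.SpecialLinearGroup.toGL :
      Matrix.SpecialLinearGroup (Fin 2) F →* GL (Fin 2) F).range).map
      (QuotientGroup.mk' (Subgroup.center (GL (Fin 2) F))))
    {𝓐 : Finset (Subgroup ↥G)} (h𝓐 : NilCoverHyp 𝓐) : False := by
  refine nilCover2_false_of_normal h𝓐
    (K := (((Matrix.SpecialLinearGroup.toGL :
      Matrix.SpecialLinearGroup (Fin 2) F →* GL (Fin 2) F).range).map
      (QuotientGroup.mk' (Subgroup.center (GL (Fin 2) F)))).subgroupOf G)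
    (P := nilPGLPre G (nilPGLColStab F (0 : Fin 2)))
    (u := nilPGLElt hG (nilPGLW F 2))
    (γ := nilPGLElt hG (nilPGL2SL 1 0 1 1 (by ring))) ?_ ?_ ?_ ?_ ?_
  · intro h
    exact hGK (Subgroup.subgroupOf_eq_top.mp h)
  · exact nilPGL2_u_mem G hG
  · exact nilPGL2_u_fixed G hG
  · exact nilPGL2_lower_not_mem G hG
  · intro B hB g hg
    exact nilPGL2_nilpotent_conj_le_K G hG hB g hg

end

end Cfsg.Agent.Helper20
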