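import Mathlib
import Cfsg.Agent.Helper20.NilCoverTwoB

set_option autoImplicit false

/-!
# The image of `SL_2(F)` in `PGL_2(F)` has no nilpotent minimal cover (helper20)
-/

namespace Cfsg.Agent.Helper20

open Matrix

section

variable {F : Type*} [Field F]
  (G : Subgroup (GL (Fin 2) F ⧸ Subgroup.center (GL (Fin 2) F)))
  (hG : ((Matrix.SpecialLinearGroup.toGL :
    Matrix.SpecialLinearGroup (Fin 2) F →* GL (Fin 2) F).range).map
    (QuotientGroup.mk' (Subgroup.center (GL (Fin 2) F))) ≤ G)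

include hG

/-- An element commuting with a non-scalar diagonal element is conjugate into the point
stabilizer, when `-1` is a square and all elements lift to `SL_2`. -/
theorem nilPGL2_conj_into_P
    (hGK : G ≤ ((Matrix.SpecialLinearGroup.toGL :
      Matrix.SpecialLinearGroup (Fin 2) F →* GL (Fin 2) F).range).map
      (QuotientGroup.mk' (Subgroup.center (GL (Fin 2) F))))
    {i : F} (hi : i * i = -1) {x y : ↥G} (hxy : x * y = y * x) {Y : GL (Fin 2) F}
    (hy : y.1 = QuotientGroup.mk Y) (hY01 : (Y : Matrix (Fin 2) (Fin 2) F) 0 1 = 0)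
    (hY10 : (Y : Matrix (Fin 2) (Fin 2) F) 1 0 = 0)
    (hYne : (Y : Matrix (Fin 2) (Fin 2) F) 0 0 ≠ (Y : Matrix (Fin 2) (Fin 2) F) 1 1) :
    ∃ g : ↥G, g⁻¹ * x * g ∈ nilPGLPre G (nilPGLColStab F (0 : Fin 2)) := by
  obtain ⟨_, ⟨M, rfl⟩, hM⟩ := hGK x.2
  have hx : x.1 = QuotientGroup.mk (Matrix.SpecialLinearGroup.toGL M) := hM.symm
  obtain ⟨lam, hlam⟩ := nilPGL_commute_lift hxy hx hy
  have hYdet := nilPGL2_det_ne_zero Y
  rw [hY01, zero_mul, sub_zero] at hYdet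
  have hMdet := nilPGL2_SL_det M
  rcases nilPGL2_diag_commute hY01 hY10 (left_ne_zero_of_mul hYdet) (right_ne_zero_of_mul hYdet)
    hYne (by rw [hMdet]; exact one_ne_zero) hlam with h | h
  · refine ⟨1, ?_⟩
    have e : (1 : ↥G)⁻¹ * x * 1 = x := by group
    rw [e, nilPGL2_mem_P_iff G x _ hx]
    exact h.2
  · rw [h.1, h.2] at hMdet
    have hb : ((Matrix.SpecialLinearGroup.toGL M : GL (Fin 2) F) :
        Matrix (Fin 2) (Fin 2) F) 0 1 ≠ 0 := by
      intro h0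
      rw [h0] at hMdet
      simp at hMdet
    obtain ⟨b, hbdef⟩ : ∃ b : F, b = ((Matrix.SpecialLinearGroup.toGL M : GL (Fin 2) F) :
        Matrix (Fin 2) (Fin 2) F) 0 1 := ⟨_, rfl⟩
    rw [← hbdef] at hb hMdet
    have hbb : b * b⁻¹ = 1 := mul_inv_cancel₀ hb
    have hm : ((Matrix.SpecialLinearGroup.toGL M : GL (Fin 2) F) :
        Matrix (Fin 2) (Fin 2) F) 1 0 * b = -1 := by linear_combination -hMdet
    have hgdet : b * b⁻¹ - 0 * i = 1 := by rw [hbb]; ring
    have hYdet' : i * (-i) - b⁻¹ * 0 = 1 := by linear_combination -hi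
    refine ⟨nilPGLElt hG (nilPGL2SL b 0 i b⁻¹ hgdet), ?_⟩
    have hcoe := nilPGL_coe_conj (nilPGLElt hG (nilPGL2SL b 0 i b⁻¹ hgdet)) x _ _
      (nilPGL_coe_elt hG _) hx
    have key : Matrix.SpecialLinearGroup.toGL M *
        Matrix.SpecialLinearGroup.toGL (nilPGL2SL b 0 i b⁻¹ hgdet) =
        Matrix.SpecialLinearGroup.toGL (nilPGL2SL b 0 i b⁻¹ hgdet) *
          Matrix.SpecialLinearGroup.toGL (nilPGL2SL i b⁻¹ 0 (-i) hYdet') := by
      apply Units.ext
      apply nilPGL2_ext <;>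
        simp only [Units.val_mul, nilPGL2_mul_apply, nilPGL2SL_00, nilPGL2SL_01, nilPGL2SL_10,
          nilPGL2SL_11, h.1, h.2, ← hbdef]
      · ring
      · ring
      · linear_combination hm - hi
      · ring
    have key2 : (Matrix.SpecialLinearGroup.toGL (nilPGL2SL b 0 i b⁻¹ hgdet))⁻¹ *
        Matrix.SpecialLinearGroup.toGL M *
        Matrix.SpecialLinearGroup.toGL (nilPGL2SL b 0 i b⁻¹ hgdet) =
        Matrix.SpecialLinearGroup.toGL (nilPGL2SL i b⁻¹ 0 (-i) hYdet') := by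
      rw [mul_assoc, key]
      group
    rw [key2] at hcoe
    rw [nilPGL2_mem_P_iff G _ _ hcoe, nilPGL2SL_10]

/-- No conjugate of the unipotent element commutes with a non-scalar diagonal element, in
characteristic not two. -/
theorem nilPGL2_conj_u_not_commute (h2 : (2 : F) ≠ 0) (γ y : ↥G)
    (hxy : γ * nilPGLElt hG (nilPGLW F 2) * γ⁻¹ * y = y * (γ * nilPGLElt hG (nilPGLW F 2) * γ⁻¹))
    {Y : GL (Fin 2) F}
    (hy : y.1 = QuotientGroup.mk Y) (hY01 : (Y : Matrix (Fin 2) (Fin 2) F) 0 1 = 0)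
    (hY10 : (Y : Matrix (Fin 2) (Fin 2) F) 1 0 = 0)
    (hYne : (Y : Matrix (Fin 2) (Fin 2) F) 0 0 ≠ (Y : Matrix (Fin 2) (Fin 2) F) 1 1) : False := by
  obtain ⟨g, hg⟩ := nilPGL_exists_lift γ
  have hcoe := nilPGL_coe_conj' γ (nilPGLElt hG (nilPGLW F 2)) g _ hg (nilPGL_coe_elt hG _)
  obtain ⟨lam, hlam⟩ := nilPGL_commute_lift hxy hcoe hy
  have hYdet := nilPGL2_det_ne_zero Y
  rw [hY01, zero_mul, sub_zero] at hYdet
  have hX : (g : Matrix (Fin 2) (Fin 2) F) * (1 + nilPGLShift F 2) =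
      ((g * Matrix.SpecialLinearGroup.toGL (nilPGLW F 2) * g⁻¹ : GL (Fin 2) F) :
        Matrix (Fin 2) (Fin 2) F) * (g : Matrix (Fin 2) (Fin 2) F) := by
    rw [← nilPGLW_coe, ← Units.val_mul, ← Units.val_mul]
    congr 1
    group
  rcases nilPGL2_diag_commute hY01 hY10 (left_ne_zero_of_mul hYdet) (right_ne_zero_of_mul hYdet)
    hYne (nilPGL2_det_ne_zero _) hlam with h | h
  · exact nilPGL2_no_diag g _ h.1 h.2 hX
  · exact nilPGL2_no_anti h2 g _ h.1 h.2 hX

end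

end Cfsg.Agent.Helper20
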