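import Mathlib
import Cfsg.Agent.Helper20.NilCoverTwoC

set_option autoImplicit false

/-!
# `PSL_2(F) ≤ G ≤ PGL_2(F)` has no nilpotent minimal cover: the two counting cases (helper20)
-/

namespace Cfsg.Agent.Helper20

open Matrix

section

variable {F : Type*} [Field F] [Finite F]
  (G : Subgroup (GL (Fin 2) F ⧸ Subgroup.center (GL (Fin 2) F)))
  (hG : ((Matrix.SpecialLinearGroup.toGL :
    Matrix.SpecialLinearGroup (Fin 2) F →* GL (Fin 2) F).range).map
    (QuotientGroup.mk' (Subgroup.center (GL (Fin 2) F))) ≤ G)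

include hG

/-- The case where some square in `F` has order not a power of two. -/
theorem nilPGL2_case_torus {𝓐 : Finset (Subgroup ↥G)} (h𝓐 : NilCoverHyp 𝓐) {β : F}
    (hβ : β ≠ 0) (hβ2 : ∀ k : ℕ, (β ^ 2) ^ 2 ^ k ≠ 1) : False := by
  have hb1 : β * β⁻¹ = 1 := mul_inv_cancel₀ hβ
  have hb2 : β⁻¹ * β = 1 := inv_mul_cancel₀ hβ
  have hsdet : β * β⁻¹ - 0 * 0 = 1 := by rw [hb1]; ring
  obtain ⟨s, hsdef⟩ : ∃ s : ↥G, s = nilPGLElt hG (nilPGL2SL β 0 0 β⁻¹ hsdet) := ⟨_, rfl⟩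
  have hscoe : s.1 = QuotientGroup.mk
      (Matrix.SpecialLinearGroup.toGL (nilPGL2SL β 0 0 β⁻¹ hsdet)) := by
    rw [hsdef]; rfl
  obtain ⟨A, hA, hsA⟩ := h𝓐.1.2 s
  have hAnil := h𝓐.2.2 A hA
  have hββ : β ≠ β⁻¹ := by
    intro h
    apply hβ2 0
    rw [pow_zero, pow_one, pow_two]
    nth_rewrite 2 [h]
    exact hb1
  have hs1 : s ≠ 1 := by
    intro h
    have h1 : (QuotientGroup.mk (Matrix.SpecialLinearGroup.toGL (nilPGL2SL β 0 0 β⁻¹ hsdet)) :
        GL (Fin 2) F ⧸ Subgroup.center (GL (Fin 2) F)) = 1 := by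
      rw [← hscoe, h]; rfl
    have h2 := nilPGL_mk_eq_one_diag h1 0 1
    rw [nilPGL2SL_00, nilPGL2SL_11] at h2
    exact hββ h2
  obtain ⟨c, hcA, hc1, hcc⟩ := nilCover2_exists_central hAnil hsA hs1
  obtain ⟨C, hC⟩ := nilPGL_exists_lift c
  have hCdiag : (C : Matrix (Fin 2) (Fin 2) F) 0 1 = 0 ∧
      (C : Matrix (Fin 2) (Fin 2) F) 1 0 = 0 := by
    obtain ⟨lam, hlam⟩ := nilPGL_commute_lift (hcc s hsA).symm hC hscoe
    rcases nilPGL2_diag_commute (nilPGL2SL_01 β 0 0 β⁻¹ hsdet) (nilPGL2SL_10 β 0 0 β⁻¹ hsdet)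
      (by rw [nilPGL2SL_00]; exact hβ) (by rw [nilPGL2SL_11]; exact inv_ne_zero hβ)
      (by rw [nilPGL2SL_00, nilPGL2SL_11]; exact hββ) (nilPGL2_det_ne_zero C) hlam with h | h
    · exact h
    · exfalso
      have e01 := congrFun (congrFun hlam 0) 1
      have e10 := congrFun (congrFun hlam 1) 0
      simp only [nilPGL2_mul_apply, Matrix.smul_apply, smul_eq_mul, nilPGL2SL_00, nilPGL2SL_01,
        nilPGL2SL_10, nilPGL2SL_11, h.1, h.2, mul_zero, add_zero, zero_add] at e01 e10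
      have hdet := nilPGL2_det_ne_zero C
      rw [h.1, h.2] at hdet
      have h01 : (C : Matrix (Fin 2) (Fin 2) F) 0 1 ≠ 0 := by
        intro h0; apply hdet; rw [h0]; ring
      have h10 : (C : Matrix (Fin 2) (Fin 2) F) 1 0 ≠ 0 := by
        intro h0; apply hdet; rw [h0]; ring
      have hl1 : lam = β ^ 2 := by
        have h3 : (C : Matrix (Fin 2) (Fin 2) F) 0 1 * (β ^ 2 - lam) = 0 := by
          linear_combination β * e01 + lam * (C : Matrix (Fin 2) (Fin 2) F) 0 1 * hb2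
        rcases mul_eq_zero.mp h3 with h' | h'
        · exact absurd h' h01
        · linear_combination -h'
      have hl2 : lam * β ^ 2 = 1 := by
        have h3 : (C : Matrix (Fin 2) (Fin 2) F) 1 0 * (1 - lam * β ^ 2) = 0 := by
          linear_combination β * e10 - (C : Matrix (Fin 2) (Fin 2) F) 1 0 * hb1
        rcases mul_eq_zero.mp h3 with h' | h'
        · exact absurd h' h10
        · linear_combination -h'
      apply hβ2 1
      rw [pow_one, pow_two]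
      rw [hl1] at hl2
      exact hl2
  have hCdet := nilPGL2_det_ne_zero C
  rw [hCdiag.1, zero_mul, sub_zero] at hCdet
  have hC0 : (C : Matrix (Fin 2) (Fin 2) F) 0 0 ≠ 0 := left_ne_zero_of_mul hCdet
  have hC1 : (C : Matrix (Fin 2) (Fin 2) F) 1 1 ≠ 0 := right_ne_zero_of_mul hCdet
  have hCne : (C : Matrix (Fin 2) (Fin 2) F) 0 0 ≠ (C : Matrix (Fin 2) (Fin 2) F) 1 1 := by
    intro h
    apply hc1
    have h1 : (QuotientGroup.mk (1 : GL (Fin 2) F) :
        GL (Fin 2) F ⧸ Subgroup.center (GL (Fin 2) F)) = QuotientGroup.mk C := by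
      apply nilPGL_mk_eq_of_smul (c := (C : Matrix (Fin 2) (Fin 2) F) 0 0)
      apply nilPGL2_ext <;> simp [hCdiag.1, hCdiag.2, h]
    apply Subtype.ext
    rw [hC, ← h1]
    rfl
  have hall : ∀ a ∈ A, ∀ at' : GL (Fin 2) F, a.1 = QuotientGroup.mk at' →
      ((at' : Matrix (Fin 2) (Fin 2) F) 0 1 = 0 ∧ (at' : Matrix (Fin 2) (Fin 2) F) 1 0 = 0) ∨
      ((at' : Matrix (Fin 2) (Fin 2) F) 0 0 = 0 ∧ (at' : Matrix (Fin 2) (Fin 2) F) 1 1 = 0) := by
    intro a ha at' hat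
    obtain ⟨lam, hlam⟩ := nilPGL_commute_lift (hcc a ha) hat hC
    exact nilPGL2_diag_commute hCdiag.1 hCdiag.2 hC0 hC1 hCne (nilPGL2_det_ne_zero at') hlam
  have hdiag : ∀ a ∈ A, ∀ at' : GL (Fin 2) F, a.1 = QuotientGroup.mk at' →
      (at' : Matrix (Fin 2) (Fin 2) F) 0 1 = 0 ∧ (at' : Matrix (Fin 2) (Fin 2) F) 1 0 = 0 := by
    intro a ha at' hat
    rcases hall a ha at' hat with h | h
    · exact h
    · exfalso
      have h1 := nilCover2_one_mem_of_commutator_closed hAnil ha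
        (S := {v : ↥G | v ∈ A ∧ ∃ V : GL (Fin 2) F, v.1 = QuotientGroup.mk V ∧
          (V : Matrix (Fin 2) (Fin 2) F) 0 1 = 0 ∧ (V : Matrix (Fin 2) (Fin 2) F) 1 0 = 0 ∧
          ∀ k : ℕ, ((V : Matrix (Fin 2) (Fin 2) F) 0 0 /
            (V : Matrix (Fin 2) (Fin 2) F) 1 1) ^ 2 ^ k ≠ 1}) ?_ ?_ ?_
      · obtain ⟨-, V, hV, hV01, hV10, hVk⟩ := h1
        rw [Subgroup.coe_one] at hV
        have h2 := nilPGL_mk_eq_one_diag hV.symm 0 1
        have hVdet := nilPGL2_det_ne_zero V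
        rw [hV01, zero_mul, sub_zero] at hVdet
        apply hVk 0
        rw [h2, pow_zero, pow_one, div_self (right_ne_zero_of_mul hVdet)]
      · refine ⟨s, hsA, _, hscoe, nilPGL2SL_01 β 0 0 β⁻¹ hsdet, nilPGL2SL_10 β 0 0 β⁻¹ hsdet, ?_⟩
        intro k
        rw [nilPGL2SL_00, nilPGL2SL_11]
        have e : β / β⁻¹ = β ^ 2 := by
          rw [div_eq_mul_inv, inv_inv, pow_two]
        rw [e]
        exact hβ2 k
      · intro v hv
        exact hv.1
      · rintro v ⟨hvA, V, hV, hV01, hV10, hVk⟩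
        have hVdet := nilPGL2_det_ne_zero V
        rw [hV01, zero_mul, sub_zero] at hVdet
        have hV0 := left_ne_zero_of_mul hVdet
        have hV1 := right_ne_zero_of_mul hVdet
        have hdet' : ((V : Matrix (Fin 2) (Fin 2) F) 0 0 / (V : Matrix (Fin 2) (Fin 2) F) 1 1) *
            ((V : Matrix (Fin 2) (Fin 2) F) 1 1 / (V : Matrix (Fin 2) (Fin 2) F) 0 0) - 0 * 0 =
            1 := by
          field_simp
          ring
        refine ⟨A.mul_mem (A.mul_mem (A.mul_mem hvA ha) (A.inv_mem hvA)) (A.inv_mem ha),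
          Matrix.SpecialLinearGroup.toGL (nilPGL2SL _ 0 0 _ hdet'), ?_,
          nilPGL2SL_01 _ 0 0 _ hdet', nilPGL2SL_10 _ 0 0 _ hdet', ?_⟩
        · rw [nilPGL_coe_comm v a V at' hV hat]
          congr 1
          have key : V * at' = Matrix.SpecialLinearGroup.toGL (nilPGL2SL _ 0 0 _ hdet') * at' * V := by
            apply Units.ext
            apply nilPGL2_ext <;>
              simp only [Units.val_mul, nilPGL2_mul_apply, nilPGL2SL_00, nilPGL2SL_01,
                nilPGL2SL_10, nilPGL2SL_11, hV01, hV10, h.1, h.2] <;>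
              (field_simp; ring)
          rw [key]
          group
        · intro k
          rw [nilPGL2SL_00, nilPGL2SL_11]
          have e : ((V : Matrix (Fin 2) (Fin 2) F) 0 0 / (V : Matrix (Fin 2) (Fin 2) F) 1 1) /
              ((V : Matrix (Fin 2) (Fin 2) F) 1 1 / (V : Matrix (Fin 2) (Fin 2) F) 0 0) =
              ((V : Matrix (Fin 2) (Fin 2) F) 0 0 / (V : Matrix (Fin 2) (Fin 2) F) 1 1) ^ 2 := by
            field_simp
          rw [e, ← pow_mul, ← pow_succ']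
          exact hVk (k + 1)
  apply nilCover2_counting h𝓐 (nilPGL2_P_ne_top G hG) (nilPGL2_u_mem G hG) (nilPGL2_u_fixed G hG)
    hA
  · intro a ha
    refine ⟨1, ?_⟩
    obtain ⟨at', hat⟩ := nilPGL_exists_lift a
    have e : (1 : ↥G)⁻¹ * a * 1 = a := by group
    rw [e, nilPGL2_mem_P_iff G a at' hat]
    exact (hdiag a ha at' hat).2
  · intro γ hγ
    obtain ⟨g, hg⟩ := nilPGL_exists_lift γ
    have hcoe := nilPGL_coe_conj' γ (nilPGLElt hG (nilPGLW F 2)) g _ hg (nilPGL_coe_elt hG _)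
    have hd := hdiag _ hγ _ hcoe
    apply nilPGL2_no_diag g _ hd.1 hd.2
    rw [← nilPGLW_coe, ← Units.val_mul, ← Units.val_mul]
    congr 1
    group

/-- The case where `-1` is a square, `2 ≠ 0` and every element of `G` lifts to `SL_2`. -/
theorem nilPGL2_case_sqrt
    (hGK : G ≤ ((Matrix.SpecialLinearGroup.toGL :
      Matrix.SpecialLinearGroup (Fin 2) F →* GL (Fin 2) F).range).map
      (QuotientGroup.mk' (Subgroup.center (GL (Fin 2) F))))
    {𝓐 : Finset (Subgroup ↥G)} (h𝓐 : NilCoverHyp 𝓐) (h2 : (2 : F) ≠ 0) {i : F}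
    (hi : i * i = -1) : False := by
  have hi0 : i ≠ 0 := by
    intro h
    rw [h, mul_zero] at hi
    have h3 : (1 : F) = 0 := by linear_combination hi
    exact one_ne_zero h3
  have hzdet : i * (-i) - 0 * 0 = 1 := by linear_combination -hi
  obtain ⟨z, hzdef⟩ : ∃ z : ↥G, z = nilPGLElt hG (nilPGL2SL i 0 0 (-i) hzdet) := ⟨_, rfl⟩
  have hzcoe : z.1 = QuotientGroup.mk
      (Matrix.SpecialLinearGroup.toGL (nilPGL2SL i 0 0 (-i) hzdet)) := by
    rw [hzdef]; rfl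
  have hii : i ≠ -i := by
    intro h
    have h3 : (2 : F) * i = 0 := by linear_combination h
    rcases mul_eq_zero.mp h3 with h' | h'
    · exact h2 h'
    · exact hi0 h'
  obtain ⟨A, hA, hzA⟩ := h𝓐.1.2 z
  have hAnil := h𝓐.2.2 A hA
  have hz1 : z ≠ 1 := by
    intro h
    have h1 : (QuotientGroup.mk (Matrix.SpecialLinearGroup.toGL (nilPGL2SL i 0 0 (-i) hzdet)) :
        GL (Fin 2) F ⧸ Subgroup.center (GL (Fin 2) F)) = 1 := by
      rw [← hzcoe, h]; rfl
    have h3 := nilPGL_mk_eq_one_diag h1 0 1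
    rw [nilPGL2SL_00, nilPGL2SL_11] at h3
    exact hii h3
  obtain ⟨c, hcA, hc1, hcc⟩ := nilCover2_exists_central hAnil hzA hz1
  obtain ⟨_, ⟨Cs, rfl⟩, hCs⟩ := hGK c.2
  have hC : c.1 = QuotientGroup.mk (Matrix.SpecialLinearGroup.toGL Cs) := hCs.symm
  have hCdet := nilPGL2_SL_det Cs
  obtain ⟨lam, hlam⟩ := nilPGL_commute_lift (hcc z hzA).symm hC hzcoe
  rcases nilPGL2_diag_commute (nilPGL2SL_01 i 0 0 (-i) hzdet) (nilPGL2SL_10 i 0 0 (-i) hzdet)
    (by rw [nilPGL2SL_00]; exact hi0) (by rw [nilPGL2SL_11]; exact neg_ne_zero.mpr hi0)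
    (by rw [nilPGL2SL_00, nilPGL2SL_11]; exact hii) (by rw [hCdet]; exact one_ne_zero) hlam
    with h | h
  · -- `c` is diagonal
    have hCne : ((Matrix.SpecialLinearGroup.toGL Cs : GL (Fin 2) F) :
        Matrix (Fin 2) (Fin 2) F) 0 0 ≠
        ((Matrix.SpecialLinearGroup.toGL Cs : GL (Fin 2) F) : Matrix (Fin 2) (Fin 2) F) 1 1 := by
      intro h'
      apply hc1
      have h1 : (QuotientGroup.mk (1 : GL (Fin 2) F) :
          GL (Fin 2) F ⧸ Subgroup.center (GL (Fin 2) F)) =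
          QuotientGroup.mk (Matrix.SpecialLinearGroup.toGL Cs) := by
        apply nilPGL_mk_eq_of_smul (c := ((Matrix.SpecialLinearGroup.toGL Cs : GL (Fin 2) F) :
          Matrix (Fin 2) (Fin 2) F) 0 0)
        apply nilPGL2_ext <;> simp [h.1, h.2, h']
      apply Subtype.ext
      rw [hC, ← h1]
      rfl
    apply nilCover2_counting h𝓐 (nilPGL2_P_ne_top G hG) (nilPGL2_u_mem G hG)
      (nilPGL2_u_fixed G hG) hA
    · intro a ha
      exact nilPGL2_conj_into_P G hG hGK hi (hcc a ha) hC h.1 h.2 hCne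
    · intro γ hγ
      exact nilPGL2_conj_u_not_commute G hG h2 γ c (hcc _ hγ) hC h.1 h.2 hCne
  · -- `c` is antidiagonal: conjugate it to `z`
    rw [h.1, h.2] at hCdet
    obtain ⟨b, hbdef⟩ : ∃ b : F, b = ((Matrix.SpecialLinearGroup.toGL Cs : GL (Fin 2) F) :
        Matrix (Fin 2) (Fin 2) F) 0 1 := ⟨_, rfl⟩
    rw [← hbdef] at hCdet
    have hb : b ≠ 0 := by
      intro h0
      rw [h0] at hCdet
      simp at hCdet
    have hm : ((Matrix.SpecialLinearGroup.toGL Cs : GL (Fin 2) F) :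
        Matrix (Fin 2) (Fin 2) F) 1 0 * b = -1 := by linear_combination -hCdet
    have hbb : b * b⁻¹ = 1 := mul_inv_cancel₀ hb
    have h22 : (2 : F) * 2⁻¹ = 1 := mul_inv_cancel₀ h2
    have hhdet : (i * 2⁻¹) * (-i) - b * (-(2⁻¹ * b⁻¹)) = 1 := by
      linear_combination (-2⁻¹) * hi + 2⁻¹ * hbb + h22
    obtain ⟨hh, hhdef⟩ : ∃ hh : ↥G,
        hh = nilPGLElt hG (nilPGL2SL (i * 2⁻¹) b (-(2⁻¹ * b⁻¹)) (-i) hhdet) := ⟨_, rfl⟩
    have hhcoe : hh.1 = QuotientGroup.mk (Matrix.SpecialLinearGroup.toGL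
        (nilPGL2SL (i * 2⁻¹) b (-(2⁻¹ * b⁻¹)) (-i) hhdet)) := by
      rw [hhdef]; rfl
    have hch : c * hh = hh * z := by
      apply Subtype.ext
      rw [Subgroup.coe_mul, Subgroup.coe_mul, hC, hhcoe, hzcoe]
      show (QuotientGroup.mk (_ * _) : GL (Fin 2) F ⧸ Subgroup.center (GL (Fin 2) F)) =
        QuotientGroup.mk (_ * _)
      congr 1
      apply Units.ext
      apply nilPGL2_ext <;>
        simp only [Units.val_mul, nilPGL2_mul_apply, nilPGL2SL_00, nilPGL2SL_01, nilPGL2SL_10,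
          nilPGL2SL_11, h.1, h.2, ← hbdef]
      · linear_combination (-2⁻¹) * hbb + (-2⁻¹) * hi
      · ring
      · linear_combination (i * 2⁻¹ * b⁻¹) * hm -
          (((Matrix.SpecialLinearGroup.toGL Cs : GL (Fin 2) F) :
            Matrix (Fin 2) (Fin 2) F) 1 0 * i * 2⁻¹) * hbb
      · linear_combination hm - hi
    have hz' : z = hh⁻¹ * c * hh := by
      rw [mul_assoc, hch]
      group
    have hzY01 := nilPGL2SL_01 i 0 0 (-i) hzdet
    have hzY10 := nilPGL2SL_10 i 0 0 (-i) hzdet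
    have hzYne : ((Matrix.SpecialLinearGroup.toGL (nilPGL2SL i 0 0 (-i) hzdet) : GL (Fin 2) F) :
        Matrix (Fin 2) (Fin 2) F) 0 0 ≠
        ((Matrix.SpecialLinearGroup.toGL (nilPGL2SL i 0 0 (-i) hzdet) : GL (Fin 2) F) :
          Matrix (Fin 2) (Fin 2) F) 1 1 := by
      rw [nilPGL2SL_00, nilPGL2SL_11]
      exact hii
    have hcomm : ∀ a ∈ A, (hh⁻¹ * a * hh) * z = z * (hh⁻¹ * a * hh) := by
      intro a ha
      rw [hz']
      calc hh⁻¹ * a * hh * (hh⁻¹ * c * hh) = hh⁻¹ * (a * c) * hh := by group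
        _ = hh⁻¹ * (c * a) * hh := by rw [hcc a ha]
        _ = hh⁻¹ * c * hh * (hh⁻¹ * a * hh) := by group
    apply nilCover2_counting h𝓐 (nilPGL2_P_ne_top G hG) (nilPGL2_u_mem G hG)
      (nilPGL2_u_fixed G hG) hA
    · intro a ha
      obtain ⟨g, hg⟩ := nilPGL2_conj_into_P G hG hGK hi (hcomm a ha) hzcoe hzY01 hzY10 hzYne
      refine ⟨hh * g, ?_⟩
      have e : (hh * g)⁻¹ * a * (hh * g) = g⁻¹ * (hh⁻¹ * a * hh) * g := by group
      rw [e]
      exact hg
    · intro γ hγ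
      have h5 := hcomm _ hγ
      have e : hh⁻¹ * (γ * nilPGLElt hG (nilPGLW F 2) * γ⁻¹) * hh =
          (hh⁻¹ * γ) * nilPGLElt hG (nilPGLW F 2) * (hh⁻¹ * γ)⁻¹ := by group
      rw [e] at h5
      exact nilPGL2_conj_u_not_commute G hG h2 (hh⁻¹ * γ) z h5 hzcoe hzY01 hzY10 hzYne

end

section

variable {F : Type*} [Field F] [Fintype F]

/-- No nilpotent minimal cover for subgroups of `PGL_2(F)` containing `PSL_2(F)`, `|F| ≥ 4`. -/
theorem nilPGL_no_cover_two (hF : 4 ≤ Fintype.card F)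
    (G : Subgroup (GL (Fin 2) F ⧸ Subgroup.center (GL (Fin 2) F)))
    (hG : ((Matrix.SpecialLinearGroup.toGL :
      Matrix.SpecialLinearGroup (Fin 2) F →* GL (Fin 2) F).range).map
      (QuotientGroup.mk' (Subgroup.center (GL (Fin 2) F))) ≤ G)
    {𝓐 : Finset (Subgroup ↥G)} (h𝓐 : NilCoverHyp 𝓐) : False := by
  by_cases hGK : G ≤ ((Matrix.SpecialLinearGroup.toGL :
      Matrix.SpecialLinearGroup (Fin 2) F →* GL (Fin 2) F).range).map
      (QuotientGroup.mk' (Subgroup.center (GL (Fin 2) F)))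
  · rcases nilPGL2_field_cases hF with ⟨β, hβ, hβ2⟩ | ⟨h2, i, hi⟩
    · exact nilPGL2_case_torus G hG h𝓐 hβ hβ2
    · exact nilPGL2_case_sqrt G hG hGK h𝓐 h2 hi
  · exact nilPGL2_case_not_le G hG hGK h𝓐

end

end Cfsg.Agent.Helper20
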