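import Mathlib
import Cfsg.Agent.Helper84.P4Defs

/-!
# PIECE A1 of CALL S5188 (helper84): abelian groups of order `p^4` and exponent `≥ p^3`
-/

namespace Cfsg.Agent.Helper20

open Cfsg.Agent.Helper84

section
variable {G : Type*} [CommGroup G]

/-- range of the `m`-th power map of a commutative group -/
def p4Pow (G : Type*) [CommGroup G] (m : ℕ) : Subgroup G := (powMonoidHom m : G →* G).range

/-- kernel of the `m`-th power map of a commutative group -/
def p4Ker (G : Type*) [CommGroup G] (m : ℕ) : Subgroup G := (powMonoidHom m : G →* G).ker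

theorem p4Pow_mem (m : ℕ) (y : G) : y ^ m ∈ p4Pow G m := ⟨y, rfl⟩

theorem p4Ker_mem_iff (m : ℕ) (y : G) : y ∈ p4Ker G m ↔ y ^ m = 1 := Iff.rfl

theorem p4Pow_char (m : ℕ) : (p4Pow G m).Characteristic := by
  rw [Subgroup.characteristic_iff_map_le]
  intro φ
  rintro _ ⟨_, ⟨y, rfl⟩, rfl⟩
  refine ⟨φ y, ?_⟩
  change (φ y) ^ m = φ (y ^ m)
  rw [map_pow]

theorem p4Ker_char (m : ℕ) : (p4Ker G m).Characteristic := by
  rw [Subgroup.characteristic_iff_map_le]
  intro φ
  rintro _ ⟨y, hy, rfl⟩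
  rw [SetLike.mem_coe, p4Ker_mem_iff] at hy
  rw [p4Ker_mem_iff]
  change (φ y) ^ m = 1
  rw [← map_pow, hy, map_one]

theorem p4Pow_le (m k : ℕ) : p4Pow G (m * k) ≤ p4Pow G k := by
  rintro _ ⟨y, rfl⟩
  refine ⟨y ^ m, ?_⟩
  change (y ^ m) ^ k = y ^ (m * k)
  rw [pow_mul]

theorem p4_card_ker_mul_card_pow [Finite G] (m : ℕ) :
    Nat.card (p4Ker G m) * Nat.card (p4Pow G m) = Nat.card G := by
  unfold p4Ker p4Pow
  rw [← Subgroup.index_ker]
  exact Subgroup.card_mul_index _

theorem p4_pow_mem_zpowers_pow [Finite G] (p : ℕ) [Fact p.Prime] (x : G)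
    (h1 : ∀ y : G, y ^ p ∈ Subgroup.zpowers x) (h2 : ∀ y : G, y ^ orderOf x = 1)
    (ho : p ∣ orderOf x) (y : G) : y ^ p ∈ Subgroup.zpowers (x ^ p) := by
  obtain ⟨k, hk⟩ := (mem_powers_iff_mem_zpowers.mpr (h1 y))
  have hk' : x ^ k = y ^ p := hk
  obtain ⟨o', ho'⟩ := ho
  have h3 : x ^ (k * o') = 1 := by
    rw [pow_mul, hk', ← pow_mul, ← ho']; exact h2 y
  have h4 : orderOf x ∣ k * o' := orderOf_dvd_of_pow_eq_one h3
  rw [ho'] at h4
  have ho'pos : 0 < o' := by
    rcases Nat.eq_zero_or_pos o' with h | h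
    · exfalso; rw [h, mul_zero] at ho'; exact (orderOf_pos x).ne' ho'
    · exact h
  have h5 : p ∣ k := (Nat.mul_dvd_mul_iff_right ho'pos).mp h4
  obtain ⟨k', rfl⟩ := h5
  rw [← hk', pow_mul]
  exact Subgroup.pow_mem _ (Subgroup.mem_zpowers _) _

theorem p4_pow_mem_zpowers_of_mem {a b : G} (h : a ∈ Subgroup.zpowers b) (m : ℕ) :
    a ^ m ∈ Subgroup.zpowers (b ^ m) := by
  obtain ⟨k, rfl⟩ := Subgroup.mem_zpowers_iff.mp h
  refine Subgroup.mem_zpowers_iff.mpr ⟨k, ?_⟩
  rw [← zpow_natCast, ← zpow_natCast, ← zpow_mul, ← zpow_mul, mul_comm]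

theorem p4Pow_eq (p : ℕ) (x : G) (h : ∀ y : G, y ^ p ∈ Subgroup.zpowers (x ^ p)) (i : ℕ) :
    p4Pow G (p ^ (i + 1)) = Subgroup.zpowers (x ^ (p ^ (i + 1))) := by
  apply le_antisymm
  · rintro _ ⟨y, rfl⟩
    change y ^ (p ^ (i + 1)) ∈ _
    rw [pow_succ', pow_mul, pow_mul]
    exact p4_pow_mem_zpowers_of_mem (h y) _
  · rw [Subgroup.zpowers_le]; exact p4Pow_mem _ x

theorem p4Pow_card [Finite G] (p : ℕ) [Fact p.Prime] (x : G)
    (h : ∀ y : G, y ^ p ∈ Subgroup.zpowers (x ^ p)) (a i : ℕ) (ho : orderOf x = p ^ a)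
    (hi : i + 1 ≤ a) : Nat.card (p4Pow G (p ^ (i + 1))) = p ^ (a - (i + 1)) := by
  have hp := (Fact.out : p.Prime)
  rw [p4Pow_eq p x h i, Nat.card_zpowers,
    orderOf_pow_of_dvd (pow_ne_zero _ hp.ne_zero) (by rw [ho]; exact pow_dvd_pow p hi), ho,
    Nat.pow_div hi hp.pos]

theorem p4_abelian_big_comm [Finite G] (p : ℕ) [Fact p.Prime] (hG : Nat.card G = p ^ 4)
    (hx : ∃ x : G, x ^ (p ^ 2) ≠ 1) : CharChain4 p G := by
  have hp := (Fact.out : p.Prime)
  by_cases h4 : ∃ y : G, y ^ (p ^ 3) ≠ 1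
  · obtain ⟨x, hx⟩ := h4
    have hord : orderOf x = p ^ 4 := by
      have hdvd : orderOf x ∣ p ^ 4 := hG ▸ orderOf_dvd_natCard x
      obtain ⟨j, hj, hj'⟩ := (Nat.dvd_prime_pow hp).mp hdvd
      rcases Nat.lt_or_ge j 4 with h | h
      · exfalso; apply hx
        have : orderOf x ∣ p ^ 3 := by rw [hj']; exact pow_dvd_pow p (by omega)
        exact orderOf_dvd_iff_pow_eq_one.mp this
      · have : j = 4 := by omega
        rw [hj', this]
    have h1 : ∀ y : G, y ^ p ∈ Subgroup.zpowers x := by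
      intro y
      have htop : Subgroup.zpowers x = ⊤ := by
        apply Subgroup.eq_top_of_card_eq
        rw [Nat.card_zpowers, hord, hG]
      rw [htop]; trivial
    have h2 : ∀ y : G, y ^ orderOf x = 1 := by
      intro y; rw [hord, ← hG]; exact pow_card_eq_one'
    have hstar := p4_pow_mem_zpowers_pow p x h1 h2
      (by rw [hord]; exact dvd_pow_self p (by norm_num))
    refine ⟨p4Pow G (p ^ 3), p4Pow G (p ^ 2), p4Pow G (p ^ 1), p4Pow_char _, p4Pow_char _,
      p4Pow_char _, ?_, ?_, ?_, ?_, ?_⟩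
    · have := p4Pow_le (G := G) p (p ^ 2)
      rwa [← pow_succ'] at this
    · have := p4Pow_le (G := G) p (p ^ 1)
      rwa [← pow_succ'] at this
    · have := p4Pow_card p x hstar 4 2 hord (by norm_num)
      simpa using this
    · have := p4Pow_card p x hstar 4 1 hord (by norm_num)
      simpa using this
    · have := p4Pow_card p x hstar 4 0 hord (by norm_num)
      simpa using this
  · push Not at h4
    obtain ⟨x, hx⟩ := hx
    have hord : orderOf x = p ^ 3 := orderOf_eq_prime_pow hx (h4 x)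
    have hidx : (Subgroup.zpowers x).index = p := by
      have h := Subgroup.card_mul_index (Subgroup.zpowers x)
      rw [Nat.card_zpowers, hord, hG] at h
      have h' : p ^ 3 * (Subgroup.zpowers x).index = p ^ 3 * p := by rw [h]; ring
      exact Nat.eq_of_mul_eq_mul_left (pow_pos hp.pos 3) h'
    have h1 : ∀ y : G, y ^ p ∈ Subgroup.zpowers x := by
      intro y
      have := (Subgroup.zpowers x).pow_index_mem y
      rwa [hidx] at this
    have h2 : ∀ y : G, y ^ orderOf x = 1 := by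
      intro y; rw [hord]; exact h4 y
    have hstar := p4_pow_mem_zpowers_pow p x h1 h2
      (by rw [hord]; exact dvd_pow_self p (by norm_num))
    have hA : Nat.card (p4Pow G (p ^ 2)) = p := by
      have := p4Pow_card p x hstar 3 1 hord (by norm_num)
      simpa using this
    have hB : Nat.card (p4Pow G (p ^ 1)) = p ^ 2 := by
      have := p4Pow_card p x hstar 3 0 hord (by norm_num)
      simpa using this
    refine ⟨p4Pow G (p ^ 2), p4Pow G (p ^ 1), p4Ker G (p ^ 2), p4Pow_char _, p4Pow_char _,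
      p4Ker_char _, ?_, ?_, hA, hB, ?_⟩
    · have := p4Pow_le (G := G) p (p ^ 1)
      rwa [← pow_succ'] at this
    · rintro _ ⟨y, rfl⟩
      rw [p4Ker_mem_iff]
      change (y ^ (p ^ 1)) ^ (p ^ 2) = 1
      rw [← pow_mul, ← pow_add]
      exact h4 y
    · have h := p4_card_ker_mul_card_pow (G := G) (p ^ 2)
      rw [hA, hG] at h
      have h' : Nat.card (p4Ker G (p ^ 2)) * p = p ^ 3 * p := by rw [h]; ring
      exact Nat.eq_of_mul_eq_mul_right hp.pos h'

end

theorem p4_abelian_big {G : Type*} [Group G] [Finite G] (p : ℕ) [Fact p.Prime]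
    (hG : Nat.card G = p ^ 4) (hc : ∀ a b : G, a * b = b * a) (hx : ∃ x : G, x ^ (p ^ 2) ≠ 1) :
    CharChain4 p G := by
  letI : CommGroup G := { (inferInstance : Group G) with mul_comm := hc }
  exact p4_abelian_big_comm p hG hx

end Cfsg.Agent.Helper20
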