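import Mathlib
import Cfsg.Agent.Helper20.P4A1

/-!
# PIECE A2 of CALL S5188 (helper84): abelian groups of order `p^4` and exponent `p^2`
-/

namespace Cfsg.Agent.Helper20

section
variable {G : Type*} [CommGroup G]

theorem p4_cyclic_equiv {H : Type*} [Group H] [IsCyclic H] (n : ℕ) (h : Nat.card H = n) :
    Nonempty (Multiplicative (ZMod n) ≃* H) := by
  subst h
  exact ⟨zmodCyclicMulEquiv inferInstance⟩

theorem p4_mem_zpowers_pow_of_pow_eq_one [Finite G] (p : ℕ) [Fact p.Prime] (x g : G)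
    (hox : orderOf x = p ^ 2) (hg : g ∈ Subgroup.zpowers x) (hgp : g ^ p = 1) :
    g ∈ Subgroup.zpowers (x ^ p) := by
  have hp := (Fact.out : p.Prime)
  obtain ⟨i, hi⟩ := mem_powers_iff_mem_zpowers.mpr hg
  have hi' : x ^ i = g := hi
  have h1 : x ^ (i * p) = 1 := by rw [pow_mul, hi', hgp]
  have h2 : p ^ 2 ∣ i * p := hox ▸ orderOf_dvd_of_pow_eq_one h1
  have h3 : p ∣ i := by
    rw [pow_two] at h2
    exact (Nat.mul_dvd_mul_iff_right hp.pos).mp h2
  obtain ⟨i', rfl⟩ := h3
  rw [← hi', pow_mul]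
  exact Subgroup.pow_mem _ (Subgroup.mem_zpowers _) _

theorem p4_gen_of_ne_one [Finite G] (p : ℕ) [Fact p.Prime] (v c : G) (hv : v ^ p = 1)
    (hc : c ∈ Subgroup.zpowers v) (hc1 : c ≠ 1) : v ∈ Subgroup.zpowers c := by
  have hp := (Fact.out : p.Prime)
  obtain ⟨j, hj⟩ := mem_powers_iff_mem_zpowers.mpr hc
  have hj' : v ^ j = c := hj
  have hpj : ¬ p ∣ j := by
    rintro ⟨j', rfl⟩
    apply hc1
    rw [← hj', pow_mul, hv, one_pow]
  have hcop : Nat.Coprime j p := ((Nat.Prime.coprime_iff_not_dvd hp).mpr hpj).symm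
  obtain ⟨m, -, hm⟩ := Nat.exists_mul_mod_eq_one_of_coprime hcop hp.one_lt
  have : c ^ m = v := by
    rw [← hj', ← pow_mul, pow_eq_pow_mod (j * m) hv, hm, pow_one]
  rw [← this]
  exact Subgroup.pow_mem _ (Subgroup.mem_zpowers _) _

theorem p4_pow_mem_zpowers_of_ne_one [Finite G] (p : ℕ) [Fact p.Prime] (y g : G) (hy : y ^ (p ^ 2) = 1)
    (hg : g ∈ Subgroup.zpowers y) (hg1 : g ≠ 1) : y ^ p ∈ Subgroup.zpowers g := by
  have hp := (Fact.out : p.Prime)
  obtain ⟨j, hj⟩ := mem_powers_iff_mem_zpowers.mpr hg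
  have hj' : y ^ j = g := hj
  by_cases hpj : p ∣ j
  · obtain ⟨j', rfl⟩ := hpj
    have hyp : (y ^ p) ^ p = 1 := by rw [← pow_mul, ← pow_two]; exact hy
    have hg' : g ∈ Subgroup.zpowers (y ^ p) := by
      rw [← hj', pow_mul]; exact Subgroup.pow_mem _ (Subgroup.mem_zpowers _) _
    exact p4_gen_of_ne_one p (y ^ p) g hyp hg' hg1
  · have hcop : Nat.Coprime j (p ^ 2) :=
      Nat.Coprime.pow_right 2 ((Nat.Prime.coprime_iff_not_dvd hp).mpr hpj).symm
    have h1 : 1 < p ^ 2 := Nat.one_lt_pow (by norm_num) hp.one_lt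
    obtain ⟨m, -, hm⟩ := Nat.exists_mul_mod_eq_one_of_coprime hcop h1
    have : g ^ m = y := by
      rw [← hj', ← pow_mul, pow_eq_pow_mod (j * m) hy, hm, pow_one]
    have hyg : y ∈ Subgroup.zpowers g := by
      rw [← this]; exact Subgroup.pow_mem _ (Subgroup.mem_zpowers _) _
    exact Subgroup.pow_mem _ hyg _

theorem p4_equiv_of_injective_of_card {H : Type*} [Group H] [Finite G] (f : H →* G)
    (hf : Function.Injective f) (hc : Nat.card H = Nat.card G) : Nonempty (H ≃* G) := by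
  haveI : Finite H := Nat.finite_of_card_ne_zero (by rw [hc]; exact Nat.card_pos.ne')
  have hbij : Function.Bijective f := by
    rw [Nat.bijective_iff_injective_and_card]
    exact ⟨hf, hc⟩
  exact ⟨MulEquiv.ofBijective f hbij⟩

theorem p4_mem_zpowers_pow_eq_one {v b : G} {p : ℕ} (hv : v ^ p = 1)
    (hb : b ∈ Subgroup.zpowers v) : b ^ p = 1 := by
  obtain ⟨k, rfl⟩ := Subgroup.mem_zpowers_iff.mp hb
  rw [← zpow_natCast, ← zpow_mul, mul_comm, zpow_mul, zpow_natCast, hv, one_zpow]

theorem p4_abelian_sq_comm [Finite G] (p : ℕ) [Fact p.Prime] (hG : Nat.card G = p ^ 4)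
    (h2 : ∀ x : G, x ^ (p ^ 2) = 1) (hx : ∃ x : G, x ^ p ≠ 1) :
    Nonempty (G ≃* Multiplicative (ZMod (p ^ 2) × ZMod p × ZMod p)) ∨
      Nonempty (G ≃* Multiplicative (ZMod (p ^ 2) × ZMod (p ^ 2))) := by
  have hp := (Fact.out : p.Prime)
  obtain ⟨x, hx⟩ := hx
  have hox : orderOf x = p ^ 2 := by
    have := orderOf_eq_prime_pow (p := p) (n := 1) (x := x) (by simpa using hx) (by simpa using h2 x)
    simpa using this
  have hcx : Nat.card (Subgroup.zpowers x) = p ^ 2 := by rw [Nat.card_zpowers, hox]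
  obtain ⟨ex⟩ := p4_cyclic_equiv (H := Subgroup.zpowers x) (p ^ 2) hcx
  by_cases hcase : ∃ y : G, y ^ p ∉ Subgroup.zpowers (x ^ p)
  · right
    obtain ⟨y, hy⟩ := hcase
    have hy1 : y ^ p ≠ 1 := fun h => hy (h ▸ Subgroup.one_mem _)
    have hoy : orderOf y = p ^ 2 := by
      have := orderOf_eq_prime_pow (p := p) (n := 1) (x := y) (by simpa using hy1)
        (by simpa using h2 y)
      simpa using this
    have hcy : Nat.card (Subgroup.zpowers y) = p ^ 2 := by rw [Nat.card_zpowers, hoy]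
    obtain ⟨ey⟩ := p4_cyclic_equiv (H := Subgroup.zpowers y) (p ^ 2) hcy
    have hdisj : ∀ g : G, g ∈ Subgroup.zpowers x → g ∈ Subgroup.zpowers y → g = 1 := by
      intro g hgx hgy
      by_contra hg1
      have h3 : y ^ p ∈ Subgroup.zpowers g := p4_pow_mem_zpowers_of_ne_one p y g (h2 y) hgy hg1
      have h4 : y ^ p ∈ Subgroup.zpowers x := (Subgroup.zpowers_le.mpr hgx) h3
      have h5 : (y ^ p) ^ p = 1 := by rw [← pow_mul, ← pow_two]; exact h2 y
      exact hy (p4_mem_zpowers_pow_of_pow_eq_one p x (y ^ p) hox h4 h5)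
    let f : (Subgroup.zpowers x) × (Subgroup.zpowers y) →* G :=
      (Subgroup.zpowers x).subtype.coprod (Subgroup.zpowers y).subtype
    have hf : Function.Injective f := by
      rw [← MonoidHom.ker_eq_bot_iff, eq_bot_iff]
      rintro ⟨a, b⟩ hab
      rw [MonoidHom.mem_ker] at hab
      have hab' : (a : G) * (b : G) = 1 := hab
      have h3 : (a : G) = (b : G)⁻¹ := eq_inv_of_mul_eq_one_left hab'
      have ha1 : (a : G) = 1 :=
        hdisj _ a.2 (h3 ▸ (Subgroup.zpowers y).inv_mem b.2)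
      have hb1 : (b : G) = 1 := by rw [ha1, one_mul] at hab'; exact hab'
      rw [Subgroup.mem_bot]
      exact Prod.ext (Subtype.ext ha1) (Subtype.ext hb1)
    have hcard : Nat.card ((Subgroup.zpowers x) × (Subgroup.zpowers y)) = Nat.card G := by
      rw [Nat.card_prod, hcx, hcy, hG]; ring
    obtain ⟨e1⟩ := p4_equiv_of_injective_of_card f hf hcard
    exact ⟨e1.symm.trans ((MulEquiv.prodCongr ex.symm ey.symm).trans
      (MulEquiv.prodMultiplicative _ _).symm)⟩
  · left
    push Not at hcase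
    -- the kernel of the `p`-th power map has order `p^3`
    have hdp : p ∣ orderOf x := by
      rw [hox]; exact dvd_pow_self p (by norm_num)
    have hX0 : Nat.card (Subgroup.zpowers (x ^ p)) = p := by
      rw [Nat.card_zpowers, orderOf_pow_of_dvd hp.ne_zero hdp, hox, pow_two,
        Nat.mul_div_cancel _ hp.pos]
    have hPeq : p4Pow G p = Subgroup.zpowers (x ^ p) := by
      apply le_antisymm
      · rintro _ ⟨y, rfl⟩
        exact hcase y
      · rw [Subgroup.zpowers_le]; exact p4Pow_mem p x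
    have hΩ : Nat.card (p4Ker G p) = p ^ 3 := by
      have h := p4_card_ker_mul_card_pow (G := G) p
      rw [hPeq, hX0, hG] at h
      have h' : Nat.card (p4Ker G p) * p = p ^ 3 * p := by rw [h]; ring
      exact Nat.eq_of_mul_eq_mul_right hp.pos h'
    have hp13 : p < p ^ 3 := by
      calc p = p ^ 1 := (pow_one p).symm
        _ < p ^ 3 := Nat.pow_lt_pow_right hp.one_lt (by norm_num)
    have hp23 : p ^ 2 < p ^ 3 := Nat.pow_lt_pow_right hp.one_lt (by norm_num)
    -- choose `u`
    obtain ⟨u, huΩ, huX⟩ : ∃ u : G, u ∈ p4Ker G p ∧ u ∉ Subgroup.zpowers (x ^ p) := by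
      by_contra hcon
      push Not at hcon
      have hle : p4Ker G p ≤ Subgroup.zpowers (x ^ p) := fun g hg => hcon g hg
      have := Subgroup.card_le_of_le hle
      rw [hΩ, hX0] at this
      omega
    have hup : u ^ p = 1 := (p4Ker_mem_iff p u).mp huΩ
    have hu1 : u ≠ 1 := fun h => huX (h ▸ Subgroup.one_mem _)
    have hcu : Nat.card (Subgroup.zpowers u) = p := by
      rw [Nat.card_zpowers, orderOf_eq_prime hup hu1]
    have hxpp : (x ^ p) ^ p = 1 := by rw [← pow_mul, ← pow_two]; exact h2 x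
    -- `Y = ⟨x^p⟩ ⊔ ⟨u⟩` has at most `p^2` elements
    have hY : Nat.card (Subgroup.zpowers (x ^ p) ⊔ Subgroup.zpowers u : Subgroup G) ≤ p ^ 2 := by
      let g : (Subgroup.zpowers (x ^ p)) × (Subgroup.zpowers u) →* G :=
        (Subgroup.zpowers (x ^ p)).subtype.coprod (Subgroup.zpowers u).subtype
      have hle : (Subgroup.zpowers (x ^ p) ⊔ Subgroup.zpowers u : Subgroup G) ≤ g.range := by
        intro z hz
        obtain ⟨a, ha, b, hb, rfl⟩ := Subgroup.mem_sup.mp hz
        exact ⟨(⟨a, ha⟩, ⟨b, hb⟩), rfl⟩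
      have h1 := Subgroup.card_le_of_le hle
      have h2' : Nat.card g.range ≤
          Nat.card ((Subgroup.zpowers (x ^ p)) × (Subgroup.zpowers u)) :=
        Nat.card_le_card_of_surjective g.rangeRestrict g.rangeRestrict_surjective
      rw [Nat.card_prod, hX0, hcu] at h2'
      calc _ ≤ Nat.card g.range := h1
        _ ≤ p * p := h2'
        _ = p ^ 2 := (pow_two p).symm
    obtain ⟨v, hvΩ, hvY⟩ : ∃ v : G, v ∈ p4Ker G p ∧
        v ∉ (Subgroup.zpowers (x ^ p) ⊔ Subgroup.zpowers u : Subgroup G) := by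
      by_contra hcon
      push Not at hcon
      have hle : p4Ker G p ≤ (Subgroup.zpowers (x ^ p) ⊔ Subgroup.zpowers u : Subgroup G) :=
        fun g hg => hcon g hg
      have := Subgroup.card_le_of_le hle
      rw [hΩ] at this
      omega
    have hvp : v ^ p = 1 := (p4Ker_mem_iff p v).mp hvΩ
    have hv1 : v ≠ 1 := fun h => hvY (h ▸ Subgroup.one_mem _)
    have hcv : Nat.card (Subgroup.zpowers v) = p := by
      rw [Nat.card_zpowers, orderOf_eq_prime hvp hv1]
    obtain ⟨eu⟩ := p4_cyclic_equiv (H := Subgroup.zpowers u) p hcu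
    obtain ⟨ev⟩ := p4_cyclic_equiv (H := Subgroup.zpowers v) p hcv
    let f : (Subgroup.zpowers x) × ((Subgroup.zpowers u) × (Subgroup.zpowers v)) →* G :=
      (Subgroup.zpowers x).subtype.coprod
        ((Subgroup.zpowers u).subtype.coprod (Subgroup.zpowers v).subtype)
    have hf : Function.Injective f := by
      rw [← MonoidHom.ker_eq_bot_iff, eq_bot_iff]
      rintro ⟨a, b, c⟩ habc
      rw [MonoidHom.mem_ker] at habc
      have habc' : (a : G) * ((b : G) * (c : G)) = 1 := habc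
      have hbp : (b : G) ^ p = 1 := p4_mem_zpowers_pow_eq_one hup b.2
      have hcp : (c : G) ^ p = 1 := p4_mem_zpowers_pow_eq_one hvp c.2
      have hap : (a : G) ^ p = 1 := by
        have h3 : (a : G) = ((b : G) * (c : G))⁻¹ := eq_inv_of_mul_eq_one_left habc'
        rw [h3, inv_pow, mul_pow, hbp, hcp, one_mul, inv_one]
      have haX : (a : G) ∈ Subgroup.zpowers (x ^ p) :=
        p4_mem_zpowers_pow_of_pow_eq_one p x a hox a.2 hap
      have hc1 : (c : G) = 1 := by
        by_contra hc1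
        apply hvY
        have h3 : (c : G) = ((a : G) * (b : G))⁻¹ := by
          rw [← mul_assoc] at habc'
          exact eq_inv_of_mul_eq_one_right habc'
        have h4 : (c : G) ∈ (Subgroup.zpowers (x ^ p) ⊔ Subgroup.zpowers u : Subgroup G) := by
          rw [h3]
          exact Subgroup.inv_mem _ (Subgroup.mul_mem_sup haX b.2)
        exact (Subgroup.zpowers_le.mpr h4) (p4_gen_of_ne_one p v c hvp c.2 hc1)
      rw [hc1, mul_one] at habc'
      have hb1 : (b : G) = 1 := by
        by_contra hb1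
        apply huX
        have h3 : (b : G) = (a : G)⁻¹ := eq_inv_of_mul_eq_one_right habc'
        have h4 : (b : G) ∈ Subgroup.zpowers (x ^ p) := by
          rw [h3]; exact Subgroup.inv_mem _ haX
        exact (Subgroup.zpowers_le.mpr h4) (p4_gen_of_ne_one p u b hup b.2 hb1)
      rw [hb1, mul_one] at habc'
      rw [Subgroup.mem_bot]
      exact Prod.ext (Subtype.ext habc') (Prod.ext (Subtype.ext hb1) (Subtype.ext hc1))
    have hcard : Nat.card ((Subgroup.zpowers x) × ((Subgroup.zpowers u) × (Subgroup.zpowers v)))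
        = Nat.card G := by
      rw [Nat.card_prod, Nat.card_prod, hcx, hcu, hcv, hG]; ring
    obtain ⟨e1⟩ := p4_equiv_of_injective_of_card f hf hcard
    exact ⟨e1.symm.trans ((MulEquiv.prodCongr ex.symm
      ((MulEquiv.prodCongr eu.symm ev.symm).trans (MulEquiv.prodMultiplicative _ _).symm)).trans
      (MulEquiv.prodMultiplicative _ _).symm)⟩

end

theorem p4_abelian_sq {G : Type*} [Group G] [Finite G] (p : ℕ) [Fact p.Prime]
    (hG : Nat.card G = p ^ 4) (hc : ∀ a b : G, a * b = b * a) (h2 : ∀ x : G, x ^ (p ^ 2) = 1)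
    (hx : ∃ x : G, x ^ p ≠ 1) :
    Nonempty (G ≃* Multiplicative (ZMod (p ^ 2) × ZMod p × ZMod p)) ∨
      Nonempty (G ≃* Multiplicative (ZMod (p ^ 2) × ZMod (p ^ 2))) := by
  letI : CommGroup G := { (inferInstance : Group G) with mul_comm := hc }
  exact p4_abelian_sq_comm p hG h2 hx

end Cfsg.Agent.Helper20
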