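import Mathlib

set_option autoImplicit false

namespace Cfsg.Agent.Helper20

/-- Piece AR of CALL S2358 (1/4). -/
theorem ree_factorization_cent {q p : ℕ} (hq3 : 3 ∣ q) (hq : 1 < q) (hp : p.Prime) (hp2 : p ≠ 2)
    (hpd : p ∣ q + 1) :
    (q * (q ^ 2 - 1)).factorization p = (q ^ 3 * (q - 1) * (q ^ 3 + 1)).factorization p := by
  obtain ⟨r, rfl⟩ : ∃ r, q = r + 1 := ⟨q - 1, by omega⟩
  have hr : 1 ≤ r := by omega
  have e1 : (r + 1) ^ 2 - 1 = r * (r + 2) := by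
    have : (r + 1) ^ 2 = r * (r + 2) + 1 := by ring
    omega
  have e2 : (r + 1) ^ 3 + 1 = (r + 2) * (r ^ 2 + r + 1) := by ring
  have e3 : r + 1 - 1 = r := by omega
  rw [e1, e2, e3]
  have hp1 : ¬ p ∣ r + 1 := by
    intro h
    have h1 : p ∣ (r + 1 + 1) - (r + 1) := Nat.dvd_sub hpd h
    have h2 : (r + 1 + 1) - (r + 1) = 1 := by omega
    rw [h2] at h1
    exact hp.one_lt.ne' (Nat.dvd_one.mp h1)
  have hp0 : ¬ p ∣ r := by
    intro h
    have h1 : p ∣ (r + 1 + 1) - r := Nat.dvd_sub hpd h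
    have h2 : (r + 1 + 1) - r = 2 := by omega
    rw [h2] at h1
    exact hp2 ((Nat.prime_dvd_prime_iff_eq hp Nat.prime_two).mp h1)
  have hp3 : p ≠ 3 := by
    rintro rfl
    exact hp1 hq3
  have hpN : ¬ p ∣ r ^ 2 + r + 1 := by
    intro h
    obtain ⟨s, rfl⟩ : ∃ s, r = s + 1 := ⟨r - 1, by omega⟩
    have h0 : (s + 1) ^ 2 + (s + 1) + 1 = (s + 1 + 1 + 1) * s + 3 := by ring
    rw [h0] at h
    have h1 : p ∣ 3 := (Nat.dvd_add_right (Dvd.dvd.mul_right hpd s)).mp h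
    exact hp3 ((Nat.prime_dvd_prime_iff_eq hp Nat.prime_three).mp h1)
  have hr0 : r ≠ 0 := by omega
  have hr1 : r + 1 ≠ 0 := by omega
  have hr2 : r + 2 ≠ 0 := by omega
  have hN0 : r ^ 2 + r + 1 ≠ 0 := by omega
  rw [Nat.factorization_mul hr1 (mul_ne_zero hr0 hr2), Nat.factorization_mul hr0 hr2,
    Nat.factorization_mul (mul_ne_zero (pow_ne_zero 3 hr1) hr0) (mul_ne_zero hr2 hN0),
    Nat.factorization_mul (pow_ne_zero 3 hr1) hr0, Nat.factorization_mul hr2 hN0,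
    Nat.factorization_pow]
  simp only [Finsupp.coe_add, Pi.add_apply, Finsupp.coe_smul, Pi.smul_apply, smul_eq_mul]
  rw [Nat.factorization_eq_zero_of_not_dvd hp1, Nat.factorization_eq_zero_of_not_dvd hp0,
    Nat.factorization_eq_zero_of_not_dvd hpN]
  simp

/-- Piece AR of CALL S2358 (2/4). -/
theorem ree_prime_cases {q p : ℕ} (hq : 1 < q) (hp : p.Prime) (hpq : ¬ p ∣ q)
    (hpG : p ∣ q ^ 3 * (q - 1) * (q ^ 3 + 1)) :
    p ∣ q - 1 ∨ p ∣ q + 1 ∨ p ∣ q ^ 2 - q + 1 := by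
  have hle : q ≤ q ^ 2 := by nlinarith
  have e2 : q ^ 3 + 1 = (q + 1) * (q ^ 2 - q + 1) := by
    obtain ⟨d, hd⟩ : ∃ d, q ^ 2 = q + d := ⟨q ^ 2 - q, by omega⟩
    have : q ^ 2 - q = d := by omega
    rw [this]
    have h3 : q ^ 3 = q * q ^ 2 := by ring
    rw [h3, hd]
    have : q * q = q + d := by rw [← hd]; ring
    nlinarith
  rw [e2] at hpG
  rcases (Nat.Prime.dvd_mul hp).mp hpG with h | h
  · rcases (Nat.Prime.dvd_mul hp).mp h with h' | h'
    · exact absurd (hp.dvd_of_dvd_pow h') hpq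
    · exact Or.inl h'
  · rcases (Nat.Prime.dvd_mul hp).mp h with h' | h'
    · exact Or.inr (Or.inl h')
    · exact Or.inr (Or.inr h')

/-- Piece AR of CALL S2358 (3/4). -/
theorem ree_six_coprime {q p : ℕ} (hq3 : 3 ∣ q) (hq : 1 < q) (hp : p.Prime)
    (hpd : p ∣ q ^ 2 - q + 1) :
    p ≠ 2 ∧ p ≠ 3 ∧ ¬ p ∣ q ∧ ¬ p ∣ q - 1 ∧ ¬ p ∣ q + 1 ∧
      (∀ k : ℕ, 0 < k → k < 6 → ¬ p ∣ q ^ k - 1) ∧ p ∣ q ^ 6 - 1 := by
  haveI : Fact p.Prime := ⟨hp⟩
  have hle : q ≤ q ^ 2 := by nlinarith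
  have hpow : ∀ k : ℕ, 1 ≤ q ^ k := fun k => Nat.one_le_pow _ _ (by omega)
  have hx : ((q : ZMod p)) ^ 2 - (q : ZMod p) + 1 = 0 := by
    have := (ZMod.natCast_eq_zero_iff (q ^ 2 - q + 1) p).mpr hpd
    rw [Nat.cast_add, Nat.cast_sub hle] at this
    push_cast at this
    exact this
  obtain ⟨x, hxdef⟩ : ∃ x : ZMod p, x = (q : ZMod p) := ⟨_, rfl⟩
  rw [← hxdef] at hx
  have castk : ∀ k : ℕ, p ∣ q ^ k - 1 ↔ x ^ k = 1 := by
    intro k
    rw [← ZMod.natCast_eq_zero_iff, Nat.cast_sub (hpow k)]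
    push_cast
    rw [← hxdef, sub_eq_zero]
  have cast1 : p ∣ q - 1 ↔ x = 1 := by
    have := castk 1
    rwa [pow_one, pow_one] at this
  have aux2 : ∀ y : ZMod 2, y ^ 2 - y + 1 ≠ 0 := by decide
  have hp2 : p ≠ 2 := by
    rintro rfl
    exact aux2 x hx
  have h2 : (2 : ZMod p) ≠ 0 := by
    intro h
    have : ((2 : ℕ) : ZMod p) = 0 := by exact_mod_cast h
    rw [ZMod.natCast_eq_zero_iff] at this
    exact hp2 ((Nat.prime_dvd_prime_iff_eq hp Nat.prime_two).mp this)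
  have hp3 : p ≠ 3 := by
    rintro rfl
    have h0 : x = 0 := by
      rw [hxdef]
      exact (ZMod.natCast_eq_zero_iff q 3).mpr hq3
    rw [h0] at hx
    simp at hx
  have h3 : (3 : ZMod p) ≠ 0 := by
    intro h
    have : ((3 : ℕ) : ZMod p) = 0 := by exact_mod_cast h
    rw [ZMod.natCast_eq_zero_iff] at this
    exact hp3 ((Nat.prime_dvd_prime_iff_eq hp Nat.prime_three).mp this)
  have hx0 : x ≠ 0 := by
    intro h0
    rw [h0] at hx
    simp at hx
  have hx1 : x ≠ 1 := by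
    intro h0
    rw [h0] at hx
    simp at hx
  have hxm1 : x ≠ -1 := by
    intro h0
    rw [h0] at hx
    apply h3
    linear_combination hx
  have hx3 : x ^ 3 = -1 := by linear_combination (x + 1) * hx
  refine ⟨hp2, hp3, ?_, ?_, ?_, ?_, ?_⟩
  · intro h
    apply hx0
    rw [hxdef]
    exact (ZMod.natCast_eq_zero_iff q p).mpr h
  · intro h
    exact hx1 (cast1.mp h)
  · intro h
    apply hxm1
    have := (ZMod.natCast_eq_zero_iff (q + 1) p).mpr h
    push_cast at this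
    rw [← hxdef] at this
    linear_combination this
  · intro k hk0 hk6 h
    rw [castk] at h
    interval_cases k
    · exact hx1 (by simpa using h)
    · -- x^2 = 1
      have : (x - 1) * (x + 1) = 0 := by linear_combination h
      rcases mul_eq_zero.mp this with h' | h'
      · exact hx1 (by linear_combination h')
      · exact hxm1 (by linear_combination h')
    · -- x^3 = 1 = -1
      apply h2
      linear_combination hx3 - h
    · -- x^4 = 1
      apply hxm1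
      linear_combination -h + x * hx3
    · -- x^5 = 1
      have hx2 : x ^ 2 = -1 := by linear_combination -h + x ^ 2 * hx3
      apply hx0
      linear_combination -hx + hx2
  · rw [castk]
    linear_combination (x ^ 3 - 1) * hx3

/-- Piece AR of CALL S2358 (4/4). -/
theorem ree_torus_prod (m : ℕ) :
    (3 ^ (2 * m + 1) - 3 ^ (m + 1) + 1) * (3 ^ (2 * m + 1) + 3 ^ (m + 1) + 1) =
      (3 ^ (2 * m + 1)) ^ 2 - 3 ^ (2 * m + 1) + 1 := by
  have h1 : 3 ^ (m + 1) ≤ 3 ^ (2 * m + 1) := Nat.pow_le_pow_right (by norm_num) (by omega)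
  have h2 : 3 ^ (2 * m + 1) ≤ (3 ^ (2 * m + 1)) ^ 2 := by
    have : 1 ≤ 3 ^ (2 * m + 1) := Nat.one_le_pow _ _ (by norm_num)
    nlinarith
  have e1 : (3 : ℤ) ^ (2 * m + 1) = 3 * (3 ^ m) ^ 2 := by ring
  have e2 : (3 : ℤ) ^ (m + 1) = 3 * 3 ^ m := by ring
  zify [h1, h2]
  rw [e1, e2]
  ring

end Cfsg.Agent.Helper20
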