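import Mathlib

set_option autoImplicit false

namespace Cfsg.Agent.Helper20

/-- Piece BLK of CALL S2358: the diagonal block of a block-triangular matrix group is a
group homomorphism. -/
theorem exists_block_hom {ι κ R : Type*} [Fintype ι] [DecidableEq ι] [Fintype κ] [DecidableEq κ]
    [CommRing R] (e : κ → ι) (he : Function.Injective e) (S : Subgroup (GL ι R))
    (hS : ∀ g ∈ S, ∀ (c : κ) (r : ι), r ∉ Set.range e → (g : Matrix ι ι R) r (e c) = 0) :
    ∃ φ : S →* GL κ R, ∀ (g : S) (i j : κ),
      (φ g : Matrix κ κ R) i j = ((g : GL ι R) : Matrix ι ι R) (e i) (e j) := by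
  classical
  have key : ∀ g h : S, (((g * h : S) : GL ι R) : Matrix ι ι R).submatrix e e =
      (((g : GL ι R) : Matrix ι ι R).submatrix e e) * (((h : GL ι R) : Matrix ι ι R).submatrix e e) := by
    intro g h
    ext i j
    simp only [Matrix.submatrix_apply, Matrix.mul_apply, Subgroup.coe_mul, Units.val_mul]
    have h1 : ∑ k : ι, ((g : GL ι R) : Matrix ι ι R) (e i) k * ((h : GL ι R) : Matrix ι ι R) k (e j)
        = ∑ k ∈ (Finset.univ : Finset κ).image e,
          ((g : GL ι R) : Matrix ι ι R) (e i) k * ((h : GL ι R) : Matrix ι ι R) k (e j) := by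
      symm
      apply Finset.sum_subset (Finset.subset_univ _)
      intro k _ hk
      have hk' : k ∉ Set.range e := by
        intro ⟨c, hc⟩
        exact hk (Finset.mem_image.mpr ⟨c, Finset.mem_univ _, hc⟩)
      rw [hS h h.2 j k hk', mul_zero]
    rw [h1, Finset.sum_image (fun x _ y _ hxy => he hxy)]
  let f : S →* Matrix κ κ R :=
    { toFun := fun g => (((g : GL ι R) : Matrix ι ι R)).submatrix e e
      map_one' := by
        simp only [Subgroup.coe_one, Units.val_one]
        exact Matrix.submatrix_one e he
      map_mul' := key }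
  refine ⟨f.toHomUnits, ?_⟩
  intro g i j
  rw [MonoidHom.coe_toHomUnits]
  rfl

end Cfsg.Agent.Helper20
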