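import Mathlib
import Cfsg.Agent.Helper94.S43Defs

/-!
# CALL S43, piece PK (core): an element of `M` of shape `PSh` is a Kronecker product.
The pieces LV, PSHa, HEL, QSC, QK enter as explicit hypotheses.
-/

set_option autoImplicit false
set_option linter.unusedSimpArgs false

namespace Cfsg.Agent.Helper20.S43PK

open Matrix Cfsg.Agent.Helper71.T4 Cfsg.Agent.Helper94.S43
open Cfsg.Agent.Helper71.SO (bl ruw Nuw)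
open scoped Kronecker

variable {F : Type*} [Field F]

theorem pk_mid4_mul_inv (θ : Matrix (Fin 2) (Fin 2) F) (hθ : θ.det = 1) :
    mid4 θ * mid4 !![θ 1 1, -θ 0 1; -θ 1 0, θ 0 0] = 1 := by
  rw [Matrix.det_fin_two] at hθ
  ext i j
  fin_cases i <;> fin_cases j <;>
    simp [mid4, Matrix.mul_apply, Fin.sum_univ_four, Matrix.one_apply] <;>
    first | ring1 | linear_combination hθ

theorem pk_det_inv (θ : Matrix (Fin 2) (Fin 2) F) (hθ : θ.det = 1) :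
    (!![θ 1 1, -θ 0 1; -θ 1 0, θ 0 0] : Matrix (Fin 2) (Fin 2) F).det = 1 := by
  rw [Matrix.det_fin_two] at hθ ⊢
  simp
  linear_combination hθ

theorem pk_bk0 (θ : Matrix (Fin 2) (Fin 2) F)
    (R : Matrix (Fin 4 × Fin 3) (Fin 4 × Fin 3) F) (j : Fin 4) :
    bk ((mid4 θ ⊗ₖ (1 : Matrix (Fin 3) (Fin 3) F)) * R) 0 j = bk R 0 j := by
  rw [bk_mul, Fin.sum_univ_four]
  simp [bk_kron, mid4]

theorem pk_bk3 (θ : Matrix (Fin 2) (Fin 2) F)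
    (R : Matrix (Fin 4 × Fin 3) (Fin 4 × Fin 3) F) (j : Fin 4) :
    bk ((mid4 θ ⊗ₖ (1 : Matrix (Fin 3) (Fin 3) F)) * R) 3 j = bk R 3 j := by
  rw [bk_mul, Fin.sum_univ_four]
  simp [bk_kron, mid4]

theorem pk_bk1 (θ : Matrix (Fin 2) (Fin 2) F)
    (R : Matrix (Fin 4 × Fin 3) (Fin 4 × Fin 3) F) (j : Fin 4) :
    bk ((mid4 θ ⊗ₖ (1 : Matrix (Fin 3) (Fin 3) F)) * R) 1 j
      = θ 0 0 • bk R 1 j + θ 0 1 • bk R 2 j := by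
  rw [bk_mul, Fin.sum_univ_four]
  simp [bk_kron, mid4]

theorem pk_bk2 (θ : Matrix (Fin 2) (Fin 2) F)
    (R : Matrix (Fin 4 × Fin 3) (Fin 4 × Fin 3) F) (j : Fin 4) :
    bk ((mid4 θ ⊗ₖ (1 : Matrix (Fin 3) (Fin 3) F)) * R) 2 j
      = θ 1 0 • bk R 1 j + θ 1 1 • bk R 2 j := by
  rw [bk_mul, Fin.sum_univ_four]
  simp [bk_kron, mid4]

/-- PK with the other pieces as hypotheses. -/
theorem psh_kron_core (S : Matrix (Fin 3) (Fin 3) F) (M : Subgroup (GL (Fin 4 × Fin 3) F))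
    (hSp : SpLE4 S M)
    (hLV : ∀ ρ : GL (Fin 4 × Fin 3) F, ρ ∈ M →
      PSh (ρ : Matrix (Fin 4 × Fin 3) (Fin 4 × Fin 3) F) →
      ∃ θ : Matrix (Fin 2) (Fin 2) F,
        bk (ρ : Matrix (Fin 4 × Fin 3) (Fin 4 × Fin 3) F) 1 1 = θ 0 0 • 1 ∧
        bk (ρ : Matrix (Fin 4 × Fin 3) (Fin 4 × Fin 3) F) 1 2 = θ 0 1 • 1 ∧
        bk (ρ : Matrix (Fin 4 × Fin 3) (Fin 4 × Fin 3) F) 2 1 = θ 1 0 • 1 ∧
        bk (ρ : Matrix (Fin 4 × Fin 3) (Fin 4 × Fin 3) F) 2 2 = θ 1 1 • 1)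
    (hdetθ : ∀ ρ : Matrix (Fin 4 × Fin 3) (Fin 4 × Fin 3) F, IsSp4 S ρ → PSh ρ →
      ∀ θ : Matrix (Fin 2) (Fin 2) F, bk ρ 1 1 = θ 0 0 • 1 → bk ρ 1 2 = θ 0 1 • 1 →
        bk ρ 2 1 = θ 1 0 • 1 → bk ρ 2 2 = θ 1 1 • 1 → θ.det = 1)
    (hmid : ∀ θ : Matrix (Fin 2) (Fin 2) F, θ.det = 1 →
      InM M (mid4 θ ⊗ₖ (1 : Matrix (Fin 3) (Fin 3) F)))
    (hqm : ∀ ρ : Matrix (Fin 4 × Fin 3) (Fin 4 × Fin 3) F, PSh ρ → bk ρ 1 1 = 1 →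
      bk ρ 1 2 = 0 → bk ρ 2 1 = 0 → bk ρ 2 2 = 1 →
      ρ = qmat (bk ρ 0 1) (bk ρ 0 2) (bk ρ 0 3) (bk ρ 1 3) (bk ρ 2 3))
    (hqs : ∀ X₁ X₂ Z Y₁ Y₂ : Matrix (Fin 3) (Fin 3) F, InM M (qmat X₁ X₂ Z Y₁ Y₂) →
      ∃ x₁ x₂ : F, X₁ = x₁ • (1 : Matrix (Fin 3) (Fin 3) F) ∧ X₂ = x₂ • 1 ∧ Y₁ = x₂ • 1 ∧
        Y₂ = -x₁ • 1)
    (hqk : ∀ (x₁ x₂ : F) (Z : Matrix (Fin 3) (Fin 3) F),
      InM M (qmat (x₁ • 1) (x₂ • 1) Z (x₂ • 1) (-x₁ • 1)) →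
      IsKron (qmat (x₁ • 1) (x₂ • 1) Z (x₂ • 1) (-x₁ • 1)))
    (ρ : GL (Fin 4 × Fin 3) F) (hρ : ρ ∈ M)
    (hP : PSh (ρ : Matrix (Fin 4 × Fin 3) (Fin 4 × Fin 3) F)) :
    IsKron (ρ : Matrix (Fin 4 × Fin 3) (Fin 4 × Fin 3) F) := by
  obtain ⟨R, hR⟩ : ∃ R : Matrix (Fin 4 × Fin 3) (Fin 4 × Fin 3) F,
      R = (ρ : Matrix (Fin 4 × Fin 3) (Fin 4 × Fin 3) F) := ⟨_, rfl⟩
  rw [← hR] at hP ⊢
  have hRM : InM M R := by rw [hR]; exact inM_of_mem hρ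
  have hsp : IsSp4 S R := by rw [hR]; exact hSp ρ hρ
  obtain ⟨θ, h11, h12, h21, h22⟩ : ∃ θ : Matrix (Fin 2) (Fin 2) F,
      bk R 1 1 = θ 0 0 • 1 ∧ bk R 1 2 = θ 0 1 • 1 ∧ bk R 2 1 = θ 1 0 • 1 ∧
        bk R 2 2 = θ 1 1 • 1 := by
    rw [hR]; exact hLV ρ hρ (hR ▸ hP)
  have hθ : θ.det = 1 := hdetθ R hsp hP θ h11 h12 h21 h22
  have hθ2 := hθ
  rw [Matrix.det_fin_two] at hθ2
  obtain ⟨θ', hθ'⟩ : ∃ θ' : Matrix (Fin 2) (Fin 2) F,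
      θ' = !![θ 1 1, -θ 0 1; -θ 1 0, θ 0 0] := ⟨_, rfl⟩
  have hθ'det : θ'.det = 1 := by rw [hθ']; exact pk_det_inv θ hθ
  have hmm : mid4 θ * mid4 θ' = 1 := by rw [hθ']; exact pk_mid4_mul_inv θ hθ
  have e00 : θ' 0 0 = θ 1 1 := by rw [hθ']; rfl
  have e01 : θ' 0 1 = -θ 0 1 := by rw [hθ']; rfl
  have e10 : θ' 1 0 = -θ 1 0 := by rw [hθ']; rfl
  have e11 : θ' 1 1 = θ 0 0 := by rw [hθ']; rfl
  obtain ⟨hp00, hp33, hp10, hp20, hp30, hp31, hp32⟩ := hP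
  -- the corrected element
  have hM2 : InM M ((mid4 θ' ⊗ₖ (1 : Matrix (Fin 3) (Fin 3) F)) * R) :=
    InM.mul (hmid θ' hθ'det) hRM
  have hP2 : PSh ((mid4 θ' ⊗ₖ (1 : Matrix (Fin 3) (Fin 3) F)) * R) := by
    refine ⟨?_, ?_, ?_, ?_, ?_, ?_, ?_⟩
    · rw [pk_bk0, hp00]
    · rw [pk_bk3, hp33]
    · rw [pk_bk1, hp10, hp20, smul_zero, smul_zero, add_zero]
    · rw [pk_bk2, hp10, hp20, smul_zero, smul_zero, add_zero]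
    · rw [pk_bk3, hp30]
    · rw [pk_bk3, hp31]
    · rw [pk_bk3, hp32]
  have k11 : bk ((mid4 θ' ⊗ₖ (1 : Matrix (Fin 3) (Fin 3) F)) * R) 1 1 = 1 := by
    rw [pk_bk1, h11, h21, e00, e01, smul_smul, smul_smul, ← add_smul]
    have : θ 1 1 * θ 0 0 + -θ 0 1 * θ 1 0 = 1 := by linear_combination hθ2
    rw [this, one_smul]
  have k12 : bk ((mid4 θ' ⊗ₖ (1 : Matrix (Fin 3) (Fin 3) F)) * R) 1 2 = 0 := by
    rw [pk_bk1, h12, h22, e00, e01, smul_smul, smul_smul, ← add_smul]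
    have : θ 1 1 * θ 0 1 + -θ 0 1 * θ 1 1 = 0 := by ring
    rw [this, zero_smul]
  have k21 : bk ((mid4 θ' ⊗ₖ (1 : Matrix (Fin 3) (Fin 3) F)) * R) 2 1 = 0 := by
    rw [pk_bk2, h11, h21, e10, e11, smul_smul, smul_smul, ← add_smul]
    have : -θ 1 0 * θ 0 0 + θ 0 0 * θ 1 0 = 0 := by ring
    rw [this, zero_smul]
  have k22 : bk ((mid4 θ' ⊗ₖ (1 : Matrix (Fin 3) (Fin 3) F)) * R) 2 2 = 1 := by
    rw [pk_bk2, h12, h22, e10, e11, smul_smul, smul_smul, ← add_smul]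
    have : -θ 1 0 * θ 0 1 + θ 0 0 * θ 1 1 = 1 := by linear_combination hθ2
    rw [this, one_smul]
  have hq := hqm _ hP2 k11 k12 k21 k22
  obtain ⟨R2, hR2⟩ : ∃ R2 : Matrix (Fin 4 × Fin 3) (Fin 4 × Fin 3) F,
      R2 = (mid4 θ' ⊗ₖ (1 : Matrix (Fin 3) (Fin 3) F)) * R := ⟨_, rfl⟩
  rw [← hR2] at hq hM2
  have hM2' := hM2
  rw [hq] at hM2'
  obtain ⟨x₁, x₂, hX₁, hX₂, hY₁, hY₂⟩ := hqs _ _ _ _ _ hM2'
  rw [hX₁, hX₂, hY₁, hY₂] at hM2' hq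
  obtain ⟨A, B, hAB⟩ := hqk x₁ x₂ _ hM2'
  rw [← hq] at hAB
  -- R = (mid4 θ ⊗ 1) * R2
  refine ⟨mid4 θ * A, B, ?_⟩
  have hRR : R = (mid4 θ ⊗ₖ (1 : Matrix (Fin 3) (Fin 3) F)) * R2 := by
    rw [hR2, ← Matrix.mul_assoc, ← Matrix.mul_kronecker_mul, hmm, Matrix.one_mul,
      Matrix.one_kronecker_one, Matrix.one_mul]
  rw [hRR, hAB, ← Matrix.mul_kronecker_mul, Matrix.one_mul]

end Cfsg.Agent.Helper20.S43PK
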