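import Mathlib
import Cfsg.Agent.Helper94.S43Defs
import Cfsg.Agent.Helper80.S43HEL
import Cfsg.Agent.Helper76.S43QALG

/-!
# CALL S43, piece QK (`q_kron`): a `qmat` in `M` with scalar blocks is a Kronecker product.
-/

set_option autoImplicit false

namespace Cfsg.Agent.Helper20.S43QK

open Matrix Cfsg.Agent.Helper71.T4 Cfsg.Agent.Helper94.S43
open Cfsg.Agent.Helper71.SO (bl ruw Nuw)
open scoped Kronecker

variable {F : Type*} [Field F]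

theorem q_kron (S : Matrix (Fin 3) (Fin 3) F) (M : Subgroup (GL (Fin 4 × Fin 3) F))
    (hH : HasH4 S M) (hNS : NSX4 M) (x₁ x₂ : F) (Z : Matrix (Fin 3) (Fin 3) F)
    (h : InM M (qmat (x₁ • 1) (x₂ • 1) Z (x₂ • 1) (-x₁ • 1))) :
    IsKron (qmat (x₁ • 1) (x₂ • 1) Z (x₂ • 1) (-x₁ • 1)) := by
  have hσ : InM M (uq4 (-x₁) (-x₂) 0 ⊗ₖ (1 : Matrix (Fin 3) (Fin 3) F)) :=
    Cfsg.Agent.Helper80.S43HEL.hasH_kron_one S M hH _
      (Cfsg.Agent.Helper80.S43HEL.uq4_sp (-x₁) (-x₂) 0)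
  rw [Cfsg.Agent.Helper80.S43HEL.uq4_kron] at hσ
  have hprod := InM.mul hσ h
  rw [Cfsg.Agent.Helper76.S43QALG.qmat_mul] at hprod
  have e1 : (-x₁) • (1 : Matrix (Fin 3) (Fin 3) F) + x₁ • 1 = 0 := by
    rw [← add_smul, neg_add_cancel, zero_smul]
  have e2 : (-x₂) • (1 : Matrix (Fin 3) (Fin 3) F) + x₂ • 1 = 0 := by
    rw [← add_smul, neg_add_cancel, zero_smul]
  have e3 : (- -x₁) • (1 : Matrix (Fin 3) (Fin 3) F) + (-x₁) • 1 = 0 := by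
    rw [← add_smul, neg_neg, add_neg_cancel, zero_smul]
  have e4 : (0 : F) • (1 : Matrix (Fin 3) (Fin 3) F) + Z
      + (-x₁) • (1 : Matrix (Fin 3) (Fin 3) F) * x₂ • (1 : Matrix (Fin 3) (Fin 3) F)
      + (-x₂) • (1 : Matrix (Fin 3) (Fin 3) F) * (-x₁) • (1 : Matrix (Fin 3) (Fin 3) F) = Z := by
    simp only [Matrix.smul_mul, Matrix.mul_smul, Matrix.one_mul, smul_smul]
    module
  rw [e1, e2, e3, e4, qmat_X4] at hprod
  obtain ⟨z, hz⟩ := hNS Z hprod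
  rw [hz]
  exact ⟨uq4 x₁ x₂ z, 1, (Cfsg.Agent.Helper80.S43HEL.uq4_kron x₁ x₂ z).symm⟩

end Cfsg.Agent.Helper20.S43QK
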