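/-
helper20: CALL SL2L (helper2, for row S1383) piece G5 `sl2l_line_gen` (double).
-/
import Mathlib

set_option autoImplicit false

namespace Cfsg.Agent.Helper20

open Subgroup

open scoped Pointwise

universe u

variable {Γ : Type u} [Group Γ] [Finite Γ]

/-- PIECE G5 -/
theorem sl2l_line_gen {p : ℕ} (hp : p.Prime) {Z L : Subgroup Γ} (hZL : Z ≤ L)
    (hZc : Nat.card Z = p) (hLc : Nat.card L = p ^ 2)
    (hZcen : ∀ z ∈ Z, ∀ a ∈ L, z * a = a * z) {d : Γ} (hd : d ∈ L) (hdZ : d ∉ Z) {b : Γ}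
    (hb : b ∈ L) : ∃ (i : ℕ) (z : Γ), z ∈ Z ∧ b = d ^ i * z := by
  have hdc : zpowers d ≤ centralizer (Z : Set Γ) := by
    rw [Subgroup.zpowers_le]
    rw [mem_centralizer_iff]
    intro z hz
    exact hZcen z hz d hd
  have hdn : zpowers d ≤ normalizer (Z : Set Γ) :=
    hdc.trans (Subgroup.centralizer_le_normalizer (Z : Set Γ))
  have hHL : zpowers d ⊔ Z ≤ L := sup_le (by rw [Subgroup.zpowers_le]; exact hd) hZL
  have hZH : Z ≤ zpowers d ⊔ Z := le_sup_right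
  have h1 : Nat.card ↥(zpowers d ⊔ Z) ∣ p ^ 2 := hLc ▸ Subgroup.card_dvd_of_le hHL
  have h2 : p ∣ Nat.card ↥(zpowers d ⊔ Z) := hZc ▸ Subgroup.card_dvd_of_le hZH
  obtain ⟨j, hj, hcard⟩ := (Nat.dvd_prime_pow hp).mp h1
  have hj2 : j = 2 := by
    have hj0 : j ≠ 0 := by
      intro h0
      rw [hcard, h0, pow_zero] at h2
      exact hp.one_lt.ne' (Nat.dvd_one.mp h2)
    have hj1 : j ≠ 1 := by
      intro h1'
      rw [h1', pow_one] at hcard
      have hZeq : Z = zpowers d ⊔ Z :=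
        Subgroup.eq_of_le_of_card_ge hZH (by rw [hcard, hZc])
      apply hdZ
      rw [hZeq]
      exact Subgroup.mem_sup_left (Subgroup.mem_zpowers d)
    omega
  have hHeq : zpowers d ⊔ Z = L :=
    Subgroup.eq_of_le_of_card_ge hHL (by rw [hcard, hj2, hLc])
  have hset : ((zpowers d ⊔ Z : Subgroup Γ) : Set Γ) = (zpowers d : Set Γ) * (Z : Set Γ) :=
    Subgroup.coe_mul_of_left_le_normalizer_right (zpowers d) Z hdn
  have hbH : b ∈ ((zpowers d ⊔ Z : Subgroup Γ) : Set Γ) := by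
    rw [hHeq]
    exact hb
  rw [hset] at hbH
  obtain ⟨x, hx, z, hz, rfl⟩ := Set.mem_mul.mp hbH
  have hx' : x ∈ Submonoid.powers d := mem_powers_iff_mem_zpowers.mpr hx
  obtain ⟨i, rfl⟩ := hx'
  exact ⟨i, z, hz, rfl⟩

end Cfsg.Agent.Helper20
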