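import Mathlib
import Cfsg.Agent.Helper21.SMDefs

/-!
# S2086, piece TC3 (torus / Weyl elements acting on elementary matrices of SL_n).
-/

set_option autoImplicit false

namespace Cfsg.Agent.Helper20.SMTC3

open Cfsg.Agent.Helper83 Cfsg.Agent.Helper21.SP Cfsg.Agent.Helper21.SM

variable {F : Type*} [Field F] {n : ℕ} {E : Type*} [Group E] {G : Type*} [Group G]

theorem conj_mul_aux (g1 g2 x : G) : g1 * g2 * x * (g1 * g2)⁻¹ = g1 * (g2 * x * g2⁻¹) * g1⁻¹ := by
  group

/-- PIECE TC3: torus element for two elementary matrices in the same column (`n = 3`). -/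
theorem sm_tc3 [Finite F] {i j k : Fin 3} (hij : i ≠ j) (hik : i ≠ k) (hkj : k ≠ j) (c : F)
    (hc : c ≠ 0) : ∃ g : Matrix.SpecialLinearGroup (Fin 3) F,
      (∀ t : F, g * tv i j t * g⁻¹ = tv i j (c ^ 3 * t)) ∧ ∀ u : F, g * tv k j u * g⁻¹ = tv k j u := by
  have hn : 3 ≤ 3 := le_refl 3
  refine ⟨hh i j c * hh i k c, fun t => ?_, fun u => ?_⟩
  · rw [conj_mul_aux, tor_ik hn hik hij hkj hc, tor_ij hn hij hc]
    congr 1; ring
  · rw [conj_mul_aux, tor_jk hn hik hij hkj hc, tor_kj hn hij hik hkj.symm hc]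
    congr 1
    rw [← mul_assoc, mul_inv_cancel₀ hc, one_mul]

end Cfsg.Agent.Helper20.SMTC3
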