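import Mathlib
import Cfsg.Agent.Helper21.SMDefs

/-!
# S2086, piece TD4 (torus / Weyl elements acting on elementary matrices of SL_n).
-/

set_option autoImplicit false

namespace Cfsg.Agent.Helper20.SMTD4

open Cfsg.Agent.Helper83 Cfsg.Agent.Helper21.SP Cfsg.Agent.Helper21.SM

variable {F : Type*} [Field F] {n : ℕ} {E : Type*} [Group E] {G : Type*} [Group G]

theorem conj_mul_aux (g1 g2 x : G) : g1 * g2 * x * (g1 * g2)⁻¹ = g1 * (g2 * x * g2⁻¹) * g1⁻¹ := by
  group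

/-- PIECE TD4: torus element for two disjoint elementary matrices. -/
theorem sm_td4 [Finite F] (hn : 3 ≤ n) {i j k l : Fin n} (hij : i ≠ j) (hkl : k ≠ l) (hki : k ≠ i)
    (hkj : k ≠ j) (hli : l ≠ i) (hlj : l ≠ j) (c : F) (hc : c ≠ 0) :
    ∃ g : Matrix.SpecialLinearGroup (Fin n) F,
      (∀ t : F, g * tv i j t * g⁻¹ = tv i j (c ^ 2 * t)) ∧ ∀ u : F, g * tv k l u * g⁻¹ = tv k l u := by
  refine ⟨hh i j c, fun t => tor_ij hn hij hc t, fun u => ?_⟩
  rw [tor_kl hn hij hkl hki hkj hli hlj c u, mul_inv_cancel_right]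

end Cfsg.Agent.Helper20.SMTD4
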