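import Mathlib
import Cfsg.Agent.Helper21.SMDefs

/-!
# S2086, piece TR3 (torus / Weyl elements acting on elementary matrices of SL_n).
-/

set_option autoImplicit false

namespace Cfsg.Agent.Helper20.SMTR3

open Cfsg.Agent.Helper83 Cfsg.Agent.Helper21.SP Cfsg.Agent.Helper21.SM

variable {F : Type*} [Field F] {n : ℕ} {E : Type*} [Group E] {G : Type*} [Group G]

theorem conj_mul_aux (g1 g2 x : G) : g1 * g2 * x * (g1 * g2)⁻¹ = g1 * (g2 * x * g2⁻¹) * g1⁻¹ := by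
  group

/-- PIECE TR3: torus element fixing `x_ij` and scaling `x_jl` by `c^3` (`n = 3`). -/
theorem sm_tr3 [Finite F] {i j l : Fin 3} (hij : i ≠ j) (hil : i ≠ l) (hjl : j ≠ l) (c : F)
    (hc : c ≠ 0) : ∃ g : Matrix.SpecialLinearGroup (Fin 3) F,
      (∀ t : F, g * tv i j t * g⁻¹ = tv i j t) ∧ ∀ u : F, g * tv j l u * g⁻¹ = tv j l (c ^ 3 * u) := by
  have hn : 3 ≤ 3 := le_refl 3
  have hc2 : c ^ 2 ≠ 0 := pow_ne_zero 2 hc
  refine ⟨hh i j c * hh j l (c ^ 2), fun t => ?_, fun u => ?_⟩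
  · rw [conj_mul_aux, tor_ki hn hjl hij.symm hil.symm hc2, tor_ij hn hij hc]
    congr 1
    rw [← mul_assoc, mul_inv_cancel₀ hc2, one_mul]
  · rw [conj_mul_aux, tor_ij hn hjl hc2, tor_jk hn hij hil hjl hc]
    congr 1
    field_simp

end Cfsg.Agent.Helper20.SMTR3
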