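import Mathlib
import Cfsg.Agent.Helper44.SPUDefs

set_option autoImplicit false
open Classical

namespace Cfsg.Agent.Helper20.SPURAD

open Matrix Cfsg.Agent.Helper44.SPU

variable {F : Type*} [Field F] [Fintype F] {m : ℕ}

theorem spu_rad (p : ℕ) [Fact p.Prime] [CharP F p] (g : Matrix.symplecticGroup (Fin m) F)
    (hg : ∃ k : ℕ, orderOf g = p ^ k) (hg1 : g ≠ 1) :
    ∃ r : Fin m ⊕ Fin m → F, r ≠ 0 ∧
      (g : Matrix (Fin m ⊕ Fin m) (Fin m ⊕ Fin m) F) *ᵥ r = r ∧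
      ∀ y : Fin m ⊕ Fin m → F,
        (g : Matrix (Fin m ⊕ Fin m) (Fin m ⊕ Fin m) F) *ᵥ y = y → Cfsg.sympForm m F r y = 0 := by
  obtain ⟨k, hk⟩ := hg
  obtain ⟨A, hA⟩ : ∃ A : Matrix (Fin m ⊕ Fin m) (Fin m ⊕ Fin m) F, A = (g : Matrix _ _ F) :=
    ⟨_, rfl⟩
  rw [← hA]
  have hm : Nonempty (Fin m ⊕ Fin m) := by
    by_contra hne
    rw [not_nonempty_iff] at hne
    apply hg1
    apply Subtype.ext
    exact Subsingleton.elim _ _
  have hApow : A ^ (p ^ k) = 1 := by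
    have h1 : g ^ (p ^ k) = 1 := by rw [← hk]; exact pow_orderOf_eq_one g
    have h2 := congrArg (fun x : Matrix.symplecticGroup (Fin m) F =>
      (x : Matrix (Fin m ⊕ Fin m) (Fin m ⊕ Fin m) F)) h1
    rw [hA]
    simpa using h2
  have hcp : CharP (Matrix (Fin m ⊕ Fin m) (Fin m ⊕ Fin m) F) p := Matrix.charP p
  have hN : (A - 1) ^ (p ^ k) = 0 := by
    rw [sub_pow_char_pow_of_commute _ _ (Commute.one_right A), hApow, one_pow, sub_self]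
  have hN1 : A - 1 ≠ 0 := by
    intro h
    apply hg1
    apply Subtype.ext
    rw [← hA]
    exact sub_eq_zero.mp h
  obtain ⟨x, hx⟩ : ∃ x, (A - 1) *ᵥ x ≠ 0 := by
    by_contra hall
    apply hN1
    ext i j
    have h3 : (A - 1) *ᵥ (Pi.single j 1) = 0 := by
      by_contra h4
      exact hall ⟨_, h4⟩
    have h5 := congrFun h3 i
    simpa using h5
  have hex : ∃ n, ((A - 1) ^ n) *ᵥ x = 0 := ⟨p ^ k, by rw [hN, Matrix.zero_mulVec]⟩
  have hn0 : ((A - 1) ^ (Nat.find hex)) *ᵥ x = 0 := Nat.find_spec hex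
  have hmin : ∀ j, j < Nat.find hex → ((A - 1) ^ j) *ᵥ x ≠ 0 := fun j hj => Nat.find_min hex hj
  obtain ⟨n, hn⟩ : ∃ n, n = Nat.find hex := ⟨_, rfl⟩
  rw [← hn] at hn0 hmin
  have hn2 : 2 ≤ n := by
    by_contra hlt
    have hlt' : n = 0 ∨ n = 1 := by omega
    rcases hlt' with h0 | h1
    · rw [h0, pow_zero, Matrix.one_mulVec] at hn0
      rw [hn0, Matrix.mulVec_zero] at hx
      exact hx rfl
    · rw [h1, pow_one] at hn0
      exact hx hn0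
  obtain ⟨j, rfl⟩ : ∃ j, n = j + 2 := ⟨n - 2, by omega⟩
  have hr0 : ((A - 1) ^ (j + 1)) *ᵥ x ≠ 0 := hmin (j + 1) (by omega)
  have hrz : ((A - 1) ^ (j + 1)) *ᵥ x = (A - 1) *ᵥ (((A - 1) ^ j) *ᵥ x) := by
    rw [Matrix.mulVec_mulVec, ← pow_succ']
  have hNr : (A - 1) *ᵥ (((A - 1) ^ (j + 1)) *ᵥ x) = 0 := by
    rw [Matrix.mulVec_mulVec, ← pow_succ']
    exact hn0
  have hAr : A *ᵥ (((A - 1) ^ (j + 1)) *ᵥ x) = ((A - 1) ^ (j + 1)) *ᵥ x := by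
    rw [Matrix.sub_mulVec, Matrix.one_mulVec] at hNr
    exact sub_eq_zero.mp hNr
  refine ⟨((A - 1) ^ (j + 1)) *ᵥ x, hr0, hAr, ?_⟩
  intro y hy
  have hinv := (Cfsg.Agent.Helper13.mem_symplecticGroup_iff_sympForm A).mp (by rw [hA]; exact g.2)
  rw [hrz, Matrix.sub_mulVec, Matrix.one_mulVec, Cfsg.Agent.Helper13.sympForm_sub_left]
  have h6 := hinv (((A - 1) ^ j) *ᵥ x) y
  rw [hy] at h6
  rw [h6, sub_self]

end Cfsg.Agent.Helper20.SPURAD
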