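import Mathlib
import Cfsg.Agent.Helper71.SQDefs

/-!
# S5867, piece ZB2 (`levi_lift`): an element `k` acting "block-diagonally" on the flag
`a ⊗ F^n ⊂ a^⊥ ⊗ F^n` is a Kronecker product `A ⊗ B` times an element of the radical `Q_a`.
-/

set_option autoImplicit false
set_option linter.unusedVariables false
set_option linter.unusedSimpArgs false

namespace Cfsg.Agent.Helper20.SQZB2

open Matrix Cfsg.Agent.Helper71.T4 Cfsg.Agent.Helper71.SO Cfsg.Agent.Helper71.SQ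
open scoped Kronecker

variable {F : Type*} [Field F] {m n : ℕ}

theorem zb_bl_add_left (G : Matrix (Fin n) (Fin n) F) (x x' y : Fin n → F) :
    bl G (x + x') y = bl G x y + bl G x' y := by
  unfold bl; rw [add_dotProduct]

theorem zb_bl_sub_left (G : Matrix (Fin n) (Fin n) F) (x x' y : Fin n → F) :
    bl G (x - x') y = bl G x y - bl G x' y := by
  unfold bl; rw [sub_dotProduct]

theorem zb_bl_smul_left (G : Matrix (Fin n) (Fin n) F) (c : F) (x y : Fin n → F) :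
    bl G (c • x) y = c * bl G x y := by
  unfold bl; rw [smul_dotProduct, smul_eq_mul]

theorem zb_bl_add_right (G : Matrix (Fin n) (Fin n) F) (x y y' : Fin n → F) :
    bl G x (y + y') = bl G x y + bl G x y' := by
  unfold bl; rw [Matrix.mulVec_add, dotProduct_add]

theorem zb_bl_sub_right (G : Matrix (Fin n) (Fin n) F) (x y y' : Fin n → F) :
    bl G x (y - y') = bl G x y - bl G x y' := by
  unfold bl; rw [Matrix.mulVec_sub, dotProduct_sub]

theorem zb_bl_smul_right (G : Matrix (Fin n) (Fin n) F) (c : F) (x y : Fin n → F) :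
    bl G x (c • y) = c * bl G x y := by
  unfold bl; rw [Matrix.mulVec_smul, dotProduct_smul, smul_eq_mul]

theorem zb_bl_zero_left (G : Matrix (Fin n) (Fin n) F) (y : Fin n → F) : bl G 0 y = 0 := by
  unfold bl; rw [zero_dotProduct]

theorem zb_bl_conj (G A : Matrix (Fin n) (Fin n) F) (x y : Fin n → F) :
    bl (Aᵀ * G * A) x y = bl G (A *ᵥ x) (A *ᵥ y) := by
  unfold bl
  rw [← Matrix.mulVec_mulVec, ← Matrix.mulVec_mulVec, Matrix.dotProduct_mulVec,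
    Matrix.vecMul_transpose]

theorem zb_bl_smul_mat (G : Matrix (Fin n) (Fin n) F) (c : F) (x y : Fin n → F) :
    bl (c • G) x y = c * bl G x y := by
  unfold bl; rw [Matrix.smul_mulVec, dotProduct_smul, smul_eq_mul]

theorem zb_eq_of_bl (G G' : Matrix (Fin n) (Fin n) F)
    (h : ∀ x y : Fin n → F, bl G x y = bl G' x y) : G = G' := by
  ext i j
  have := h (Pi.single i 1) (Pi.single j 1)
  simpa [bl, Matrix.mulVec_single_one, single_one_dotProduct, Matrix.col_apply] using this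

theorem zb_bl_skew (J : Matrix (Fin n) (Fin n) F) (hJ : Jᵀ = -J) (x y : Fin n → F) :
    bl J y x = -bl J x y := by
  unfold bl
  rw [dotProduct_comm, ← Matrix.vecMul_transpose, ← Matrix.dotProduct_mulVec, hJ,
    Matrix.neg_mulVec, dotProduct_neg]

theorem zb_pt_sub_smul (y a : Fin m → F) (b c : Fin n → F) (α : F) :
    pt (y - α • a) b + pt a c = pt y b + pt a (c - α • b) := by
  ext ⟨i, j⟩
  simp only [pt, Pi.add_apply, Pi.sub_apply, Pi.smul_apply, smul_eq_mul]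
  ring

/-- Piece ZB2 -/
theorem levi_lift (hn : 0 < n) (h2 : (2 : F) ≠ 0) (J : Matrix (Fin m) (Fin m) F)
    (hJ : Jᵀ = -J) (hdetJ : J.det ≠ 0) (S : Matrix (Fin n) (Fin n) F) (hS : Sᵀ = S)
    (hdetS : S.det ≠ 0) (a a₁ : Fin m → F) (ha : a ≠ 0) (haa₁ : bl J a a₁ = 1)
    (k : Matrix (Fin m × Fin n) (Fin m × Fin n) F)
    (B : Matrix (Fin n) (Fin n) F) (A₁ : Matrix (Fin m) (Fin m) F) (μ ν : F)
    (hνμ : ν * μ = 1) (hB : Bᵀ * S * B = μ • S)
    (hk0 : ∀ b : Fin n → F, k *ᵥ pt a b = pt a (B *ᵥ b))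
    (hk1 : ∀ y : Fin m → F, bl J a y = 0 → bl J a (A₁ *ᵥ y) = 0)
    (hk2 : ∀ y y' : Fin m → F, bl J a y = 0 → bl J a y' = 0 →
      bl J (A₁ *ᵥ y) (A₁ *ᵥ y') = ν * bl J y y')
    (hk3 : ∀ (y : Fin m → F) (b : Fin n → F), bl J a y = 0 → ∃ d : Fin n → F,
      k *ᵥ pt y b = pt (A₁ *ᵥ y) (B *ᵥ b) + pt a d) :
    ∃ (A : Matrix (Fin m) (Fin m) F) (ρ : Matrix (Fin m × Fin n) (Fin m × Fin n) F),
      Aᵀ * J * A = ν • J ∧ k = (A ⊗ₖ B) * ρ ∧
      (∀ b : Fin n → F, ρ *ᵥ pt a b = pt a b) ∧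
      (∀ (y : Fin m → F) (b : Fin n → F), bl J a y = 0 → ∃ b' : Fin n → F,
        ρ *ᵥ pt y b = pt y b + pt a b') := by
  have hν : ν ≠ 0 := left_ne_zero_of_mul_eq_one hνμ
  have hμ : μ ≠ 0 := right_ne_zero_of_mul_eq_one hνμ
  have hskew : ∀ x y : Fin m → F, bl J y x = -bl J x y := zb_bl_skew J hJ
  have halt : ∀ x : Fin m → F, bl J x x = 0 := by
    intro x
    have h := hskew x x
    have h' : (2 : F) * bl J x x = 0 := by linear_combination h
    exact (mul_eq_zero.mp h').resolve_left h2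
  have haa : bl J a a = 0 := halt a
  have ha₁a : bl J a₁ a = -1 := by rw [hskew a a₁, haa₁]
  -- the matrix A
  obtain ⟨A, hA⟩ : ∃ A : Matrix (Fin m) (Fin m) F, ∀ x : Fin m → F,
      A *ᵥ x = A₁ *ᵥ (x - bl J a x • a₁)
        + (bl J (x - bl J a x • a₁) a₁ - bl J (A₁ *ᵥ (x - bl J a x • a₁)) a₁) • a
        + (ν * bl J a x) • a₁ := by
    refine ⟨LinearMap.toMatrix'
      { toFun := fun x => A₁ *ᵥ (x - bl J a x • a₁)
          + (bl J (x - bl J a x • a₁) a₁ - bl J (A₁ *ᵥ (x - bl J a x • a₁)) a₁) • a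
          + (ν * bl J a x) • a₁
        map_add' := ?_
        map_smul' := ?_ }, fun x => ?_⟩
    · intro x x'
      simp only [Matrix.mulVec_add, Matrix.mulVec_sub, Matrix.mulVec_smul, zb_bl_add_left,
        zb_bl_add_right, zb_bl_sub_left, zb_bl_smul_left]
      module
    · intro c x
      simp only [Matrix.mulVec_add, Matrix.mulVec_sub, Matrix.mulVec_smul, zb_bl_add_left,
        zb_bl_add_right, zb_bl_sub_left, zb_bl_smul_left, zb_bl_smul_right, RingHom.id_apply]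
      module
    · rw [← Matrix.toLin'_apply, Matrix.toLin'_toMatrix']
      rfl
  have hA1 : ∀ y : Fin m → F, bl J a y = 0 →
      A *ᵥ y = A₁ *ᵥ y + (bl J y a₁ - bl J (A₁ *ᵥ y) a₁) • a := by
    intro y hy
    rw [hA, hy, zero_smul, sub_zero, mul_zero, zero_smul, add_zero]
  have hA2 : A *ᵥ a₁ = ν • a₁ := by
    rw [hA, haa₁, one_smul, sub_self, Matrix.mulVec_zero, zb_bl_zero_left, sub_zero, zero_smul,
      zero_add, zero_add, mul_one]
  -- A preserves the form up to ν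
  have hbil : ∀ x x' : Fin m → F, bl J (A *ᵥ x) (A *ᵥ x') = ν * bl J x x' := by
    intro x x'
    obtain ⟨t, ht⟩ : ∃ t, t = bl J a x := ⟨_, rfl⟩
    obtain ⟨t', ht'⟩ : ∃ t', t' = bl J a x' := ⟨_, rfl⟩
    obtain ⟨y, hy⟩ : ∃ y, y = x - t • a₁ := ⟨_, rfl⟩
    obtain ⟨y', hy'⟩ : ∃ y', y' = x' - t' • a₁ := ⟨_, rfl⟩
    have hya : bl J a y = 0 := by
      rw [hy, zb_bl_sub_right, zb_bl_smul_right, haa₁, ← ht]; ring
    have hya' : bl J a y' = 0 := by
      rw [hy', zb_bl_sub_right, zb_bl_smul_right, haa₁, ← ht']; ring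
    have hx : x = y + t • a₁ := by rw [hy, sub_add_cancel]
    have hx' : x' = y' + t' • a₁ := by rw [hy', sub_add_cancel]
    have e1 : A *ᵥ x = A₁ *ᵥ y + (bl J y a₁ - bl J (A₁ *ᵥ y) a₁) • a + (t * ν) • a₁ := by
      rw [hx, Matrix.mulVec_add, Matrix.mulVec_smul, hA1 y hya, hA2, smul_smul]
    have e1' : A *ᵥ x' = A₁ *ᵥ y' + (bl J y' a₁ - bl J (A₁ *ᵥ y') a₁) • a + (t' * ν) • a₁ := by
      rw [hx', Matrix.mulVec_add, Matrix.mulVec_smul, hA1 y' hya', hA2, smul_smul]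
    rw [e1, e1', hx, hx']
    have h_p := hk2 y y' hya hya'
    have h_q : bl J (A₁ *ᵥ y) a = 0 := by rw [hskew, hk1 y hya, neg_zero]
    have h_s := hk1 y' hya'
    have h_w : bl J a₁ (A₁ *ᵥ y') = -bl J (A₁ *ᵥ y') a₁ := hskew _ _
    have h_o := halt a₁
    have h_b3 : bl J a₁ y' = -bl J y' a₁ := hskew _ _
    simp only [zb_bl_add_left, zb_bl_add_right, zb_bl_smul_left, zb_bl_smul_right, h_p, h_q, h_s,
      h_w, h_o, h_b3, haa, haa₁, ha₁a]
    ring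
  have hAJ : Aᵀ * J * A = ν • J := by
    apply zb_eq_of_bl
    intro x y
    rw [zb_bl_conj, zb_bl_smul_mat, hbil]
  -- inverses
  have hJinv : J⁻¹ * J = 1 := Matrix.nonsing_inv_mul J (isUnit_iff_ne_zero.2 hdetJ)
  have hSinv : S⁻¹ * S = 1 := Matrix.nonsing_inv_mul S (isUnit_iff_ne_zero.2 hdetS)
  obtain ⟨Ai, hAi⟩ : ∃ Ai : Matrix (Fin m) (Fin m) F, Ai * A = 1 := by
    refine ⟨ν⁻¹ • (J⁻¹ * (Aᵀ * J)), ?_⟩
    rw [Matrix.smul_mul, Matrix.mul_assoc, Matrix.mul_assoc, ← Matrix.mul_assoc Aᵀ, hAJ,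
      Matrix.mul_smul, hJinv, smul_smul, inv_mul_cancel₀ hν, one_smul]
  obtain ⟨Bi, hBi⟩ : ∃ Bi : Matrix (Fin n) (Fin n) F, Bi * B = 1 := by
    refine ⟨μ⁻¹ • (S⁻¹ * (Bᵀ * S)), ?_⟩
    rw [Matrix.smul_mul, Matrix.mul_assoc, Matrix.mul_assoc, ← Matrix.mul_assoc Bᵀ, hB,
      Matrix.mul_smul, hSinv, smul_smul, inv_mul_cancel₀ hμ, one_smul]
  have hAi' : A * Ai = 1 := mul_eq_one_comm.1 hAi
  have hBi' : B * Bi = 1 := mul_eq_one_comm.1 hBi
  -- A₁ a is a multiple of a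
  have hA₁a : ∃ l : F, A₁ *ᵥ a = l • a := by
    obtain ⟨w, hw⟩ : ∃ w : Fin n → F, w = B *ᵥ (Pi.single ⟨0, hn⟩ 1) := ⟨_, rfl⟩
    obtain ⟨d, hd⟩ := hk3 a (Pi.single ⟨0, hn⟩ 1) haa
    rw [hk0, ← hw] at hd
    have hw0 : w ≠ 0 := by
      intro h0
      have h1 : Bi *ᵥ w = Pi.single ⟨0, hn⟩ (1 : F) := by
        rw [hw, Matrix.mulVec_mulVec, hBi, Matrix.one_mulVec]
      rw [h0, Matrix.mulVec_zero] at h1
      have h3 := congrFun h1 ⟨0, hn⟩
      simp at h3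
    obtain ⟨j, hj⟩ : ∃ j, w j ≠ 0 := by
      by_contra hcon
      push Not at hcon
      exact hw0 (funext hcon)
    refine ⟨(w j - d j) / w j, ?_⟩
    funext i
    have h1 := congrFun hd (i, j)
    simp only [pt, Pi.add_apply] at h1
    rw [Pi.smul_apply, smul_eq_mul]
    field_simp
    linear_combination -h1
  have hAa : A *ᵥ a = a := by
    obtain ⟨l, hl⟩ := hA₁a
    rw [hA1 a haa, hl, zb_bl_smul_left, haa₁]
    module
  have hAia : Ai *ᵥ a = a := by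
    have := congrArg (fun v => Ai *ᵥ v) hAa
    simp only [Matrix.mulVec_mulVec, hAi, Matrix.one_mulVec] at this
    exact this.symm
  refine ⟨A, (Ai ⊗ₖ Bi) * k, hAJ, ?_, ?_, ?_⟩
  · rw [← Matrix.mul_assoc, ← Matrix.mul_kronecker_mul, hAi', hBi', Matrix.one_kronecker_one,
      Matrix.one_mul]
  · intro b
    rw [← Matrix.mulVec_mulVec, hk0, kron_mulVec_pt, hAia, Matrix.mulVec_mulVec, hBi,
      Matrix.one_mulVec]
  · intro y b hy
    obtain ⟨d, hd⟩ := hk3 y b hy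
    refine ⟨Bi *ᵥ d - (bl J y a₁ - bl J (A₁ *ᵥ y) a₁) • b, ?_⟩
    have hAiA₁ : Ai *ᵥ (A₁ *ᵥ y) = y - (bl J y a₁ - bl J (A₁ *ᵥ y) a₁) • a := by
      have h1 : Ai *ᵥ (A *ᵥ y) = Ai *ᵥ (A₁ *ᵥ y + (bl J y a₁ - bl J (A₁ *ᵥ y) a₁) • a) := by
        rw [hA1 y hy]
      rw [Matrix.mulVec_mulVec, hAi, Matrix.one_mulVec, Matrix.mulVec_add, Matrix.mulVec_smul,
        hAia] at h1
      rw [eq_sub_iff_add_eq]
      exact h1.symm
    rw [← Matrix.mulVec_mulVec, hd, Matrix.mulVec_add, kron_mulVec_pt, kron_mulVec_pt, hAia,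
      hAiA₁, Matrix.mulVec_mulVec, hBi, Matrix.one_mulVec, zb_pt_sub_smul]

end Cfsg.Agent.Helper20.SQZB2
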