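import Mathlib
import Cfsg.Agent.Helper3.SU2Defs

/-!
# Auxiliary lemmas for CALL S2412C (vector computations over the field with four elements)
-/

set_option autoImplicit false

namespace Cfsg.Agent.Helper20

open Cfsg.Agent.Helper3.SU2 Cfsg.Agent.Helper13

variable {F : Type*} [Field F] [Fintype F] {n : ℕ}

omit [Fintype F] in
theorem su2aux_herm_add_left (u u' v : Fin n → F) :
    Cfsg.hermForm n F 2 (u + u') v = Cfsg.hermForm n F 2 u v + Cfsg.hermForm n F 2 u' v := by
  unfold Cfsg.hermForm
  rw [← Finset.sum_add_distrib]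
  apply Finset.sum_congr rfl
  intro i _
  rw [Pi.add_apply, add_mul]

omit [Fintype F] in
theorem su2aux_herm_smul_left (c : F) (u v : Fin n → F) :
    Cfsg.hermForm n F 2 (c • u) v = c * Cfsg.hermForm n F 2 u v := by
  unfold Cfsg.hermForm
  rw [Finset.mul_sum]
  apply Finset.sum_congr rfl
  intro i _
  rw [Pi.smul_apply, smul_eq_mul, mul_assoc]

omit [Fintype F] in
theorem su2aux_herm_single_left (p : Fin n) (v : Fin n → F) :
    Cfsg.hermForm n F 2 (Pi.single p (1 : F)) v = v p ^ 2 := by
  unfold Cfsg.hermForm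
  rw [Finset.sum_eq_single p]
  · rw [Pi.single_eq_same, one_mul]
  · intro i _ hi
    rw [Pi.single_eq_of_ne hi, zero_mul]
  · intro h
    exact absurd (Finset.mem_univ p) h

/-- characteristic two. -/
theorem su2aux_two (hF : Fintype.card F = 2 ^ 2) : (2 : F) = 0 := by
  have h := Nat.cast_card_eq_zero F
  rw [hF] at h
  have h2 : (2 : F) ^ 2 = 0 := by exact_mod_cast h
  exact pow_eq_zero_iff (two_ne_zero) |>.mp h2

theorem su2aux_add_self (hF : Fintype.card F = 2 ^ 2) (a : F) : a + a = 0 := by
  have h := su2aux_two hF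
  calc a + a = 2 * a := by ring
    _ = 0 := by rw [h, zero_mul]

theorem su2aux_vadd_self (hF : Fintype.card F = 2 ^ 2) (v : Fin n → F) : v + v = 0 := by
  funext i
  exact su2aux_add_self hF (v i)

/-- nonzero elements of the field with four elements are cube roots of unity. -/
theorem su2aux_cube (hF : Fintype.card F = 2 ^ 2) (a : F) (ha : a ≠ 0) : a ^ 3 = 1 := by
  have h := FiniteField.pow_card_sub_one_eq_one a ha
  rw [hF] at h
  exact h

end Cfsg.Agent.Helper20
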