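import Mathlib
import Cfsg.Agent.Helper3.SU2Defs
import Cfsg.Agent.Helper20.SU2CAux

set_option autoImplicit false

namespace Cfsg.Agent.Helper20

open Cfsg.Agent.Helper3.SU2 Cfsg.Agent.Helper13

variable {F : Type*} [Field F] [Fintype F] {n : ℕ}

theorem su2c_edge1 (hF : Fintype.card F = 2 ^ 2) {Φ : Set (Fin n → F)} (hΦ : PhiCl Φ)
    (ω : F) (hω0 : ω ≠ 0) (hω1 : 1 + ω ≠ 0) (hω : 1 + ω + ω ^ 2 = 0)
    (hF4 : ∀ μ : F, μ ≠ 0 → μ = 1 ∨ μ = ω ∨ μ = ω ^ 2)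
    (d : Fin n → F) (hd : ∀ v ∈ Φ, (fun i => d i * v i) ∈ Φ) (p0 p4 : Fin n) (h04 : p0 ≠ p4)
    (hd0 : d p0 = ω) (hd4 : d p4 = ω ^ 2)
    (h : Pi.single p0 (1 : F) + Pi.single p4 (1 : F) ∈ Φ) : Edge Φ p0 p4 := by
  have hω3 : ω ^ 3 = 1 := by linear_combination (ω - 1) * hω
  have hdv : ∀ a b : F, (fun i => d i *
      ((a • Pi.single p0 (1 : F) + b • Pi.single p4 (1 : F) : Fin n → F) i)) =
      (ω * a) • Pi.single p0 (1 : F) + (ω ^ 2 * b) • Pi.single p4 (1 : F) := by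
    intro a b
    funext i
    simp only [Pi.add_apply, Pi.smul_apply, Pi.single_apply, smul_eq_mul]
    by_cases h0 : i = p0
    · rw [if_pos h0, if_neg (by rw [h0]; exact h04), h0, hd0]; ring
    · by_cases h4 : i = p4
      · rw [if_neg h0, if_pos h4, h4, hd4]; ring
      · rw [if_neg h0, if_neg h4]; ring
  have h1 : (1 : F) • Pi.single p0 (1 : F) + (1 : F) • Pi.single p4 (1 : F) ∈ Φ := by
    rw [one_smul, one_smul]; exact h
  have h2 := hd _ h1
  rw [hdv] at h2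
  have h3 := hd _ h2
  rw [hdv] at h3
  intro μ hμ
  rcases hF4 μ hμ with hm | hm | hm
  · rw [hm, one_smul]; exact h
  · rw [hm]
    have h5 := hΦ.smul (ω ^ 2) _ (pow_ne_zero 2 hω0) h2
    have e : ω ^ 2 • ((ω * 1) • Pi.single p0 (1 : F) + (ω ^ 2 * 1) • Pi.single p4 (1 : F)) =
        Pi.single p0 (1 : F) + ω • Pi.single p4 (1 : F) := by
      rw [smul_add, smul_smul, smul_smul]
      have c1 : ω ^ 2 * (ω * 1) = 1 := by linear_combination hω3
      have c2 : ω ^ 2 * (ω ^ 2 * 1) = ω := by linear_combination ω * hω3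
      rw [c1, c2, one_smul]
    rw [e] at h5
    exact h5
  · rw [hm]
    have h5 := hΦ.smul ω _ hω0 h3
    have e : ω • ((ω * (ω * 1)) • Pi.single p0 (1 : F) +
        (ω ^ 2 * (ω ^ 2 * 1)) • Pi.single p4 (1 : F)) =
        Pi.single p0 (1 : F) + ω ^ 2 • Pi.single p4 (1 : F) := by
      rw [smul_add, smul_smul, smul_smul]
      have c1 : ω * (ω * (ω * 1)) = 1 := by linear_combination hω3
      have c2 : ω * (ω ^ 2 * (ω ^ 2 * 1)) = ω ^ 2 := by linear_combination ω ^ 2 * hω3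
      rw [c1, c2, one_smul]
    rw [e] at h5
    exact h5

end Cfsg.Agent.Helper20
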