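import Mathlib
import Cfsg.Agent.Helper3.SU2Defs
import Cfsg.Agent.Helper20.SU2CAux

set_option autoImplicit false

namespace Cfsg.Agent.Helper20

open Cfsg.Agent.Helper3.SU2 Cfsg.Agent.Helper13

variable {F : Type*} [Field F] [Fintype F] {n : ℕ}

theorem su2c_etrans (hF : Fintype.card F = 2 ^ 2) {Φ : Set (Fin n → F)} (hΦ : PhiCl Φ)
    (i j l : Fin n) (hij : Edge Φ i j) (hjl : Edge Φ j l) : Edge Φ i l := by
  intro μ hμ
  by_cases hil : i = l
  · subst hil
    have e : Pi.single i (1 : F) + μ • Pi.single i (1 : F) = (1 + μ) • Pi.single i (1 : F) := by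
      module
    rw [e]
    by_cases h1 : 1 + μ = 0
    · rw [h1, zero_smul]; exact hΦ.zero
    · apply hΦ.noniso
      rw [su2aux_herm_smul_left, su2aux_herm_single_left, Pi.smul_apply, Pi.single_eq_same,
        smul_eq_mul, mul_one]
      exact mul_ne_zero h1 (pow_ne_zero 2 h1)
  · by_cases hij' : i = j
    · subst hij'; exact hjl μ hμ
    · by_cases hjl' : j = l
      · subst hjl'; exact hij μ hμ
      · have hx := hij 1 one_ne_zero
        have hy := hjl μ hμ
        obtain ⟨X, hX⟩ : ∃ X : Fin n → F, X = Pi.single i (1 : F) +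
            (1 : F) • Pi.single j (1 : F) := ⟨_, rfl⟩
        rw [← hX] at hx
        have Xi : X i = 1 := by rw [hX]; simp [Pi.single_apply, hij']
        have Xj : X j = 1 := by rw [hX]; simp [Pi.single_apply, Ne.symm hij']
        have Xl : X l = 0 := by rw [hX]; simp [Pi.single_apply, Ne.symm hil, Ne.symm hjl']
        have hformX : ∀ v : Fin n → F, Cfsg.hermForm n F 2 X v = v i ^ 2 + v j ^ 2 := by
          intro v
          rw [hX, su2aux_herm_add_left, su2aux_herm_smul_left, su2aux_herm_single_left,
            su2aux_herm_single_left, one_mul]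
        have hXX : Cfsg.hermForm n F 2 X X = 0 := by
          rw [hformX, Xi, Xj, one_pow]
          exact su2aux_add_self hF 1
        have hYX : Cfsg.hermForm n F 2 (Pi.single j (1 : F) + μ • Pi.single l (1 : F)) X = 1 := by
          rw [su2aux_herm_add_left, su2aux_herm_smul_left, su2aux_herm_single_left,
            su2aux_herm_single_left, Xj, Xl]
          ring
        have h := hΦ.tv X _ hx hy hXX
        rw [hYX, one_smul, hX] at h
        have e : Pi.single j (1 : F) + μ • Pi.single l (1 : F) +
            (Pi.single i (1 : F) + (1 : F) • Pi.single j (1 : F)) =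
            (Pi.single i (1 : F) + μ • Pi.single l (1 : F)) +
              (Pi.single j (1 : F) + Pi.single j (1 : F)) := by module
        rw [e, su2aux_vadd_self hF, add_zero] at h
        exact h

end Cfsg.Agent.Helper20
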