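import Mathlib
import Cfsg.Agent.Helper3.SU2Defs
import Cfsg.Agent.Helper20.SU2CAux

set_option autoImplicit false

namespace Cfsg.Agent.Helper20

open Cfsg.Agent.Helper3.SU2 Cfsg.Agent.Helper13

variable {F : Type*} [Field F] [Fintype F] {n : ℕ}

theorem su2c_keyz (hF : Fintype.card F = 2 ^ 2) {Φ : Set (Fin n → F)} (hΦ : PhiCl Φ)
    (ω : F) (hω0 : ω ≠ 0) (hω1 : 1 + ω ≠ 0) (hω : 1 + ω + ω ^ 2 = 0)
    (p0 p1 p2 p3 : Fin n) (h01 : p0 ≠ p1) (h02 : p0 ≠ p2) (h03 : p0 ≠ p3) (h12 : p1 ≠ p2)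
    (h13 : p1 ≠ p3) (h23 : p2 ≠ p3)
    (hx : ω • Pi.single p0 (1 : F) + Pi.single p1 1 + Pi.single p2 1 + Pi.single p3 1 ∈ Φ)
    (hy : Pi.single p0 (1 : F) + Pi.single p1 1 + Pi.single p2 1 + ω • Pi.single p3 1 ∈ Φ) :
    Pi.single p0 (1 : F) + Pi.single p3 (1 : F) ∈ Φ := by
  obtain ⟨X, hX⟩ : ∃ X : Fin n → F, X = ω • Pi.single p0 (1 : F) + Pi.single p1 1 +
      Pi.single p2 1 + Pi.single p3 1 := ⟨_, rfl⟩
  obtain ⟨Y, hY⟩ : ∃ Y : Fin n → F, Y = Pi.single p0 (1 : F) + Pi.single p1 1 +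
      Pi.single p2 1 + ω • Pi.single p3 1 := ⟨_, rfl⟩
  rw [← hX] at hx
  rw [← hY] at hy
  have X0 : X p0 = ω := by rw [hX]; simp [Pi.single_apply, h01, h02, h03]
  have X1 : X p1 = 1 := by rw [hX]; simp [Pi.single_apply, h01.symm, h12, h13]
  have X2 : X p2 = 1 := by rw [hX]; simp [Pi.single_apply, h02.symm, h12.symm, h23]
  have X3 : X p3 = 1 := by rw [hX]; simp [Pi.single_apply, h03.symm, h13.symm, h23.symm]
  have hω3 : ω ^ 3 = 1 := by linear_combination (ω - 1) * hω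
  have h2 := su2aux_two hF
  have hformX : ∀ v : Fin n → F, Cfsg.hermForm n F 2 X v =
      ω * v p0 ^ 2 + v p1 ^ 2 + v p2 ^ 2 + v p3 ^ 2 := by
    intro v
    rw [hX, su2aux_herm_add_left, su2aux_herm_add_left, su2aux_herm_add_left,
      su2aux_herm_smul_left, su2aux_herm_single_left, su2aux_herm_single_left,
      su2aux_herm_single_left, su2aux_herm_single_left]
  have hformY : ∀ v : Fin n → F, Cfsg.hermForm n F 2 Y v =
      v p0 ^ 2 + v p1 ^ 2 + v p2 ^ 2 + ω * v p3 ^ 2 := by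
    intro v
    rw [hY, su2aux_herm_add_left, su2aux_herm_add_left, su2aux_herm_add_left,
      su2aux_herm_smul_left, su2aux_herm_single_left, su2aux_herm_single_left,
      su2aux_herm_single_left, su2aux_herm_single_left]
  have hXX : Cfsg.hermForm n F 2 X X = 0 := by
    rw [hformX, X0, X1, X2, X3]
    linear_combination hω3 + 2 * h2
  have hYX : Cfsg.hermForm n F 2 Y X = 1 := by
    rw [hformY, X0, X1, X2, X3]
    linear_combination hω
  have h := hΦ.tv X Y hx hy hXX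
  rw [hYX, one_smul] at h
  have e : Y + X = (1 + ω) • (Pi.single p0 (1 : F) + Pi.single p3 (1 : F)) +
      ((Pi.single p1 (1 : F) + Pi.single p1 (1 : F)) +
        (Pi.single p2 (1 : F) + Pi.single p2 (1 : F))) := by
    rw [hX, hY]; module
  rw [e, su2aux_vadd_self hF, su2aux_vadd_self hF, add_zero, add_zero] at h
  have h' := hΦ.smul (1 + ω)⁻¹ _ (inv_ne_zero hω1) h
  rw [smul_smul, inv_mul_cancel₀ hω1, one_smul] at h'
  exact h'

end Cfsg.Agent.Helper20
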