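import Mathlib
import Cfsg.Agent.Helper13.TLDefs
import Cfsg.Agent.Helper53.TLUARC
import Cfsg.Agent.Helper53.TLUORD
import Cfsg.Agent.Helper86.TLUPAIR
import Cfsg.Agent.Helper51.TLUNOIRR
import Cfsg.Agent.Helper50.TLUAEA

set_option autoImplicit false

namespace Cfsg.Agent.Helper20.TI5954

open Module Polynomial
open Cfsg.Agent.Helper13.TIu Cfsg.Agent.Helper13.TIsp
open Cfsg.Agent.Helper53.TI5954 Cfsg.Agent.Helper86.TI5954 Cfsg.Agent.Helper51.TI5954 Cfsg.Agent.Helper50.TI5954

section geom2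

variable {F : Type*} [Field F] {σ : F →+* F} {V : Type*} [AddCommGroup V] [Module F V]
  [FiniteDimensional F V] (B : V →ₛₗ[σ] V →ₗ[F] F)

theorem u_atom_d [Fintype F] (q : ℕ) (hq : Fintype.card F = q ^ 2) (hσ : ∀ a, σ a = a ^ q)
    (hσ2 : ∀ a, σ (σ a) = a) (hσne : σ ≠ RingHom.id F) (hS : B.IsSymm) (T : Module.End F V)
    (hT : UPres B T) (r : ℕ) [Fact r.Prime] (hr2 : 2 < r) (hrq : ¬ r ∣ q) (hrF : (r : F) ≠ 0)
    (hTr : T ^ r = 1) (i c : ℕ) (hi : i = orderOf (q : ZMod r))
    (hc : c = if i % 4 = 0 then i else if i % 4 = 2 then i / 2 else 2 * i)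
    (N : Submodule F V) (hNT : N.map T ≤ N) (hN : UNd B N) (hN0 : N ≠ ⊥)
    (hNk : N ⊓ LinearMap.ker (T - 1) = ⊥) :
    ∃ E : Submodule F V, E ≤ N ∧ E.map T ≤ E ∧ UNd B E ∧ finrank F E = c := by
  obtain ⟨hi0, hc0, harc⟩ := u_arith_c q r hr2 hrq i c hi hc
  have hb : orderOf ((Fintype.card F : ℕ) : ZMod r) = if Even i then i / 2 else i := by
    rw [hq, hi]; exact u_ord_sq q r
  rcases u_hyp_pair B hσ2 hS T hT r hrF hTr N hNT hN hN0 hNk with
    ⟨U₁, hU₁N, hU₁T, hU₁nd, hU₁dim⟩ | ⟨E₂, hE₂N, hE₂T, hE₂nd, hE₂dim⟩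
  · have hU₁k : U₁ ⊓ LinearMap.ker (T - 1) = ⊥ := by
      apply le_bot_iff.mp
      rw [← hNk]
      exact inf_le_inf_right _ hU₁N
    have h1 := u_noirr B q hq hσ hσ2 hσne hS T hT r hrq hTr U₁ hU₁T hU₁nd hU₁k
    rw [hU₁dim, hb] at h1
    have h2 : c ∣ (if Even i then i / 2 else i) := (harc _).mp h1
    refine ⟨U₁, hU₁N, hU₁T, hU₁nd, ?_⟩
    rw [hU₁dim, hb]
    obtain ⟨t, ht⟩ := h2
    by_cases he : Even i
    · rw [if_pos he] at ht ⊢
      have he2 : i % 2 = 0 := Nat.even_iff.mp he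
      by_cases h4 : i % 4 = 0
      · exfalso
        rw [if_pos h4] at hc
        rcases Nat.eq_zero_or_pos t with h0 | hpos
        · subst h0; omega
        · have : c ≤ c * t := Nat.le_mul_of_pos_right c hpos
          omega
      · have h42 : i % 4 = 2 := by omega
        rw [if_neg h4, if_pos h42] at hc
        omega
    · exfalso
      rw [if_neg he] at ht
      have he2 : i % 2 = 1 := by
        have := Nat.even_iff.not.mp he
        omega
      rw [if_neg (by omega), if_neg (by omega)] at hc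
      rcases Nat.eq_zero_or_pos t with h0 | hpos
      · subst h0; omega
      · have : c ≤ c * t := Nat.le_mul_of_pos_right c hpos
        omega
  · by_cases h42 : i % 4 = 2
    · have hE₂k : E₂ ⊓ LinearMap.ker (T - 1) = ⊥ := by
        apply le_bot_iff.mp
        rw [← hNk]
        exact inf_le_inf_right _ hE₂N
      obtain ⟨E, hEE₂, hET, hEnd, hEdim⟩ := u_atom_self B q hq hσ hσ2 hσne hS T hT r hr2 hrF hTr
        (by rw [← hi]; exact h42) E₂ hE₂T hE₂nd hE₂k hE₂dim
      refine ⟨E, hEE₂.trans hE₂N, hET, hEnd, ?_⟩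
      rw [hEdim, hb]
      have he : Even i := by rw [Nat.even_iff]; omega
      rw [if_pos he]
      rw [if_neg (by omega), if_pos h42] at hc
      omega
    · refine ⟨E₂, hE₂N, hE₂T, hE₂nd, ?_⟩
      rw [hE₂dim, hb]
      by_cases he : Even i
      · rw [if_pos he]
        have he2 : i % 2 = 0 := Nat.even_iff.mp he
        have h4 : i % 4 = 0 := by omega
        rw [if_pos h4] at hc
        omega
      · rw [if_neg he]
        have he2 : i % 2 = 1 := by
          have := Nat.even_iff.not.mp he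
          omega
        rw [if_neg (by omega), if_neg h42] at hc
        omega

end geom2

end Cfsg.Agent.Helper20.TI5954
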