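import Mathlib

set_option autoImplicit false

namespace Cfsg.Agent.Helper20

/-- PIECE PM3b of CALL S3614 (helper59). -/
theorem three_orbit_stabilizers {G Ω : Type*} [Group G] [Finite G] [MulAction G Ω] [FaithfulSMul G Ω]
    [Fintype Ω] [DecidableEq Ω]
    (r : ℕ) (hr : r.Prime) (F : Finset Ω)
    (hcard : Fintype.card Ω = F.card + 3 * r)
    (R : Subgroup G) (hRF : ∀ ρ ∈ R, ∀ a ∈ F, ρ • a = a)
    (horb : ∀ x : Ω, x ∉ F → {y : Ω | ∃ ρ ∈ R, ρ • x = y}.ncard = r)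
    (hcomm : ∀ ρ ∈ R, ∀ σ ∈ R, ρ * σ = σ * ρ) (hexp : ∀ ρ ∈ R, ρ ^ r = 1)
    (hno : ∀ g : G, ¬ ((MulAction.toPerm g : Equiv.Perm Ω).IsCycle ∧
        (MulAction.toPerm g : Equiv.Perm Ω).support.card = r)) :
    ∃ S₁ S₂ S₃ : Subgroup G, S₁ ≤ R ∧ S₂ ≤ R ∧ S₃ ≤ R ∧
      S₁ ⊓ S₂ = ⊥ ∧ S₁ ⊓ S₃ = ⊥ ∧ S₂ ⊓ S₃ = ⊥ ∧
      (∀ ρ ∈ R, ∀ σ ∈ R, σ ∉ S₁ → ∃ e : ℕ, ρ * σ ^ e ∈ S₁) ∧
      (∀ ρ ∈ R, ∀ σ ∈ R, σ ∉ S₂ → ∃ e : ℕ, ρ * σ ^ e ∈ S₂) ∧
      (∀ ρ ∈ R, ∀ σ ∈ R, σ ∉ S₃ → ∃ e : ℕ, ρ * σ ^ e ∈ S₃) ∧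
      (∃ σ ∈ R, σ ∉ S₁) ∧ (∃ σ ∈ R, σ ∉ S₂) ∧ (∃ σ ∈ R, σ ∉ S₃) ∧
      ∀ n : G, n ∈ Subgroup.normalizer (R : Set G) →
        (∀ x : Ω, x ∉ F → ∃ σ ∈ R, σ • x = n • x) →
        (∀ ρ ∈ S₁, n * ρ * n⁻¹ ∈ S₁) ∧ (∀ ρ ∈ S₂, n * ρ * n⁻¹ ∈ S₂) ∧
          (∀ ρ ∈ S₃, n * ρ * n⁻¹ ∈ S₃) := by
  classical
  haveI : Fact r.Prime := ⟨hr⟩
  have hr2 : 2 ≤ r := hr.two_le
  -- orbits as finsets
  obtain ⟨O, hO⟩ : ∃ O : Ω → Finset Ω, ∀ x y, y ∈ O x ↔ ∃ ρ ∈ R, ρ • x = y :=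
    ⟨fun x => Finset.univ.filter (fun y => ∃ ρ ∈ R, ρ • x = y), fun x y => by simp⟩
  have hOcard : ∀ x, x ∉ F → (O x).card = r := by
    intro x hx
    rw [← horb x hx, ← Set.ncard_coe_finset]
    congr 1
    ext y
    simp [hO]
  have hOF : ∀ x, x ∉ F → Disjoint F (O x) := by
    intro x hx
    rw [Finset.disjoint_left]
    intro y hyF hy
    obtain ⟨ρ, hρ, rfl⟩ := (hO x y).mp hy
    apply hx
    have h1 := hRF ρ⁻¹ (R.inv_mem hρ) _ hyF
    rw [inv_smul_smul] at h1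
    rw [h1]; exact hyF
  have hOO : ∀ x y, y ∉ O x → Disjoint (O x) (O y) := by
    intro x y hy
    rw [Finset.disjoint_left]
    intro z hzx hzy
    obtain ⟨ρ, hρ, rfl⟩ := (hO x z).mp hzx
    obtain ⟨σ, hσ, hσz⟩ := (hO y _).mp hzy
    apply hy
    refine (hO x y).mpr ⟨σ⁻¹ * ρ, R.mul_mem (R.inv_mem hσ) hρ, ?_⟩
    rw [mul_smul, ← hσz, inv_smul_smul]
  have hex : ∀ A : Finset Ω, A.card < Fintype.card Ω → ∃ x, x ∉ A := by
    intro A hA
    by_contra h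
    push Not at h
    have : A = Finset.univ := Finset.eq_univ_iff_forall.mpr h
    rw [this, Finset.card_univ] at hA
    exact lt_irrefl _ hA
  obtain ⟨x₁, hx₁⟩ := hex F (by omega)
  obtain ⟨x₂, hx₂⟩ := hex (F ∪ O x₁) (by
    have := Finset.card_union_le F (O x₁)
    rw [hOcard x₁ hx₁] at this
    omega)
  have hx₂F : x₂ ∉ F := fun h => hx₂ (Finset.mem_union_left _ h)
  have hx₂O : x₂ ∉ O x₁ := fun h => hx₂ (Finset.mem_union_right _ h)
  obtain ⟨x₃, hx₃⟩ := hex (F ∪ O x₁ ∪ O x₂) (by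
    have h1 := Finset.card_union_le (F ∪ O x₁) (O x₂)
    have h2 := Finset.card_union_le F (O x₁)
    rw [hOcard x₁ hx₁] at h2
    rw [hOcard x₂ hx₂F] at h1
    omega)
  have hx₃F : x₃ ∉ F := fun h => hx₃ (Finset.mem_union_left _ (Finset.mem_union_left _ h))
  have hx₃O₁ : x₃ ∉ O x₁ :=
    fun h => hx₃ (Finset.mem_union_left _ (Finset.mem_union_right _ h))
  have hx₃O₂ : x₃ ∉ O x₂ := fun h => hx₃ (Finset.mem_union_right _ h)
  -- an element of R fixing x fixes O x pointwise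
  have hfixO : ∀ x, ∀ ρ ∈ R, ρ • x = x → ∀ y ∈ O x, ρ • y = y := by
    intro x ρ hρ hx y hy
    obtain ⟨σ, hσ, rfl⟩ := (hO x y).mp hy
    rw [← mul_smul, hcomm ρ hρ σ hσ, mul_smul, hx]
  -- trivial intersection
  have hbot : ∀ x y : Ω, x ∉ F → y ∉ F → y ∉ O x → ∀ ρ ∈ R, ρ • x = x → ρ • y = y →
      ρ = 1 := by
    intro x y hx hy hyx ρ hρ hρx hρy
    by_contra hne
    obtain ⟨π, hπ⟩ : ∃ π : Equiv.Perm Ω, π = MulAction.toPerm ρ := ⟨_, rfl⟩
    have hπ1 : π ≠ 1 := by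
      intro h1
      apply hne
      apply MulAction.toPerm_injective (α := G) (β := Ω)
      rw [← hπ, h1]
      ext z
      simp
    have hπr : π ^ r = 1 := by
      have : π = MulAction.toPermHom G Ω ρ := hπ
      rw [this, ← map_pow, hexp ρ hρ, map_one]
    have hord : orderOf π = r := orderOf_eq_prime hπr hπ1
    have hsupp : ∀ z ∈ π.support, z ∉ F ∪ O x ∪ O y := by
      intro z hz hzm
      rw [Equiv.Perm.mem_support] at hz
      apply hz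
      rw [hπ, MulAction.toPerm_apply]
      rcases Finset.mem_union.mp hzm with h | h
      · rcases Finset.mem_union.mp h with h | h
        · exact hRF ρ hρ z h
        · exact hfixO x ρ hρ hρx z h
      · exact hfixO y ρ hρ hρy z h
    have hdis : Disjoint π.support (F ∪ O x ∪ O y) := Finset.disjoint_left.mpr hsupp
    have hc1 : (F ∪ O x ∪ O y).card = F.card + r + r := by
      rw [Finset.card_union_of_disjoint, Finset.card_union_of_disjoint (hOF x hx),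
        hOcard x hx, hOcard y hy]
      rw [Finset.disjoint_union_left]
      exact ⟨hOF y hy, hOO x y hyx⟩
    have hc2 : (π.support ∪ (F ∪ O x ∪ O y)).card ≤ Fintype.card Ω := Finset.card_le_univ _
    rw [Finset.card_union_of_disjoint hdis, hc1, hcard] at hc2
    have hcyc : π.IsCycle := by
      apply Equiv.Perm.isCycle_of_prime_order
      · rw [hord]; exact hr
      · rw [hord]; omega
    have hcs : π.support.card = r := by rw [← hcyc.orderOf, hord]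
    apply hno ρ
    rw [← hπ]
    exact ⟨hcyc, hcs⟩
  -- index
  have hidx : ∀ x : Ω, x ∉ F → ∀ ρ ∈ R, ∀ σ ∈ R, σ • x ≠ x →
      ∃ e : ℕ, (ρ * σ ^ e) • x = x := by
    intro x hx ρ hρ σ hσ hσx
    have hinj : ∀ j k : ℕ, j < k → k < r → σ ^ j • x ≠ σ ^ k • x := by
      intro j k hjk hkr heq
      have hd : σ ^ (k - j) • x = x := by
        have : σ ^ k = σ ^ j * σ ^ (k - j) := by rw [← pow_add]; congr 1; omega
        rw [this, mul_smul] at heq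
        exact (smul_left_cancel _ heq).symm
      have hcop : Nat.Coprime (k - j) r := by
        rw [Nat.coprime_comm, Nat.Prime.coprime_iff_not_dvd hr]
        intro hdvd
        have := Nat.le_of_dvd (by omega) hdvd
        omega
      obtain ⟨m, -, hm⟩ := Nat.exists_mul_mod_eq_one_of_coprime hcop (by omega : 1 < r)
      have hpow : σ ^ ((k - j) * m) = σ := by
        rw [← Nat.div_add_mod ((k - j) * m) r, hm, pow_add, pow_mul, hexp σ hσ, one_pow,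
          one_mul, pow_one]
      have hfix : ∀ m : ℕ, (σ ^ (k - j)) ^ m • x = x := by
        intro m
        induction m with
        | zero => simp
        | succ m ih => rw [pow_succ, mul_smul, hd, ih]
      apply hσx
      rw [← hpow, pow_mul]
      exact hfix m
    have himg : (Finset.range r).image (fun j => σ ^ j • x) = O x := by
      apply Finset.eq_of_subset_of_card_le
      · intro y hy
        obtain ⟨j, -, rfl⟩ := Finset.mem_image.mp hy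
        exact (hO x _).mpr ⟨σ ^ j, R.pow_mem hσ j, rfl⟩
      · rw [hOcard x hx, Finset.card_image_of_injOn, Finset.card_range]
        intro j hj k hk hjk
        simp only [Finset.coe_range, Set.mem_Iio] at hj hk
        by_contra hne
        rcases Nat.lt_or_gt_of_ne hne with h | h
        · exact hinj j k h hk hjk
        · exact hinj k j h hj hjk.symm
    have hρx : ρ • x ∈ O x := (hO x _).mpr ⟨ρ, hρ, rfl⟩
    rw [← himg] at hρx
    obtain ⟨j, hj, hjx⟩ := Finset.mem_image.mp hρx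
    rw [Finset.mem_range] at hj
    refine ⟨r - j, ?_⟩
    rw [hcomm ρ hρ _ (R.pow_mem hσ _), mul_smul, ← hjx, ← mul_smul, ← pow_add,
      show r - j + j = r by omega, hexp σ hσ, one_smul]
  have hne : ∀ x : Ω, x ∉ F → ∃ σ ∈ R, σ • x ≠ x := by
    intro x hx
    by_contra h
    push Not at h
    have hsub : O x ⊆ {x} := by
      intro y hy
      obtain ⟨ρ, hρ, rfl⟩ := (hO x y).mp hy
      rw [h ρ hρ]; exact Finset.mem_singleton_self x
    have := Finset.card_le_card hsub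
    rw [hOcard x hx, Finset.card_singleton] at this
    omega
  have hinv : ∀ x : Ω, x ∉ F → ∀ n : G, n ∈ Subgroup.normalizer (R : Set G) →
      (∃ σ ∈ R, σ • x = n • x) → ∀ ρ ∈ R ⊓ MulAction.stabilizer G x,
        n * ρ * n⁻¹ ∈ R ⊓ MulAction.stabilizer G x := by
    intro x hx n hn ⟨σ, hσ, hσx⟩ ρ hρ
    obtain ⟨hρR, hρx⟩ := Subgroup.mem_inf.mp hρ
    rw [MulAction.mem_stabilizer_iff] at hρx
    have hτR : n * ρ * n⁻¹ ∈ R := (Subgroup.mem_normalizer_iff.mp hn ρ).mp hρR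
    refine Subgroup.mem_inf.mpr ⟨hτR, ?_⟩
    rw [MulAction.mem_stabilizer_iff]
    have h1 : (n * ρ * n⁻¹) • (σ • x) = σ • x := by
      rw [hσx, mul_smul, mul_smul, inv_smul_smul, hρx]
    rw [← mul_smul, hcomm _ hτR σ hσ, mul_smul] at h1
    exact smul_left_cancel _ h1
  -- assemble
  have hS : ∀ x : Ω, x ∉ F →
      (∀ ρ ∈ R, ∀ σ ∈ R, σ ∉ R ⊓ MulAction.stabilizer G x →
        ∃ e : ℕ, ρ * σ ^ e ∈ R ⊓ MulAction.stabilizer G x) ∧
      (∃ σ ∈ R, σ ∉ R ⊓ MulAction.stabilizer G x) := by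
    intro x hx
    constructor
    · intro ρ hρ σ hσ hσS
      have hσx : σ • x ≠ x := fun h => hσS ⟨hσ, MulAction.mem_stabilizer_iff.mpr h⟩
      obtain ⟨e, he⟩ := hidx x hx ρ hρ σ hσ hσx
      exact ⟨e, R.mul_mem hρ (R.pow_mem hσ e), MulAction.mem_stabilizer_iff.mpr he⟩
    · obtain ⟨σ, hσ, hσx⟩ := hne x hx
      exact ⟨σ, hσ, fun h => hσx (MulAction.mem_stabilizer_iff.mp h.2)⟩
  have hB : ∀ x y : Ω, x ∉ F → y ∉ F → y ∉ O x →
      (R ⊓ MulAction.stabilizer G x) ⊓ (R ⊓ MulAction.stabilizer G y) = ⊥ := by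
    intro x y hx hy hyx
    rw [Subgroup.eq_bot_iff_forall]
    rintro g ⟨⟨hgR, hgx⟩, ⟨-, hgy⟩⟩
    exact hbot x y hx hy hyx g hgR (MulAction.mem_stabilizer_iff.mp hgx)
      (MulAction.mem_stabilizer_iff.mp hgy)
  refine ⟨R ⊓ MulAction.stabilizer G x₁, R ⊓ MulAction.stabilizer G x₂,
    R ⊓ MulAction.stabilizer G x₃,
    inf_le_left, inf_le_left, inf_le_left, hB x₁ x₂ hx₁ hx₂F hx₂O, hB x₁ x₃ hx₁ hx₃F hx₃O₁,
    hB x₂ x₃ hx₂F hx₃F hx₃O₂, (hS x₁ hx₁).1, (hS x₂ hx₂F).1, (hS x₃ hx₃F).1,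
    (hS x₁ hx₁).2, (hS x₂ hx₂F).2, (hS x₃ hx₃F).2, ?_⟩
  intro n hn hnx
  exact ⟨hinv x₁ hx₁ n hn (hnx x₁ hx₁), hinv x₂ hx₂F n hn (hnx x₂ hx₂F),
    hinv x₃ hx₃F n hn (hnx x₃ hx₃F)⟩

end Cfsg.Agent.Helper20
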