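import Mathlib

set_option autoImplicit false

namespace Cfsg.Agent.Helper20

variable {G : Type*} [Group G] [Finite G]

theorem u7920_orbit_le (R : Sylow 3 G) (hR : Nat.card ↥(R : Subgroup G) = 9) (H : Subgroup G)
    (hH : H ≤ Subgroup.normalizer ((R : Subgroup G) : Set G)) (d : G)
    (hd : d ∈ (R : Subgroup G)) (hd1 : d ≠ 1) :
    Nat.card {e : G // ∃ n ∈ H, e = n * d * n⁻¹} ≤ 8 := by
  classical
  have hmem : ∀ e : {e : G // ∃ n ∈ H, e = n * d * n⁻¹},
      (e : G) ∈ (R : Subgroup G) ∧ (e : G) ≠ 1 := by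
    rintro ⟨e, n, hn, rfl⟩
    refine ⟨(Subgroup.mem_normalizer_iff.1 (hH hn) d).1 hd, ?_⟩
    intro h
    apply hd1
    have h3 : n * d * n⁻¹ = 1 := h
    have h2 : d = n⁻¹ * (n * d * n⁻¹) * n := by group
    rw [h2, h3]; group
  obtain ⟨f, hfdef⟩ : ∃ f : {e : G // ∃ n ∈ H, e = n * d * n⁻¹} →
      {r : ↥(R : Subgroup G) // r ≠ 1}, ∀ e, ((f e).1 : G) = e.1 :=
    ⟨fun e => ⟨⟨e.1, (hmem e).1⟩, fun h => (hmem e).2 (by simpa using congrArg Subtype.val h)⟩,
      fun e => rfl⟩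
  have hf : Function.Injective f := by
    intro a b hab
    apply Subtype.ext
    rw [← hfdef a, ← hfdef b, hab]
  have h1 := Nat.card_le_card_of_injective f hf
  have h2 : Nat.card {r : ↥(R : Subgroup G) // r ≠ 1} = 8 := by
    haveI : Fintype ↥(R : Subgroup G) := Fintype.ofFinite _
    rw [Nat.card_eq_fintype_card, Fintype.card_subtype_compl, Fintype.card_subtype_eq,
      ← Nat.card_eq_fintype_card, hR]
  omega

end Cfsg.Agent.Helper20
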