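import Mathlib
import Cfsg.Agent.Helper95.UBNDefs
import Cfsg.Agent.Helper20.UBNRoot

/-!
# Piece RK1C of CALL S2546: rank one computation, root through the middle index (odd dimension)
-/

set_option autoImplicit false
set_option linter.unusedSimpArgs false
open Matrix Cfsg.Agent.Helper95.UBN

namespace Cfsg.Agent.Helper20.UBN

variable {F : Type*} [Field F] {n : ℕ}

set_option maxHeartbeats 3200000 in
theorem p_RK1C (τ : F →+* F) (hτ : ∀ x, τ (τ x) = x) (j : Fin (n / 2)) (hj : j.1 + 1 = n / 2)
    (hn : Odd n)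
    (x : Matrix.SpecialLinearGroup (Fin n) F) (hx : x ∈ UG τ n) (hsh : XSh (sigP j) x.1)
    (hx1 : x ≠ 1) :
    ∃ y : Matrix.SpecialLinearGroup (Fin n) F, y ∈ UG τ n ∧ YSh (sigP j) y.1 ∧
      ∀ a b, sigP j b < a → (y * x⁻¹).1 a b = 0 := by
  have hj' : ¬ j.1 + 1 < n / 2 := by omega
  have hσ := sig_val_last j hj'
  have hnv : n = 2 * j.1 + 3 := by obtain ⟨k, hk⟩ := hn; omega
  obtain ⟨a, ha⟩ : ∃ a : Fin n, a = ia j := ⟨_, rfl⟩
  obtain ⟨c, hc⟩ : ∃ c : Fin n, c = ⟨j.1 + 1, by omega⟩ := ⟨_, rfl⟩
  have hav : a.1 = j.1 := by rw [ha]; rfl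
  have hcv : c.1 = j.1 + 1 := by rw [hc]
  have hav' : (Fin.rev a).1 = n - (j.1 + 1) := by rw [Fin.val_rev, hav]
  have hcc : Fin.rev c = c := by apply Fin.ext; rw [Fin.val_rev, hcv]; omega
  have hac : a ≠ c := by intro h; have := congrArg Fin.val h; omega
  have haa' : a ≠ Fin.rev a := by intro h; have := congrArg Fin.val h; omega
  have hca' : c ≠ Fin.rev a := by intro h; have := congrArg Fin.val h; omega
  -- shape
  have hx0 : ∀ r s, r ≠ s → ¬ (r = a ∧ s = c) → ¬ (r = c ∧ s = Fin.rev a) →
      ¬ (r = a ∧ s = Fin.rev a) → x.1 r s = 0 := by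
    intro r s hrs h1 h2 h3
    by_contra h
    obtain ⟨hlt, hσlt⟩ := hsh.2 r s hrs h
    rw [Fin.lt_def] at hlt hσlt
    rw [hσ r, hσ s] at hσlt
    simp only [Fin.ext_iff] at h1 h2 h3 hrs
    split_ifs at hσlt <;> omega
  obtain ⟨t, ht⟩ : ∃ t, t = x.1 a c := ⟨_, rfl⟩
  obtain ⟨w, hw⟩ : ∃ w, w = x.1 c (Fin.rev a) := ⟨_, rfl⟩
  obtain ⟨u, hu⟩ : ∃ u, u = x.1 a (Fin.rev a) := ⟨_, rfl⟩
  have hxform0 : x.1 = 1 + Matrix.single a c t + Matrix.single c (Fin.rev a) w +
      Matrix.single a (Fin.rev a) u := by
    ext r s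
    simp only [Matrix.add_apply, Matrix.one_apply, Matrix.single_apply]
    by_cases h1 : r = a ∧ s = c
    · obtain ⟨rfl, rfl⟩ := h1
      simp [hac, hac.symm, haa', haa'.symm, hca', hca'.symm, ht]
    · by_cases h2 : r = c ∧ s = Fin.rev a
      · obtain ⟨rfl, rfl⟩ := h2
        simp [hac, hac.symm, haa', haa'.symm, hca', hca'.symm, hw]
      · by_cases h3 : r = a ∧ s = Fin.rev a
        · obtain ⟨rfl, rfl⟩ := h3
          simp [hac, hac.symm, haa', haa'.symm, hca', hca'.symm, hu]
        · have h1' : ¬ (a = r ∧ c = s) := fun h => h1 ⟨h.1.symm, h.2.symm⟩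
          have h2' : ¬ (c = r ∧ Fin.rev a = s) := fun h => h2 ⟨h.1.symm, h.2.symm⟩
          have h3' : ¬ (a = r ∧ Fin.rev a = s) := fun h => h3 ⟨h.1.symm, h.2.symm⟩
          rw [if_neg h1', if_neg h2', if_neg h3', add_zero, add_zero, add_zero]
          by_cases hrs : r = s
          · subst hrs; rw [if_pos rfl]; exact hsh.1 r
          · rw [if_neg hrs]; exact hx0 r s hrs h1 h2 h3
  -- unitarity relations
  have hU : uinv τ x.1 * x.1 = 1 := isU_of_mem hx
  rw [hxform0] at hU
  simp only [rt_uinv_add, uinv_one, rt_uinv_single, Fin.rev_rev, hcc] at hU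
  have e : ∀ W1 T1 U1 T W U : Matrix (Fin n) (Fin n) F, (1 + W1 + T1 + U1) * (1 + T + W + U) =
      1 + T + W + U + W1 + T1 + U1 + W1 * T + W1 * W + W1 * U + T1 * T + T1 * W + T1 * U +
        U1 * T + U1 * W + U1 * U := by intros; noncomm_ring
  rw [e] at hU
  simp only [Matrix.single_mul_single_of_ne (h := haa'.symm),
    Matrix.single_mul_single_of_ne (h := hca'.symm), Matrix.single_mul_single_of_ne (h := hac.symm),
    Matrix.single_mul_single_same] at hU
  have h_ac := congrFun (congrFun hU a) c
  simp [Matrix.add_apply, Matrix.single_apply, Matrix.one_apply, hac, hac.symm, haa', haa'.symm,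
    hca', hca'.symm] at h_ac
  have h_aa := congrFun (congrFun hU a) (Fin.rev a)
  simp [Matrix.add_apply, Matrix.single_apply, Matrix.one_apply, hac, hac.symm, haa', haa'.symm,
    hca', hca'.symm] at h_aa
  have hτw : τ w = -t := by linear_combination h_ac
  have hw' : w = -τ t := by
    have := congrArg τ hτw
    rw [hτ, map_neg] at this
    exact this
  have hrelu : u + τ u + t * τ t = 0 := by
    rw [hτw, hw'] at h_aa
    linear_combination h_aa
  have hxform : x.1 = rootC τ a c t u := by
    rw [hxform0, hw']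
    unfold rootC
    ext r s
    simp only [Matrix.add_apply, Matrix.sub_apply, Matrix.one_apply, Matrix.single_apply]
    split_ifs <;> ring
  have hu0 : u ≠ 0 := by
    intro h
    have htt : t * τ t = 0 := by
      rw [h, map_zero] at hrelu
      linear_combination hrelu
    have ht0 : t = 0 := by
      rcases mul_eq_zero.mp htt with h1 | h1
      · exact h1
      · have := congrArg τ h1
        rwa [hτ, map_zero] at this
    apply hx1
    apply Subtype.ext
    rw [hxform, h, ht0, rootC_zero]; rfl
  have hτu0 : τ u ≠ 0 := by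
    intro h
    apply hu0
    have := congrArg τ h
    rwa [hτ, map_zero] at this
  have hpc : Fin.rev a ≠ c := hca'.symm
  have hp : Fin.rev a ≠ Fin.rev (Fin.rev a) := by rw [Fin.rev_rev]; exact haa'.symm
  have hcp : c ≠ Fin.rev (Fin.rev a) := by rw [Fin.rev_rev]; exact hac.symm
  refine ⟨(⟨rootC τ (Fin.rev a) c (t / u) u⁻¹, rootC_det τ _ c hpc hp hcp _ _⟩ :
    Matrix.SpecialLinearGroup (Fin n) F), ?_, ?_, ?_⟩
  · apply (mem_UG_iff hτ _).mpr
    apply rootC_isU τ hτ _ c hcc hpc hp hcp
    rw [map_inv₀, map_div₀]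
    field_simp
    linear_combination hrelu
  · -- YSh
    constructor
    · intro r
      show rootC τ (Fin.rev a) c (t / u) u⁻¹ r r = 1
      unfold rootC
      rw [Fin.rev_rev]
      simp only [Matrix.add_apply, Matrix.sub_apply, Matrix.one_apply, Matrix.single_apply]
      have n1 : ¬ (Fin.rev a = r ∧ c = r) := fun h => hca' (h.2.trans h.1.symm)
      have n2 : ¬ (c = r ∧ a = r) := fun h => hac (h.2.trans h.1.symm)
      have n3 : ¬ (Fin.rev a = r ∧ a = r) := fun h => haa' (h.2.trans h.1.symm)
      rw [if_neg n1, if_neg n2, if_neg n3]; simp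
    · intro r s hrs hne
      have hne' : rootC τ (Fin.rev a) c (t / u) u⁻¹ r s ≠ 0 := hne
      unfold rootC at hne'
      rw [Fin.rev_rev] at hne'
      simp only [Matrix.add_apply, Matrix.sub_apply, Matrix.one_apply, Matrix.single_apply,
        if_neg hrs] at hne'
      by_cases h1 : Fin.rev a = r ∧ c = s
      · obtain ⟨rfl, rfl⟩ := h1
        rw [Fin.lt_def, Fin.lt_def, hσ, hσ]
        constructor
        · omega
        · split_ifs <;> omega
      · by_cases h2 : c = r ∧ a = s
        · obtain ⟨rfl, rfl⟩ := h2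
          rw [Fin.lt_def, Fin.lt_def, hσ, hσ]
          constructor
          · omega
          · split_ifs <;> omega
        · by_cases h3 : Fin.rev a = r ∧ a = s
          · obtain ⟨rfl, rfl⟩ := h3
            rw [Fin.lt_def, Fin.lt_def, hσ, hσ]
            constructor
            · omega
            · split_ifs <;> omega
          · rw [if_neg h1, if_neg h2, if_neg h3] at hne'
            simp at hne'
  · -- zero pattern
    intro r s hlt
    show (rootC τ (Fin.rev a) c (t / u) u⁻¹ * (x⁻¹).1) r s = 0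
    rw [inv_eq_uinv hx, hxform, rootC_uinv τ hτ a c hcc]
    have e2 : rootC τ (Fin.rev a) c (t / u) u⁻¹ * rootC τ a c (-t) (τ u) =
        1 + Matrix.single a c (-t) - Matrix.single c (Fin.rev a) (τ (-t)) +
        Matrix.single a (Fin.rev a) (τ u) + Matrix.single (Fin.rev a) c (t / u) -
        Matrix.single c a (τ (t / u)) + Matrix.single (Fin.rev a) a u⁻¹ -
        Matrix.single (Fin.rev a) (Fin.rev a) (t / u * τ (-t)) -
        Matrix.single c c (τ (t / u) * (-t)) -
        Matrix.single c (Fin.rev a) (τ (t / u) * τ u) +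
        Matrix.single (Fin.rev a) c (u⁻¹ * (-t)) +
        Matrix.single (Fin.rev a) (Fin.rev a) (u⁻¹ * τ u) := by
      unfold rootC
      rw [Fin.rev_rev]
      have e3 : ∀ S W' V T W U : Matrix (Fin n) (Fin n) F, (1 + S - W' + V) * (1 + T - W + U) =
          1 + T - W + U + S - W' + V + S * T - S * W + S * U - W' * T + W' * W - W' * U + V * T
            - V * W + V * U := by intros; noncomm_ring
      rw [e3]
      have hz1 : ∀ (i l : Fin n) (p q : F), Matrix.single i c p * Matrix.single a l q = 0 := by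
        intros; rw [Matrix.single_mul_single_of_ne (h := hac.symm)]
      have hz2 : ∀ (i l : Fin n) (p q : F), Matrix.single i a p * Matrix.single c l q = 0 := by
        intros; rw [Matrix.single_mul_single_of_ne (h := hac)]
      simp only [hz1, hz2, Matrix.single_mul_single_same]
      abel
    rw [e2]
    rw [Fin.lt_def, hσ s] at hlt
    simp only [Matrix.add_apply, Matrix.sub_apply, Matrix.one_apply, Matrix.single_apply]
    by_cases hrs : r = s
    · subst hrs
      have : r = Fin.rev a := by rw [Fin.ext_iff]; split_ifs at hlt <;> omega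
      subst this
      simp [hac, hac.symm, haa', haa'.symm, hca', hca'.symm]
      field_simp
      linear_combination hrelu
    · by_cases h1 : c = r ∧ Fin.rev a = s
      · obtain ⟨rfl, rfl⟩ := h1
        simp [hac, hac.symm, haa', haa'.symm, hca', hca'.symm]
        field_simp
        ring
      · by_cases h2 : Fin.rev a = r ∧ c = s
        · obtain ⟨rfl, rfl⟩ := h2
          simp [hac, hac.symm, haa', haa'.symm, hca', hca'.symm]
          field_simp
          ring
        · have n1 : ¬ (a = r ∧ c = s) := by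
            rw [Fin.ext_iff, Fin.ext_iff]; split_ifs at hlt <;> omega
          have n2 : ¬ (a = r ∧ Fin.rev a = s) := by
            rw [Fin.ext_iff, Fin.ext_iff]; split_ifs at hlt <;> omega
          have n3 : ¬ (c = r ∧ a = s) := by
            rw [Fin.ext_iff, Fin.ext_iff]; split_ifs at hlt <;> omega
          have n4 : ¬ (Fin.rev a = r ∧ a = s) := by
            rw [Fin.ext_iff, Fin.ext_iff]; split_ifs at hlt <;> omega
          have n5 : ¬ (Fin.rev a = r ∧ Fin.rev a = s) := fun h => hrs (h.1.symm.trans h.2)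
          have n6 : ¬ (c = r ∧ c = s) := fun h => hrs (h.1.symm.trans h.2)
          simp only [if_neg hrs, if_neg h1, if_neg h2, if_neg n1, if_neg n2, if_neg n3, if_neg n4,
            if_neg n5, if_neg n6]
          simp

end Cfsg.Agent.Helper20.UBN
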